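import Cfsg.Agent.U43Type.Final

/-!
The elements of order three of a factor are commutators of elements commuting with them.
-/

set_option autoImplicit false
set_option linter.style.haveILetI false
set_option maxRecDepth 100000

namespace CfsgLib.U43Type

open CfsgLib.Coset CfsgLib.J2U

/-- The first element commuting with the third letter. -/
def commU : List Nat := [7, 3, 8, 8, 2, 7]

/-- The second element commuting with the third letter. -/
def commV : List Nat := [8, 0, 2, 6, 8, 3, 7, 0]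

/-- The three equations. -/
def rootEqs : List (List Nat) :=
  [commU ++ [2] ++ (commU.map ivX).reverse ++ [3], commV ++ [2] ++ (commV.map ivX).reverse ++ [3],
    commU ++ commV ++ (commU.map ivX).reverse ++ (commV.map ivX).reverse ++ [3]]

theorem rootEqs_scal : (rootEqs.all fun w => Mats.isScal (Mats.codeW w)) = true := by decide +kernel

theorem three_to_h : ∀ w : SL, w * w * w = 1 → w ≠ 1 →
    ∃ N : SL, N * h₀ * N⁻¹ = w ∨ N * (h₀ * h₀) * N⁻¹ = w := by decide +kernel

variable {G : Type*} [Group G] {z : G} {φ : SL × SL →* G} {s i : G}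

/-- An element is a commutator of two elements commuting with it. -/
def SelfComm (y : G) : Prop :=
  ∃ u v : G, u * y = y * u ∧ v * y = y * v ∧ u * v * u⁻¹ * v⁻¹ = y

theorem SelfComm.conj {y : G} (h : SelfComm y) (g : G) : SelfComm (g * y * g⁻¹) := by
  obtain ⟨u, v, h1, h2, h3⟩ := h
  refine ⟨g * u * g⁻¹, g * v * g⁻¹, ?_, ?_, ?_⟩
  · calc g * u * g⁻¹ * (g * y * g⁻¹) = g * (u * y) * g⁻¹ := by group
      _ = g * (y * u) * g⁻¹ := by rw [h1]
      _ = _ := by group
  · calc g * v * g⁻¹ * (g * y * g⁻¹) = g * (v * y) * g⁻¹ := by group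
      _ = g * (y * v) * g⁻¹ := by rw [h2]
      _ = _ := by group
  · rw [← h3]; group

theorem SelfComm.inv {y : G} (h : SelfComm y) : SelfComm y⁻¹ := by
  obtain ⟨u, v, h1, h2, h3⟩ := h
  exact ⟨v, u, (Commute.inv_right h2).eq, (Commute.inv_right h1).eq, by rw [← h3]; group⟩

/-- The generator of order three is such a commutator. -/
theorem Loc.selfComm_h [Finite G] (D : Loc z φ s i) : SelfComm (φ (h₀, 1)) := by
  obtain ⟨r, R⟩ := D.exists_rdata
  obtain ⟨X, -, -, hback, -⟩ := D.iso_closure R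
  set L' := LX (φ (a₀, 1)) (φ (h₀, 1)) s i r with hL'
  have hiv : ∀ x, Coset.fl L' (ivX x) = (Coset.fl L' x)⁻¹ :=
    J2U.inv_of_rels (show L'.length = 9 from rfl) (D.relX R) (by decide +kernel)
      (fun x hx => List.getD_eq_default _ _ (by simpa using hx))
  have key : ∀ w ∈ rootEqs, Coset.ev L' w = 1 := fun w hw => hback w (by
    rw [ev_LP]
    exact (QuotientGroup.eq_one_iff _).2 (Mats.central_of_scal (List.all_eq_true.1 rootEqs_scal w hw)))
  have e2 : Coset.ev L' [2] = φ (h₀, 1) := by rw [Coset.ev_cons, Coset.ev_nil, mul_one]; rfl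
  have e3 : Coset.ev L' [3] = (φ (h₀, 1))⁻¹ := by rw [Coset.ev_cons, Coset.ev_nil, mul_one]; rfl
  have h1 := key (commU ++ [2] ++ (commU.map ivX).reverse ++ [3]) (by simp [rootEqs])
  have h2 := key (commV ++ [2] ++ (commV.map ivX).reverse ++ [3]) (by simp [rootEqs])
  have h3 := key (commU ++ commV ++ (commU.map ivX).reverse ++ (commV.map ivX).reverse ++ [3])
    (by simp [rootEqs])
  rw [Coset.ev_append, Coset.ev_append, Coset.ev_append, J2U.ev_inv_word hiv, e2, e3,
    mul_inv_eq_one, mul_inv_eq_iff_eq_mul] at h1 h2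
  rw [Coset.ev_append, Coset.ev_append, Coset.ev_append, Coset.ev_append, J2U.ev_inv_word hiv,
    J2U.ev_inv_word hiv, e3, mul_inv_eq_one] at h3
  exact ⟨_, _, h1, h2, h3⟩

/-- An element of order three lying in a factor is such a commutator. -/
theorem Pair.selfComm_of_factor [Finite G] (P₀ : Pair z φ) {w : SL} (hw : w * w * w = 1) (hw1 : w ≠ 1) :
    SelfComm (φ (w, 1)) := by
  obtain ⟨φ', s, i, D⟩ := P₀.exists_loc
  have hin : ∀ g : G, g ∈ Subgroup.centralizer ({z} : Set G) → g ^ 3 = 1 → g ∈ φ'.range := by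
    intro g hg h3
    set C := Subgroup.centralizer ({z} : Set G) with hC
    set N := φ'.range.subgroupOf C with hN
    haveI : N.Normal := ⟨by
      rintro ⟨x, hx⟩ hxN ⟨c, hc⟩
      obtain ⟨p, hp⟩ := Subgroup.mem_subgroupOf.1 hxN
      rw [Subgroup.mem_subgroupOf]
      show c * x * c⁻¹ ∈ φ'.range
      rw [← show φ' p = x from hp]
      exact D.P.normal c hc p⟩
    have hidx : N.index = 4 := by
      have hle : φ'.range ≤ C := by rintro _ ⟨p, rfl⟩; exact D.P.mem p
      have h := Subgroup.card_mul_index N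
      rw [Nat.card_congr (Subgroup.subgroupOfEquivOfLe hle).toEquiv, D.P.card_range, D.P.cardC] at h
      omega
    have h4 := Subgroup.pow_index_mem N (⟨g, hg⟩ : C)
    rw [hidx, Subgroup.mem_subgroupOf] at h4
    have e : g ^ 4 = g := by rw [pow_succ, h3, one_mul]
    simpa [e] using h4
  have hall : ∀ A B : SL, φ (A, B) ∈ φ'.range := by
    have h1 : ∀ A : SL, A ^ 3 = 1 → φ (A, 1) ∈ φ'.range ∧ φ (1, A) ∈ φ'.range := fun A hA =>
      ⟨hin _ (P₀.mem _) (by rw [← map_pow, Prod.pow_mk, hA, one_pow]; exact map_one φ),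
        hin _ (P₀.mem _) (by rw [← map_pow, Prod.pow_mk, hA, one_pow]; exact map_one φ)⟩
    obtain ⟨g1, g2⟩ := three_gens
    have hA : ∀ A : SL, φ (A, 1) ∈ φ'.range ∧ φ (1, A) ∈ φ'.range := by
      intro A
      obtain ⟨i, j, k, l, rfl⟩ := threes_generate A
      have e1 : ∀ x y : SL, φ (x * y, 1) = φ (x, 1) * φ (y, 1) := fun x y => by rw [← map_mul]; simp
      have e2 : ∀ x y : SL, φ (1, x * y) = φ (1, x) * φ (1, y) := fun x y => by rw [← map_mul]; simp
      have hp : ∀ (x : SL) (n : ℕ), x ^ 3 = 1 → φ (x ^ n, 1) ∈ φ'.range ∧ φ (1, x ^ n) ∈ φ'.range :=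
        fun x n hx => h1 _ (by rw [← pow_mul, mul_comm, pow_mul, hx, one_pow])
      refine ⟨?_, ?_⟩
      · rw [e1, e1, e1]
        exact mul_mem (mul_mem (mul_mem (hp _ _ g1).1 (hp _ _ g2).1) (hp _ _ g1).1) (hp _ _ g2).1
      · rw [e2, e2, e2]
        exact mul_mem (mul_mem (mul_mem (hp _ _ g1).2 (hp _ _ g2).2) (hp _ _ g1).2) (hp _ _ g2).2
    intro A B
    rw [show ((A, B) : SL × SL) = (A, 1) * (1, B) by simp, map_mul]
    exact mul_mem (hA A).1 (hA B).2
  obtain ⟨y, hy⟩ := hall w 1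
  obtain ⟨p, hp⟩ := hall 1 a₀
  obtain ⟨q, hq⟩ := hall 1 h₀
  have hc : ∀ B : SL, φ (1, B) * φ (w, 1) = φ (w, 1) * φ (1, B) := fun B => by
    rw [← map_mul, ← map_mul]; simp
  have hne : φ' y ≠ 1 := by
    rw [hy, ne_eq, P₀.ker]
    rintro (e | e)
    · exact hw1 (Prod.ext_iff.1 e).1
    · exact j₀_facts.2.1 (Prod.ext_iff.1 e).2.symm
  obtain ⟨v, hv, hv'⟩ := D.P.one_factor y
    (by rw [hy, ← map_mul, ← map_mul]; simp [hw, Prod.mk_one_one]) p q (by rw [hp, hy, hc]) (by rw [hq, hy, hc]) (by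
    rw [hp, hq, ← map_mul, ← map_mul, ne_eq, P₀.eq_iff]
    have key : a₀ * h₀ ≠ h₀ * a₀ ∧ a₀ * h₀ ≠ h₀ * a₀ * j₀ := by decide +kernel
    simp [key.1, key.2])
  have hv1 : v ≠ 1 := by
    rintro rfl
    rcases hv' with e | e <;> exact hne (e.trans (map_one φ'))
  have base : SelfComm (φ' (v, 1)) := by
    obtain ⟨N, hN⟩ := three_to_h v hv hv1
    have e : ∀ X : SL, φ' (N, 1) * φ' (X, 1) * (φ' (N, 1))⁻¹ = φ' (N * X * N⁻¹, 1) := fun X => by
      rw [← map_inv, ← map_mul, ← map_mul]; simp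
    rcases hN with hN | hN
    · rw [← hN, ← e]; exact D.selfComm_h.conj _
    · have hinv : φ' (h₀ * h₀, 1) = (φ' (h₀, 1))⁻¹ := by
        refine eq_inv_of_mul_eq_one_left ?_
        rw [← map_mul]; simp [gens_facts.2.1, Prod.mk_one_one]
      rw [← hN, ← e, hinv]; exact D.selfComm_h.inv.conj _
  rw [← hy]
  rcases hv' with e | e
  · rw [e]; exact base
  · rw [e, ← D.swap (v, 1)]; exact base.conj s

end CfsgLib.U43Type
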