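import Cfsg.Agent.U43Type.Iso

/-!
Five elements of a group satisfying the relators generate `PSU(4,3)`, unless the first is trivial.
-/

set_option autoImplicit false
set_option maxRecDepth 100000
set_option linter.style.haveILetI false

namespace CfsgLib.U43Type

open CfsgLib.Coset CfsgLib.J2U
open Cfsg.Agent.McLU43 (K9)

local notation "SU4" => Cfsg.SU 4 K9 3
local notation "PSU4" => Cfsg.PSU 4 K9 3

theorem ev_pow_word {A : Type*} [Group A] (L : List A) (w : List Nat) :
    ∀ k : Nat, ev L (List.replicate k w).flatten = ev L w ^ k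
  | 0 => by rw [List.replicate_zero, List.flatten_nil, ev_nil, pow_zero]
  | k + 1 => by
    rw [List.replicate_succ, List.flatten_cons, ev_append, ev_pow_word L w k, pow_succ']

/-- Four words of four letters combined with exponents. -/
def combW (ws : Fin 4 → List Nat) {p : ℕ} (e : Fin 4 → Fin p) : List Nat :=
  (List.replicate (e 0).val (ws 0)).flatten ++ (List.replicate (e 1).val (ws 1)).flatten ++
    (List.replicate (e 2).val (ws 2)).flatten ++ (List.replicate (e 3).val (ws 3)).flatten

/-- Four commuting independent elements of prime order give a divisor of the order. -/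
theorem pow_four_dvd {H : Type*} [Group H] [Finite H] {p : ℕ} [hp : Fact p.Prime] (x : Fin 4 → H)
    (hpow : ∀ k, x k ^ p = 1) (hcomm : ∀ k l, Commute (x k) (x l))
    (hker : ∀ e : Fin 4 → Fin p, x 0 ^ (e 0).val * x 1 ^ (e 1).val * x 2 ^ (e 2).val * x 3 ^ (e 3).val = 1 →
      ∀ k, (e k).val = 0) : p ^ 4 ∣ Nat.card H := by
  set A := Subgroup.closure (Set.range x) with hA
  have hle : A ≤ Subgroup.centralizer (A : Set H) := by
    rw [hA, Subgroup.centralizer_closure, Subgroup.closure_le]
    rintro _ ⟨k, rfl⟩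
    rw [SetLike.mem_coe, Subgroup.mem_centralizer_iff]
    rintro _ ⟨l, rfl⟩
    exact hcomm l k
  letI : CommGroup A :=
    { (inferInstance : Group A) with
      mul_comm := fun a b => Subtype.ext ((Subgroup.mem_centralizer_iff.1 (hle a.2) b b.2).symm) }
  let y : Fin 4 → A := fun k => ⟨x k, Subgroup.subset_closure ⟨k, rfl⟩⟩
  have hy : ∀ k, y k ^ p = 1 := fun k => Subtype.ext (hpow k)
  let F : (Fin 4 → Fin p) → A := fun e =>
    y 0 ^ (e 0).val * y 1 ^ (e 1).val * y 2 ^ (e 2).val * y 3 ^ (e 3).val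
  have hinj : Function.Injective F := by
    intro e e' h
    haveI : NeZero p := ⟨hp.out.ne_zero⟩
    have hs : ∀ k, y k ^ (e k).val = y k ^ (e k - e' k).val * y k ^ (e' k).val := fun k => by
      rw [← pow_add, pow_eq_pow_mod _ (hy k), pow_eq_pow_mod (_ + _) (hy k), ← Fin.val_add,
        sub_add_cancel, Nat.mod_eq_of_lt (e k).2]
    have h1 : F (fun k => e k - e' k) * F e' = F e' := by
      refine Eq.trans ?_ h
      show _ = y 0 ^ (e 0).val * y 1 ^ (e 1).val * y 2 ^ (e 2).val * y 3 ^ (e 3).val
      simp only [hs 0, hs 1, hs 2, hs 3, F]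
      ac_rfl
    have h2 := congrArg Subtype.val (mul_eq_right.1 h1)
    funext k
    have := hker (fun k => e k - e' k) h2 k
    exact sub_eq_zero.1 (Fin.ext this)
  have hAp : IsPGroup p A := by
    intro a
    refine ⟨1, ?_⟩
    rw [pow_one]
    obtain ⟨a, ha⟩ := a
    induction ha using Subgroup.closure_induction with
    | mem z hz => obtain ⟨k, rfl⟩ := hz; exact hy k
    | one => exact one_pow _
    | mul u v hu hv iu iv =>
      have : (⟨u * v, mul_mem hu hv⟩ : A) = ⟨u, hu⟩ * ⟨v, hv⟩ := rfl
      rw [this, mul_pow, iu, iv, one_mul]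
    | inv u hu iu =>
      have : (⟨u⁻¹, inv_mem hu⟩ : A) = (⟨u, hu⟩ : A)⁻¹ := rfl
      rw [this, inv_pow, iu, inv_one]
  obtain ⟨n, hn⟩ := hAp.exists_card_eq
  have h4 : p ^ 4 ≤ Nat.card A := by
    have := Nat.card_le_card_of_injective F hinj
    simpa [Nat.card_fun] using this
  rw [hn] at h4
  have h5 : 4 ≤ n := (Nat.pow_le_pow_iff_right hp.out.one_lt).1 h4
  exact (pow_dvd_pow p h5).trans (hn ▸ Subgroup.card_subgroup_dvd_card A)

/-- Commuting elementary generators of an elementary abelian subgroup of order 81. -/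
def nineWs : Fin 4 → List Nat := ![[2], [8, 2, 7], [7, 2, 8], [4, 2, 4]]

/-- Commuting generators of an elementary abelian subgroup of order 16. -/
def fourWs : Fin 4 → List Nat := ![[0, 0], [4], [0, 4, 0, 4], [2, 4, 2, 4, 0, 4, 0, 4, 4, 3, 4, 3]]

/-- The words are elementary and commute up to scalars. -/
def elemOK (p : ℕ) (ws : Fin 4 → List Nat) : Bool :=
  ((List.finRange 4).all fun k => Mats.isScal (Mats.codeW (List.replicate p (ws k)).flatten)) &&
    ((List.finRange 4).all fun k => (List.finRange 4).all fun l => Mats.isScal (Mats.codeW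
      (ws k ++ ws l ++ (List.replicate (p - 1) (ws k)).flatten ++ (List.replicate (p - 1) (ws l)).flatten)))

theorem elem_ok : elemOK 3 nineWs = true ∧ elemOK 2 fourWs = true := by decide +kernel

theorem indep_nine : ∀ e0 e1 e2 e3 : Fin 3, ((e0.val == 0 && e1.val == 0 && e2.val == 0 && e3.val == 0) ||
    (List.finRange 9).any (fun l => noncentral (combW nineWs ![e0, e1, e2, e3]) l)) = true := by
  decide +kernel

theorem indep_four : ∀ e0 e1 e2 e3 : Fin 2, ((e0.val == 0 && e1.val == 0 && e2.val == 0 && e3.val == 0) ||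
    (List.finRange 9).any (fun l => noncentral (combW fourWs ![e0, e1, e2, e3]) l)) = true := by
  decide +kernel

theorem dvd_range {H : Type*} [Group H] [Finite H] (f : H →* PSU4) (hev : ∀ w, ev LP w ∈ f.range)
    {p : ℕ} [hp : Fact p.Prime] {ws : Fin 4 → List Nat} (he : elemOK p ws = true)
    (hind : ∀ e0 e1 e2 e3 : Fin p, ((e0.val == 0 && e1.val == 0 && e2.val == 0 && e3.val == 0) ||
      (List.finRange 9).any (fun l => noncentral (combW ws ![e0, e1, e2, e3]) l)) = true) :
    p ^ 4 ∣ Nat.card f.range := by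
  simp only [elemOK, Bool.and_eq_true, List.all_eq_true, List.mem_finRange, forall_const] at he
  have hone : ∀ {w}, Mats.isScal (Mats.codeW w) = true → ev LP w = 1 := fun h => by
    rw [ev_LP]; exact (QuotientGroup.eq_one_iff _).2 (Mats.central_of_scal h)
  have hpw : ∀ k, ev LP (ws k) ^ p = 1 := fun k => by rw [← ev_pow_word]; exact hone (he.1 k)
  refine pow_four_dvd (fun k => ⟨ev LP (ws k), hev _⟩) (fun k => Subtype.ext (hpw k)) (fun k l => ?_)
    fun e h k => ?_
  · refine Subtype.ext ?_
    show ev LP (ws k) * ev LP (ws l) = ev LP (ws l) * ev LP (ws k)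
    have h1 := hone (he.2 k l)
    rw [ev_append, ev_append, ev_append, ev_pow_word, ev_pow_word] at h1
    have hinv : ∀ j, ev LP (ws j) ^ (p - 1) = (ev LP (ws j))⁻¹ := fun j =>
      eq_inv_of_mul_eq_one_left (by rw [← pow_succ, Nat.sub_add_cancel hp.out.one_le, hpw])
    rw [hinv, hinv] at h1
    calc ev LP (ws k) * ev LP (ws l) =
          ev LP (ws k) * ev LP (ws l) * (ev LP (ws k))⁻¹ * (ev LP (ws l))⁻¹ *
            (ev LP (ws l) * ev LP (ws k)) := by group
      _ = _ := by rw [h1, one_mul]
  · have h1 : ev LP (combW ws e) = 1 := by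
      have := congrArg Subtype.val h
      simpa [combW, ev_append, ev_pow_word, mul_assoc] using this
    have he4 : ![e 0, e 1, e 2, e 3] = e := by funext j; fin_cases j <;> rfl
    have := hind (e 0) (e 1) (e 2) (e 3)
    rw [he4] at this
    rw [Bool.or_eq_true] at this
    simp only [Bool.and_eq_true, beq_iff_eq] at this
    rcases this with ⟨⟨⟨a0, a1⟩, a2⟩, a3⟩ | this
    rotate_left
    · obtain ⟨l, -, hl⟩ := List.any_eq_true.1 this
      exact absurd h1 (LP_ne hl)
    · fin_cases k <;> assumption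

variable {G : Type*} [Group G]

/-- Five elements satisfying the relators generate the unitary group. -/
theorem iso_of_rels (a h s i r : G) (hrel' : ∀ w ∈ relsQ, ev (LX a h s i r) w = 1) (hne : a ≠ 1) :
    Nonempty ((Subgroup.closure {x | x ∈ LX a h s i r} : Subgroup G) ≃* PSU4) := by
  let qa : G × PSU4 := (a, toP (Mats.gen 0))
  let qh : G × PSU4 := (h, toP (Mats.gen 2))
  let qs : G × PSU4 := (s, toP (Mats.gen 4))
  let qi : G × PSU4 := (i, toP (Mats.gen 5))
  let qr : G × PSU4 := (r, toP (Mats.gen 7))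
  let LQ := LX qa qh qs qi qr
  let LQC := LC qa qh qs qi
  have hf1 : ∀ w, (ev LQ w).1 = ev (LX a h s i r) w := fun w => by
    have := ev_hom (MonoidHom.fst G PSU4) LQ w
    rw [map_LX] at this
    exact this
  have hf2 : ∀ w, (ev LQ w).2 = ev LP w := fun w => by
    have := ev_hom (MonoidHom.snd G PSU4) LQ w
    rw [map_LX] at this
    exact this
  have hrel : ∀ w ∈ relsQ, ev LQ w = 1 := fun w hw =>
    Prod.ext ((hf1 w).trans (hrel' w hw)) ((hf2 w).trans (LP_rel w hw))
  have hfl : ∀ l < 7, fl LQ l = fl LQC l := by intro l hl; interval_cases l <;> rfl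
  have hev : ∀ w : List Nat, (∀ l ∈ w, l < 7) → ev LQ w = ev LQC w := by
    intro w hw
    induction w with
    | nil => rfl
    | cons l w ih =>
      rw [ev_cons, ev_cons, hfl l (hw l List.mem_cons_self), ih fun m hm => hw m (List.mem_cons_of_mem _ hm)]
  have hrelC : ∀ w ∈ relsC true true, ev LQC w = 1 := by
    intro w hw
    rw [← hev w ((by decide : ∀ w ∈ relsC true true, ∀ l ∈ w, l < 7) w hw)]
    refine hrel w ?_
    simp only [relsC, relsQ, relsX, List.mem_append] at hw ⊢
    tauto
  have hivC : ∀ x, fl LQC (ivC x) = (fl LQC x)⁻¹ :=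
    inv_of_rels (show LQC.length = 7 from rfl) hrelC (by decide +kernel)
      (fun x hx => List.getD_eq_default _ _ (by simpa using hx))
  have htC := tableOK_of_check (H := (⊥ : Subgroup (G × PSU4))) hivC C11.hR C11.hdefs C11.hsteps C11.htable hrelC
    (by simp [C11.subs])
  set HC := Subgroup.closure {x | x ∈ LQC} with hHC
  have finHC : Finite HC ∧ Nat.card HC ≤ 1152 := by
    have := htC.finite_card_le (by norm_num) bot_le (m := 1) inferInstance (by simp)
    simpa [hHC] using this
  have hivX : ∀ x, fl LQ (ivX x) = (fl LQ x)⁻¹ :=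
    inv_of_rels (show LQ.length = 9 from rfl) hrel (by decide +kernel)
      (fun x hx => List.getD_eq_default _ _ (by simpa using hx))
  have htX := tableOK_of_check (H := HC) hivX X2835.hR X2835.hdefs X2835.hsteps X2835.htable hrel (by
    intro w hw
    simp only [X2835.subs, List.mem_cons, List.not_mem_nil, or_false] at hw
    rcases hw with rfl | rfl | rfl | rfl | rfl | rfl | rfl <;>
      (rw [ev_cons, ev_nil, mul_one, hfl _ (by norm_num)]; exact mem_closure_fl _))
  set Pp := Subgroup.closure {x | x ∈ LQ} with hPp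
  have hHP : HC ≤ Pp := Subgroup.closure_mono (fun x hx => by
    simp only [LQC, LC, LQ, LX, Set.mem_setOf_eq, List.mem_cons, List.not_mem_nil, or_false] at hx ⊢
    tauto)
  obtain ⟨finPp, cardPp⟩ : Finite Pp ∧ Nat.card Pp ≤ 3265920 := by
    have := htX.finite_card_le (by norm_num) hHP (m := 1152) finHC.1 finHC.2
    norm_num at this
    exact this
  haveI := finPp
  let g2 : Pp →* PSU4 := (MonoidHom.snd G PSU4).comp Pp.subtype
  have hYev : ∀ w, ev LP w ∈ g2.range := fun w => by
    refine ⟨⟨ev LQ w, ?_⟩, hf2 w⟩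
    rw [ev]
    refine list_prod_mem fun x hx => ?_
    obtain ⟨l, -, rfl⟩ := List.mem_map.1 hx
    exact mem_closure_fl l
  haveI : Fact (Nat.Prime 2) := ⟨Nat.prime_two⟩
  haveI : Fact (Nat.Prime 3) := ⟨Nat.prime_three⟩
  have h81 : 3 ^ 4 ∣ Nat.card g2.range := dvd_range g2 hYev elem_ok.1 indep_nine
  have h16 : 2 ^ 4 ∣ Nat.card g2.range := dvd_range g2 hYev elem_ok.2 indep_four
  obtain ⟨o5, o7⟩ := LP_order
  have h5 : 5 ∣ Nat.card g2.range := o5 ▸ Subgroup.orderOf_dvd_natCard g2.range (hYev _)
  have h7 : 7 ∣ Nat.card g2.range := o7 ▸ Subgroup.orderOf_dvd_natCard g2.range (hYev _)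
  have hcard := CfsgLib.MinIdxPSU.card_psu43 (F := K9) CfsgLib.J2.Perm.hF
  haveI : Finite PSU4 := Nat.finite_of_card_ne_zero (by rw [hcard]; norm_num)
  have hYtop : g2.range = ⊤ := by
    by_contra hne'
    have h112 := CfsgLib.MinIdxPSU.psu_four_three CfsgLib.J2.Perm.hF g2.range hne'
    have hd : 45360 ∣ Nat.card g2.range := by
      have a : 81 * 16 ∣ Nat.card g2.range :=
        Nat.Coprime.mul_dvd_of_dvd_of_dvd (by norm_num) h81 h16
      have b : 5 * 7 ∣ Nat.card g2.range := Nat.Coprime.mul_dvd_of_dvd_of_dvd (by norm_num) h5 h7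
      exact Nat.Coprime.mul_dvd_of_dvd_of_dvd (by norm_num : Nat.Coprime (81 * 16) (5 * 7)) a b
    obtain ⟨k, hk⟩ := hd
    have hmul : Nat.card g2.range * g2.range.index = 3265920 := by rw [Subgroup.card_mul_index, hcard]
    rw [hk, mul_assoc] at hmul
    have h72 : k * g2.range.index = 72 := by omega
    have := Nat.le_of_dvd (by norm_num) (Dvd.intro_left _ h72)
    omega
  have g2surj : Function.Surjective g2 := MonoidHom.range_eq_top.1 hYtop
  have g2bij : Function.Bijective g2 := by
    refine (Nat.bijective_iff_surjective_and_card _).2 ⟨g2surj, ?_⟩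
    have := Nat.card_le_card_of_surjective _ g2surj
    rw [hcard] at this ⊢
    omega
  let e2 := MulEquiv.ofBijective g2 g2bij
  haveI hsimple : IsSimpleGroup PSU4 :=
    CfsgLib.Unitary.isSimpleGroup_PSU CfsgLib.J2.Perm.hF (n := 4) (by norm_num) (by norm_num)
  haveI : IsSimpleGroup Pp := by
    haveI : Nontrivial Pp := e2.toEquiv.nontrivial
    exact IsSimpleGroup.isSimpleGroup_of_surjective e2.symm.toMonoidHom e2.symm.surjective
  let g1 : Pp →* G := (MonoidHom.fst G PSU4).comp Pp.subtype
  have hr : g1.range = Subgroup.closure {x | x ∈ LX a h s i r} := by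
    rw [MonoidHom.range_comp, Subgroup.range_subtype, hPp, MonoidHom.map_closure]
    congr 1
    ext x
    simp only [Set.mem_image, Set.mem_setOf_eq, LQ]
    rw [show LX a h s i r = (LX qa qh qs qi qr).map (MonoidHom.fst G PSU4) from
      (map_LX (MonoidHom.fst G PSU4) qa qh qs qi qr).symm, List.mem_map]
  rcases (inferInstance : g1.ker.Normal).eq_bot_or_eq_top with hk | hk
  · exact ⟨(MulEquiv.subgroupCongr hr.symm).trans
      ((MonoidHom.ofInjective ((MonoidHom.ker_eq_bot_iff g1).1 hk)).symm.trans e2)⟩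
  · exfalso
    have : g1 ⟨qa, Subgroup.subset_closure (by simp [LQ, LX])⟩ = 1 := by
      rw [← MonoidHom.mem_ker, hk]; exact Subgroup.mem_top _
    exact hne this

end CfsgLib.U43Type
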