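import Cfsg.Agent.Coset.Prim

/-!
Letters and relators: `a = 0`, `a⁻¹ = 1`, `h = 2`, `h⁻¹ = 3`, `s = 4`, `i = 5`, `i⁻¹ = 6`, and for the
whole group `r = 7`, `r⁻¹ = 8`.
-/

set_option autoImplicit false

namespace CfsgLib.U43Type

/-- Letters of the centraliser. -/
def ivC (x : Nat) : Nat := ([1, 0, 3, 2, 4, 6, 5] : List Nat).getD x x

/-- Letters of the whole group. -/
def ivX (x : Nat) : Nat := ([1, 0, 3, 2, 4, 6, 5, 8, 7] : List Nat).getD x x

/-- Relators that hold in all cases. -/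
def relsK : List (List Nat) :=
  [[0, 0, 0, 0], [2, 2, 2], [0, 2, 0, 3, 2, 2, 1, 3, 3], [0, 0, 2, 1, 1, 3], [4, 4], [0, 0, 4, 1, 1, 4],
    [0, 4, 0, 4, 1, 4, 1, 4], [0, 4, 2, 4, 1, 4, 3, 4], [2, 4, 0, 4, 3, 4, 1, 4], [2, 4, 2, 4, 3, 4, 3, 4],
    [5, 0, 6, 0], [5, 2, 6, 2]]

/-- The two relators that depend on the case. -/
def relsE (e f : Bool) : List (List Nat) :=
  [[5, 5] ++ (if e then [1, 1] else []), [5, 4, 6, 4] ++ (if f then [1, 1] else [])]

/-- The pairs of letters. -/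
def pairsC : List (List Nat) := [[0, 1], [1, 0], [2, 3], [3, 2], [4, 4], [5, 6], [6, 5]]

/-- The relators of the centraliser. -/
def relsC (e f : Bool) : List (List Nat) := relsK ++ relsE e f ++ pairsC

/-- The relators with the element of order three outside the centraliser. -/
def relsR : List (List Nat) :=
  [[7, 7, 7], [7, 2, 4, 2, 4, 8, 4, 3, 4, 3], [5, 4, 7, 5, 4, 7], [2, 8, 2, 7, 3, 8, 3, 7],
    [7, 0, 4, 0, 4, 8, 4, 1, 4, 1],
    [7, 3, 0, 2, 5, 7, 3, 0, 2, 5, 7, 3, 0, 2, 5, 7, 3, 0, 2, 5, 7, 3, 0, 2, 5], [8, 0, 0, 7, 4]]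

/-- The relators of the amalgam. -/
def relsX : List (List Nat) := relsK ++ relsE true true ++ relsR ++ pairsC ++ [[7, 8], [8, 7]]

/-- A word that is trivial in every simple completion. -/
def cW : List Nat := [0, 2, 0, 4, 3, 0, 4, 7, 0, 2, 7, 2, 7, 1, 2, 7, 2, 7, 0, 2, 7, 3, 7]

/-- All relators. -/
def relsQ : List (List Nat) := relsX ++ [cW]

end CfsgLib.U43Type
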