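import Cfsg.Agent.U43Type.Four
import Cfsg.Agent.U43Type.TabDefs
import Cfsg.Agent.J2U.Calc

/-!
The centraliser as a table of its 1152 elements.
-/

set_option autoImplicit false
set_option maxRecDepth 100000

namespace CfsgLib.U43Type

open CfsgLib.Coset CfsgLib.J2U

/-- The list of letters of the centraliser. -/
def LC {G : Type*} [Group G] (a h s i : G) : List G := [a, a⁻¹, h, h⁻¹, s, i, i⁻¹]

/-- The list of letters of the whole group. -/
def LX {G : Type*} [Group G] (a h s i r : G) : List G := [a, a⁻¹, h, h⁻¹, s, i, i⁻¹, r, r⁻¹]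

/-- The centraliser described by a table. -/
structure Ctx {G : Type*} [Group G] (z : G) (L : List G) (Tb Par : Nat → Nat) : Prop where
  tab : ∃ E Rep, TableOK L (⊥ : Subgroup G) E ivC 1152 Rep Tb
  len : L.length = 7
  inv : ∀ x, fl L (ivC x) = (fl L x)⁻¹
  path : checkPath Tb Par 12 1152 7 11 = true
  gen : Subgroup.closure {x | x ∈ L} = Subgroup.centralizer ({z} : Set G)
  card : Nat.card (Subgroup.centralizer ({z} : Set G)) = 1152

/-- The word of a node. -/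
noncomputable def wdN (Par : Nat → Nat) (i : Nat) : List Nat := pathW Par 12 i

/-- Equality of nodes. -/
noncomputable def eqN (Tb : Nat → Nat) (u v : List Nat) : Bool :=
  Nat.beq (follow (tget Tb) 0 u) (follow (tget Tb) 0 v)

/-- The inverse word. -/
def invW (w : List Nat) : List Nat := (w.map ivC).reverse

/-- All letters are letters of the centraliser. -/
noncomputable def okW (w : List Nat) : Bool := allList (fun l => Nat.blt l 7) w

theorem okW_iff {w : List Nat} : okW w = true ↔ ∀ l ∈ w, l < 7 := by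
  simp [okW, allList_iff, Nat.blt_eq]

variable {G : Type*} [Group G] {z : G} {L : List G} {Tb Par : Nat → Nat}

namespace Ctx

variable (K : Ctx z L Tb Par)

include K

theorem eq {u v : List Nat} (hu : ∀ l ∈ u, l < 7) (hv : ∀ l ∈ v, l < 7) (h : eqN Tb u v = true) :
    ev L u = ev L v := by
  obtain ⟨E, Rep, ht⟩ := K.tab
  exact ev_eq_of_follow ht (by norm_num) (by rw [K.len]; exact hu) (by rw [K.len]; exact hv)
    (Nat.eq_of_beq_eq_true h)

theorem eq' {u v : List Nat} (h : sameT Tb 7 u v = true) : ev L u = ev L v := by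
  obtain ⟨E, Rep, ht⟩ := K.tab
  exact ev_eq_of_sameT ht (by norm_num) K.len h

theorem ne {u v : List Nat} (hu : ∀ l ∈ u, l < 7) (hv : ∀ l ∈ v, l < 7) (h : ev L u = ev L v) :
    eqN Tb u v = true := by
  obtain ⟨E, Rep, ht⟩ := K.tab
  have := follow_eq_of_ev ht (by norm_num) (by rw [K.gen, K.card]) (u := u) (v := v)
    (by rw [K.len]; exact hu) (by rw [K.len]; exact hv) h
  simp [eqN, this]

theorem ex {c : G} (hc : c * z = z * c) :
    ∃ i < 1152, c = ev L (wdN Par i) ∧ ∀ l ∈ wdN Par i, l < 7 := by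
  obtain ⟨E, Rep, ht⟩ := K.tab
  have hc' : c ∈ Subgroup.closure {v | v ∈ L} := by
    rw [K.gen]; exact Subgroup.mem_centralizer_singleton_iff.2 hc
  obtain ⟨i, hi, he⟩ := exists_path ht (by norm_num) (fuel := 12) (dn := 11) (Par := Par)
    (by rw [K.len]; exact K.path) hc'
  exact ⟨i, hi, he, (checkPath_iff K.path hi).1⟩

theorem mem_ev {w : List Nat} : ev L w ∈ Subgroup.centralizer ({z} : Set G) := by
  rw [← K.gen, ev]
  refine list_prod_mem fun x hx => ?_
  obtain ⟨l, -, rfl⟩ := List.mem_map.1 hx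
  exact mem_closure_fl l

theorem ev_invW (w : List Nat) : ev L (invW w) = (ev L w)⁻¹ := ev_inv_word K.inv w

end Ctx

theorem sl_rel : a₀ ^ 4 = 1 ∧ a₀ * h₀ * a₀ * h₀⁻¹ * h₀ * h₀ * a₀⁻¹ * h₀⁻¹ * h₀⁻¹ = 1 ∧
    a₀ * a₀ = j₀ ∧ j₀⁻¹ = j₀ := by decide +kernel

theorem ev_LC_ab (a h s i : G) : fl (LC a h s i) 0 = a ∧ fl (LC a h s i) 1 = a⁻¹ ∧
    fl (LC a h s i) 2 = h ∧ fl (LC a h s i) 3 = h⁻¹ ∧ fl (LC a h s i) 4 = s ∧ fl (LC a h s i) 5 = i ∧
    fl (LC a h s i) 6 = i⁻¹ := ⟨rfl, rfl, rfl, rfl, rfl, rfl, rfl⟩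

theorem mem_closure_LC (a h s i : G) :
    Subgroup.closure {x | x ∈ LC a h s i} = Subgroup.closure ({a, h, s, i} : Set G) := by
  refine le_antisymm ((Subgroup.closure_le _).2 ?_) (Subgroup.closure_mono ?_)
  · intro x hx
    simp only [LC, Set.mem_setOf_eq, List.mem_cons, List.not_mem_nil, or_false] at hx
    have ha : a ∈ Subgroup.closure ({a, h, s, i} : Set G) := Subgroup.subset_closure (by simp)
    have hh : h ∈ Subgroup.closure ({a, h, s, i} : Set G) := Subgroup.subset_closure (by simp)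
    have hs : s ∈ Subgroup.closure ({a, h, s, i} : Set G) := Subgroup.subset_closure (by simp)
    have hi : i ∈ Subgroup.closure ({a, h, s, i} : Set G) := Subgroup.subset_closure (by simp)
    rcases hx with rfl | rfl | rfl | rfl | rfl | rfl | rfl
    · exact ha
    · exact inv_mem ha
    · exact hh
    · exact inv_mem hh
    · exact hs
    · exact hi
    · exact inv_mem hi
  · intro x hx
    simp only [Set.mem_insert_iff, Set.mem_singleton_iff] at hx
    simp only [LC, Set.mem_setOf_eq, List.mem_cons, List.not_mem_nil, or_false]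
    tauto

set_option maxHeartbeats 2000000 in
/-- The relators hold. -/
theorem Pair.rels {φ : SL × SL →* G} (P : Pair z φ) {s i : G}
    (hs : s ∈ Subgroup.centralizer ({z} : Set G)) (hs2 : s * s = 1)
    (hsw : ∀ p, s * φ p * s⁻¹ = φ (p.2, p.1)) (hi : ∀ p, i * φ p * i⁻¹ = φ (τ p.1, τ p.2)) (e f : Bool)
    (he : i * i = if e then z else 1) (hf : i * s * i⁻¹ * s = if f then z else 1) :
    ∀ w ∈ relsC e f, ev (LC (φ (a₀, 1)) (φ (h₀, 1)) s i) w = 1 := by
  have si : s⁻¹ = s := inv_eq_of_mul_eq_one_right hs2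
  have hsw' : ∀ p, s * φ p * s = φ (p.2, p.1) := fun p => by rw [← hsw p, si]
  have hz : φ (a₀, 1) * φ (a₀, 1) = z := by rw [← map_mul, Prod.mk_mul_mk, mul_one, sl_rel.2.2.1, P.zeq]
  have zz := P.zz
  have hz' : (φ (a₀, 1))⁻¹ * (φ (a₀, 1))⁻¹ = z := by
    rw [← mul_inv_rev, hz]; exact inv_eq_of_mul_eq_one_right zz
  have sz : s * z = z * s := Subgroup.mem_centralizer_singleton_iff.1 hs
  obtain ⟨l0, l1, l2, l3, l4, l5, l6⟩ := ev_LC_ab (φ (a₀, 1)) (φ (h₀, 1)) s i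
  intro w hw
  simp only [relsC, relsK, relsE, pairsC, List.mem_append, List.mem_cons, List.not_mem_nil, or_false] at hw
  have hcomm : ∀ A B : SL, φ (A, 1) * (s * φ (B, 1) * s) * φ (A⁻¹, 1) * (s * φ (B⁻¹, 1) * s) = 1 := fun A B => by
    simp only [hsw', ← map_mul]
    simp [Prod.mk_one_one]
  rcases hw with ((rfl | rfl | rfl | rfl | rfl | rfl | rfl | rfl | rfl | rfl | rfl | rfl) | rfl | rfl) |
    rfl | rfl | rfl | rfl | rfl | rfl | rfl <;>
    simp only [ev_cons, ev_nil, ev_append, l0, l1, l2, l3, l4, l5, l6, mul_one, one_mul]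
  · rw [← map_mul, ← map_mul, ← map_mul,
      show ((a₀, 1) : SL × SL) * ((a₀, 1) * ((a₀, 1) * (a₀, 1))) = 1 by decide +kernel, map_one]
  · rw [← map_mul, ← map_mul, Prod.mk_mul_mk, Prod.mk_mul_mk, one_mul, one_mul, ← mul_assoc,
      show h₀ * h₀ * h₀ = 1 from gens_facts.2.1, ← map_one φ]; rfl
  · calc _ = φ ((a₀, 1) * (h₀, 1) * (a₀, 1) * (h₀, 1)⁻¹ * (h₀, 1) * (h₀, 1) * (a₀, 1)⁻¹ * (h₀, 1)⁻¹ * (h₀, 1)⁻¹) := by
          simp only [map_mul, map_inv, mul_assoc]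
      _ = 1 := by
        rw [show ((a₀, 1) : SL × SL) * (h₀, 1) * (a₀, 1) * (h₀, 1)⁻¹ * (h₀, 1) * (h₀, 1) * (a₀, 1)⁻¹ * (h₀, 1)⁻¹ *
          (h₀, 1)⁻¹ = 1 by decide +kernel, map_one]
  · have hh : φ (h₀, 1) * z = z * φ (h₀, 1) := Subgroup.mem_centralizer_singleton_iff.1 (P.mem _)
    calc _ = (φ (a₀, 1) * φ (a₀, 1)) * φ (h₀, 1) * ((φ (a₀, 1))⁻¹ * (φ (a₀, 1))⁻¹) * (φ (h₀, 1))⁻¹ := by group
      _ = 1 := by rw [hz, hz', mul_assoc z, hh, ← mul_assoc, zz, one_mul, mul_inv_cancel]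
  · exact hs2
  · calc _ = (φ (a₀, 1) * φ (a₀, 1)) * s * ((φ (a₀, 1))⁻¹ * (φ (a₀, 1))⁻¹) * s := by group
      _ = 1 := by rw [hz, hz', mul_assoc z, sz, ← mul_assoc, zz, one_mul, hs2]
  · calc _ = φ (a₀, 1) * (s * φ (a₀, 1) * s) * φ (a₀⁻¹, 1) * (s * φ (a₀⁻¹, 1) * s) := by
          rw [show φ (a₀⁻¹, 1) = (φ (a₀, 1))⁻¹ by rw [← map_inv]; simp]; group
      _ = 1 := hcomm _ _
  · calc _ = φ (a₀, 1) * (s * φ (h₀, 1) * s) * φ (a₀⁻¹, 1) * (s * φ (h₀⁻¹, 1) * s) := by
          rw [show φ (a₀⁻¹, 1) = (φ (a₀, 1))⁻¹ by rw [← map_inv]; simp,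
            show φ (h₀⁻¹, 1) = (φ (h₀, 1))⁻¹ by rw [← map_inv]; simp]; group
      _ = 1 := hcomm _ _
  · calc _ = φ (h₀, 1) * (s * φ (a₀, 1) * s) * φ (h₀⁻¹, 1) * (s * φ (a₀⁻¹, 1) * s) := by
          rw [show φ (a₀⁻¹, 1) = (φ (a₀, 1))⁻¹ by rw [← map_inv]; simp,
            show φ (h₀⁻¹, 1) = (φ (h₀, 1))⁻¹ by rw [← map_inv]; simp]; group
      _ = 1 := hcomm _ _
  · calc _ = φ (h₀, 1) * (s * φ (h₀, 1) * s) * φ (h₀⁻¹, 1) * (s * φ (h₀⁻¹, 1) * s) := by
          rw [show φ (h₀⁻¹, 1) = (φ (h₀, 1))⁻¹ by rw [← map_inv]; simp]; group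
      _ = 1 := hcomm _ _
  · calc _ = (i * φ (a₀, 1) * i⁻¹) * φ (a₀, 1) := by group
      _ = 1 := by rw [hi, τ_a₀, τ_one, ← map_mul]; simp [Prod.mk_one_one]
  · calc _ = (i * φ (h₀, 1) * i⁻¹) * φ (h₀, 1) := by group
      _ = 1 := by rw [hi, τ_h₀, τ_one, ← map_mul]; simp [Prod.mk_one_one]
  · cases e
    · simpa using he
    · simp only [if_true, ev_cons, ev_nil, l1, mul_one] at he ⊢
      rw [hz', he, zz]
  · cases f
    · simp only [Bool.false_eq_true, if_false, ev_nil, mul_one] at hf ⊢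
      rw [← mul_assoc, ← mul_assoc]; exact hf
    · simp only [if_true, ev_cons, ev_nil, l1, mul_one] at hf ⊢
      rw [hz', ← mul_assoc i, ← mul_assoc (i * s), hf, zz]
  · exact mul_inv_cancel _
  · exact inv_mul_cancel _
  · exact mul_inv_cancel _
  · exact inv_mul_cancel _
  · exact hs2
  · exact mul_inv_cancel _
  · exact inv_mul_cancel _

/-- The table of the centraliser, from its checks. -/
theorem Pair.ctx {φ : SL × SL →* G} (P : Pair z φ) {s i : G}
    (hs : s ∈ Subgroup.centralizer ({z} : Set G)) (hs2 : s * s = 1)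
    (hsw : ∀ p, s * φ p * s⁻¹ = φ (p.2, p.1)) (hi : ∀ p, i * φ p * i⁻¹ = φ (τ p.1, τ p.2))
    (hgen : Subgroup.centralizer ({z} : Set G) = Subgroup.closure ({φ (a₀, 1), φ (h₀, 1), s, i} : Set G))
    (e f : Bool) (he : i * i = if e then z else 1) (hf : i * s * i⁻¹ * s = if f then z else 1)
    {E C Rep Ref Tb Par : Nat → Nat} {R : Tr (List Nat × Nat)} {dN N dC nC bd : Nat}
    (hR : checkRules (relsC e f) [] R = true) (hdefs : checkDefs E 7 dN N = true)
    (hsteps : checkChunks E ivC R 7 dC N nC C = true)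
    (htable : checkTable E ivC bd 1152 7 11 3 Rep Ref Tb = true) (hbd : bd = N + chunk * nC)
    (hpath : checkPath Tb Par 12 1152 7 11 = true) :
    Ctx z (LC (φ (a₀, 1)) (φ (h₀, 1)) s i) Tb Par := by
  set L := LC (φ (a₀, 1)) (φ (h₀, 1)) s i with hL
  have hrel := P.rels hs hs2 hsw hi e f he hf
  rw [← hL] at hrel
  have hiv : ∀ x, fl L (ivC x) = (fl L x)⁻¹ :=
    inv_of_rels (show L.length = 7 from rfl) hrel (by cases e <;> cases f <;> decide +kernel)
      (fun x hx => List.getD_eq_default _ _ (by simpa using hx))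
  subst hbd
  exact ⟨⟨E, Rep, tableOK_of_check hiv hR hdefs hsteps htable hrel (by simp)⟩, rfl, hiv, hpath,
    by rw [mem_closure_LC, hgen], P.cardC⟩

end CfsgLib.U43Type
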