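import Cfsg.Agent.McLU43.Unitary
import Cfsg.Agent.U43Type.Core

/-!
Five unitary matrices satisfying all relators up to scalars.
-/

set_option autoImplicit false
set_option maxRecDepth 100000

namespace CfsgLib.U43Type.Mats

open Matrix CfsgLib.Coset
open Cfsg.Agent.McLU43 (K9 dec fadd fmul fadd_lt fmul_lt dec_add dec_mul dec_inj dec_zero dec_one)

local notation "SU4" => Cfsg.SU 4 K9 3

/-- An entry of a matrix coded in base nine. -/
def ent (X : Nat) (i k : Nat) : Nat := X / 9 ^ (4 * i + k) % 9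

/-- The decoded matrix. -/
def toM (X : Nat) : Matrix (Fin 4) (Fin 4) K9 := Matrix.of fun i k => dec (ent X i.val k.val)

/-- The nine matrices. -/
def mats : List Nat :=
  [21659033466970, 78238130178262, 1054075974448694, 1671759831262994, 5104657146036, 1129728334135788,
    1656675947195325, 385501680994669, 335113406540491]

/-- The code of a matrix. -/
def mN (l : Fin 9) : Nat := mats.getD l.val 0

theorem det_ok : ∀ l : Fin 9,
    (let M := toM (mN l)
    M 0 0 * (M 1 1 * (M 2 2 * M 3 3 - M 2 3 * M 3 2) - M 1 2 * (M 2 1 * M 3 3 - M 2 3 * M 3 1) +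
      M 1 3 * (M 2 1 * M 3 2 - M 2 2 * M 3 1)) -
    M 0 1 * (M 1 0 * (M 2 2 * M 3 3 - M 2 3 * M 3 2) - M 1 2 * (M 2 0 * M 3 3 - M 2 3 * M 3 0) +
      M 1 3 * (M 2 0 * M 3 2 - M 2 2 * M 3 0)) +
    M 0 2 * (M 1 0 * (M 2 1 * M 3 3 - M 2 3 * M 3 1) - M 1 1 * (M 2 0 * M 3 3 - M 2 3 * M 3 0) +
      M 1 3 * (M 2 0 * M 3 1 - M 2 1 * M 3 0)) -
    M 0 3 * (M 1 0 * (M 2 1 * M 3 2 - M 2 2 * M 3 1) - M 1 1 * (M 2 0 * M 3 2 - M 2 2 * M 3 0) +
      M 1 2 * (M 2 0 * M 3 1 - M 2 1 * M 3 0))) = 1 := by decide +kernel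

theorem gen_det (l : Fin 9) : (toM (mN l)).det = 1 := (Cfsg.Agent.McLU43.det_four _).trans (det_ok l)

theorem gen_unitary : ∀ l : Fin 9, ∀ k m : Fin 4,
    toM (mN l) 0 k * toM (mN l) 0 m ^ 3 + toM (mN l) 1 k * toM (mN l) 1 m ^ 3 +
      toM (mN l) 2 k * toM (mN l) 2 m ^ 3 + toM (mN l) 3 k * toM (mN l) 3 m ^ 3 = if k = m then 1 else 0 := by
  decide +kernel

theorem gen_mem (l : Fin 9) :
    (⟨toM (mN l), gen_det l⟩ : Matrix.SpecialLinearGroup (Fin 4) K9) ∈ Cfsg.SU 4 K9 3 := by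
  intro u v
  show Cfsg.hermForm 4 K9 3 (toM (mN l) *ᵥ u) (toM (mN l) *ᵥ v) = Cfsg.hermForm 4 K9 3 u v
  have h00 := gen_unitary l 0 0
  have h01 := gen_unitary l 0 1
  have h02 := gen_unitary l 0 2
  have h03 := gen_unitary l 0 3
  have h10 := gen_unitary l 1 0
  have h11 := gen_unitary l 1 1
  have h12 := gen_unitary l 1 2
  have h13 := gen_unitary l 1 3
  have h20 := gen_unitary l 2 0
  have h21 := gen_unitary l 2 1
  have h22 := gen_unitary l 2 2
  have h23 := gen_unitary l 2 3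
  have h30 := gen_unitary l 3 0
  have h31 := gen_unitary l 3 1
  have h32 := gen_unitary l 3 2
  have h33 := gen_unitary l 3 3
  simp only [Fin.reduceEq, if_true, if_false] at h00 h01 h02 h03 h10 h11 h12 h13 h20 h21 h22 h23 h30 h31 h32 h33
  simp only [Cfsg.hermForm, Matrix.mulVec, dotProduct, Fin.sum_univ_four, CfsgLib.J2.Perm.cube_add, mul_pow]
  linear_combination u 0 * v 0 ^ 3 * h00 + u 0 * v 1 ^ 3 * h01 + u 0 * v 2 ^ 3 * h02 + u 0 * v 3 ^ 3 * h03 +
    u 1 * v 0 ^ 3 * h10 + u 1 * v 1 ^ 3 * h11 + u 1 * v 2 ^ 3 * h12 + u 1 * v 3 ^ 3 * h13 +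
    u 2 * v 0 ^ 3 * h20 + u 2 * v 1 ^ 3 * h21 + u 2 * v 2 ^ 3 * h22 + u 2 * v 3 ^ 3 * h23 +
    u 3 * v 0 ^ 3 * h30 + u 3 * v 1 ^ 3 * h31 + u 3 * v 2 ^ 3 * h32 + u 3 * v 3 ^ 3 * h33

/-- A matrix as an element of the special unitary group. -/
def gen (l : Fin 9) : SU4 := ⟨⟨toM (mN l), gen_det l⟩, gen_mem l⟩

/-- One entry of a product. -/
def pEnt (X Y i k : Nat) : Nat :=
  fadd (fadd (fadd (fmul (ent X i 0) (ent Y 0 k)) (fmul (ent X i 1) (ent Y 1 k))) (fmul (ent X i 2) (ent Y 2 k)))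
    (fmul (ent X i 3) (ent Y 3 k))

/-- The code of a product. -/
def mC (X Y : Nat) : Nat :=
  ((List.range 16).map fun n => pEnt X Y (n / 4) (n % 4) * 9 ^ n).sum

/-- The code of the identity. -/
def oneC : Nat := 9 ^ 0 + 9 ^ 5 + 9 ^ 10 + 9 ^ 15

theorem ent_lt (X i k : Nat) : ent X i k < 9 := Nat.mod_lt _ (by norm_num)

theorem pEnt_lt (X Y i k : Nat) : pEnt X Y i k < 9 := fadd_lt _ _

theorem ent_sum (f : Nat → Nat) (hf : ∀ n, f n < 9) :
    ∀ (m n : Nat), n < m → ((List.range m).map fun j => f j * 9 ^ j).sum / 9 ^ n % 9 = f n := by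
  intro m
  induction m generalizing f with
  | zero => intro n hn; omega
  | succ m ih =>
    intro n hn
    have e : ((List.range (m + 1)).map fun j => f j * 9 ^ j).sum =
        f 0 + 9 * ((List.range m).map fun j => f (j + 1) * 9 ^ j).sum := by
      rw [List.range_succ_eq_map, List.map_cons, List.sum_cons, List.map_map, pow_zero, mul_one,
        ← List.sum_map_mul_left]
      refine congrArg (fun t => f 0 + List.sum t) (List.map_congr_left fun j _ => ?_)
      simp only [Function.comp_apply, Nat.succ_eq_add_one, pow_succ]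
      ring
    rw [e]
    cases n with
    | zero => rw [pow_zero, Nat.div_one, Nat.add_mul_mod_self_left, Nat.mod_eq_of_lt (hf 0)]
    | succ n =>
      rw [pow_succ', ← Nat.div_div_eq_div_mul, Nat.add_mul_div_left _ _ (by norm_num), Nat.div_eq_of_lt (hf 0),
        zero_add]
      exact ih (fun j => f (j + 1)) (fun j => hf _) n (by omega)

theorem toM_mC (X Y : Nat) : toM (mC X Y) = toM X * toM Y := by
  ext1 i k
  have he : ent (mC X Y) i.val k.val = pEnt X Y i.val k.val := by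
    rw [ent, mC, ent_sum (fun n => pEnt X Y (n / 4) (n % 4)) (fun n => pEnt_lt _ _ _ _) 16 _ (by omega)]
    congr 1 <;> omega
  simp only [toM, Matrix.of_apply, Matrix.mul_apply, Fin.sum_univ_four, he, pEnt]
  rw [dec_add (fadd_lt _ _) (fmul_lt _ _), dec_add (fadd_lt _ _) (fmul_lt _ _), dec_add (fmul_lt _ _) (fmul_lt _ _),
    dec_mul (ent_lt _ _ _) (ent_lt _ _ _), dec_mul (ent_lt _ _ _) (ent_lt _ _ _),
    dec_mul (ent_lt _ _ _) (ent_lt _ _ _), dec_mul (ent_lt _ _ _) (ent_lt _ _ _)]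
  rfl

theorem toM_one : toM oneC = 1 := by
  ext1 i k
  have h : ∀ i k : Fin 4, dec (ent oneC i.val k.val) = if i = k then (1 : K9) else 0 := by decide +kernel
  rw [Matrix.one_apply]
  exact h i k

/-- The letters. -/
def LS : List SU4 := LX (gen 0) (gen 2) (gen 4) (gen 5) (gen 7)

/-- The code of a word. -/
def codeW : List Nat → Nat
  | [] => oneC
  | l :: w => mC (mats.getD l oneC) (codeW w)

theorem pair_ok : mC (mN 0) (mN 1) = oneC ∧ mC (mN 2) (mN 3) = oneC ∧ mC (mN 5) (mN 6) = oneC ∧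
    mC (mN 7) (mN 8) = oneC := by decide +kernel

theorem coe_gen (l : Fin 9) : ((gen l).1 : Matrix (Fin 4) (Fin 4) K9) = toM (mN l) := rfl

theorem gen_inv {j k : Fin 9} (h : mC (mN j) (mN k) = oneC) : (gen j)⁻¹ = gen k := by
  refine inv_eq_of_mul_eq_one_right (Subtype.ext (Subtype.ext ?_))
  show toM (mN j) * toM (mN k) = 1
  rw [← toM_mC, h, toM_one]

theorem fl_LS (l : Nat) : ((fl LS l).1 : Matrix (Fin 4) (Fin 4) K9) = toM (mats.getD l oneC) := by
  obtain ⟨p1, p2, p3, p4⟩ := pair_ok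
  rcases lt_or_ge l 9 with h | h
  · simp only [LS, LX, gen_inv p1, gen_inv p2, gen_inv p3, gen_inv p4]
    interval_cases l <;> rfl
  · rw [fl_of_le _ (show LS.length ≤ l from h),
      List.getD_eq_default _ _ (show mats.length ≤ l from h), toM_one]
    rfl

theorem ev_code (w : List Nat) : ((ev LS w).1 : Matrix (Fin 4) (Fin 4) K9) = toM (codeW w) := by
  induction w with
  | nil => rw [ev_nil, codeW, toM_one]; rfl
  | cons l w ih =>
    rw [ev_cons, codeW, toM_mC, ← fl_LS, ← ih]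
    rfl

/-- The code of a scalar matrix. -/
def scC (c : Nat) : Nat := c * oneC

/-- Scalar matrices. -/
def isScal (X : Nat) : Bool := (List.range 9).any fun c => X == scC c

theorem toM_scC : ∀ c : Fin 9, toM (scC c.val) = dec c.val • (1 : Matrix (Fin 4) (Fin 4) K9) := by
  intro c
  ext1 i k
  have h : ∀ c : Fin 9, ∀ i k : Fin 4, dec (ent (scC c.val) i.val k.val) = if i = k then dec c.val else (0 : K9) := by
    decide +kernel
  show dec (ent (scC c.val) i.val k.val) = _
  rw [h, Matrix.smul_apply, Matrix.one_apply]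
  split <;> simp

theorem central_of_scal {w : List Nat} (h : isScal (codeW w) = true) : ev LS w ∈ Subgroup.center SU4 := by
  simp only [isScal, List.any_eq_true, List.mem_range, beq_iff_eq] at h
  obtain ⟨c, hc, e⟩ := h
  refine Subgroup.mem_center_iff.2 fun g => Subtype.ext (Subtype.ext ?_)
  show (g.1 : Matrix (Fin 4) (Fin 4) K9) * (ev LS w).1 = (ev LS w).1 * (g.1 : Matrix (Fin 4) (Fin 4) K9)
  rw [ev_code, e, toM_scC ⟨c, hc⟩, Matrix.mul_smul, Matrix.smul_mul, mul_one, one_mul]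

theorem rels_scal : (relsQ.all fun w => isScal (codeW w)) = true := by decide +kernel

/-- A word of order five up to scalars. -/
def fiveW : List Nat := [0, 2, 4, 2, 7]

/-- A word of order seven up to scalars. -/
def sevenW : List Nat := [0, 4, 2, 7]

theorem power_facts : isScal (codeW (List.replicate 5 fiveW).flatten) = true ∧ isScal (codeW fiveW) = false ∧
    isScal (codeW (List.replicate 7 sevenW).flatten) = true ∧ isScal (codeW sevenW) = false := by decide +kernel

theorem nonscal : isScal (codeW [0, 0]) = false ∧ isScal (codeW [4]) = false := by decide +kernel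

end CfsgLib.U43Type.Mats
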