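import Cfsg.Agent.U43Type.Gen
import Cfsg.Agent.U43Type.Mats
import Cfsg.Agent.MinIdxPSU.FourThree
import Cfsg.Agent.Unitary.Simple

/-!
The subgroup generated by the five elements is the unitary group.
-/

set_option autoImplicit false
set_option maxRecDepth 100000
set_option linter.style.haveILetI false

namespace CfsgLib.U43Type

open CfsgLib.Coset CfsgLib.J2U
open Cfsg.Agent.McLU43 (K9)

local notation "SU4" => Cfsg.SU 4 K9 3
local notation "PSU4" => Cfsg.PSU 4 K9 3

/-- The map onto the projective group. -/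
def toP : SU4 →* PSU4 := QuotientGroup.mk' (Subgroup.center SU4)

/-- The five images in the projective group. -/
noncomputable def LP : List PSU4 :=
  LX (toP (Mats.gen 0)) (toP (Mats.gen 2)) (toP (Mats.gen 4)) (toP (Mats.gen 5)) (toP (Mats.gen 7))

/-- A matrix code is not central. -/
def noncentral (w : List Nat) (l : Fin 9) : Bool :=
  (List.range 16).any fun n =>
    Mats.ent (Mats.mC (Mats.codeW w) (Mats.mN l)) (n / 4) (n % 4) !=
      Mats.ent (Mats.mC (Mats.mN l) (Mats.codeW w)) (n / 4) (n % 4)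

theorem noncentral_ok : noncentral [0, 0] 7 = true ∧ noncentral Mats.fiveW 0 = true ∧
    noncentral Mats.sevenW 0 = true := by decide +kernel

theorem ev_hom {A B : Type*} [Group A] [Group B] (f : A →* B) (L : List A) (w : List Nat) :
    f (ev L w) = ev (L.map f) w := by
  induction w with
  | nil => rw [ev_nil, ev_nil, map_one]
  | cons l w ih =>
    rw [ev_cons, ev_cons, map_mul, ih]
    congr 1
    simp only [fl, List.getD_eq_getElem?_getD, List.getElem?_map]
    cases L[l]? <;> simp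

theorem map_LX {A B : Type*} [Group A] [Group B] (f : A →* B) (a h s i r : A) :
    (LX a h s i r).map f = LX (f a) (f h) (f s) (f i) (f r) := by
  simp [LX, map_inv]

theorem ev_LP (w : List Nat) : ev LP w = toP (ev Mats.LS w) := by
  rw [ev_hom, Mats.LS, map_LX]; rfl

theorem LP_rel : ∀ w ∈ relsQ, ev LP w = 1 := by
  intro w hw
  rw [ev_LP]
  exact (QuotientGroup.eq_one_iff _).2 (Mats.central_of_scal (List.all_eq_true.1 Mats.rels_scal w hw))

theorem LP_ne {w : List Nat} {l : Fin 9} (h : noncentral w l = true) : ev LP w ≠ 1 := by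
  rw [ev_LP]
  intro e
  have hc := Subgroup.mem_center_iff.1 ((QuotientGroup.eq_one_iff _).1 e) (Mats.gen l)
  have hm : Mats.toM (Mats.mC (Mats.mN l) (Mats.codeW w)) = Mats.toM (Mats.mC (Mats.codeW w) (Mats.mN l)) := by
    rw [Mats.toM_mC, Mats.toM_mC, ← Mats.ev_code, ← Mats.coe_gen]
    exact congrArg (fun g : SU4 => (g.1 : Matrix (Fin 4) (Fin 4) K9)) hc
  simp only [noncentral, List.any_eq_true, List.mem_range, bne_iff_ne, ne_eq] at h
  obtain ⟨n, hn, hne⟩ := h
  refine hne (Cfsg.Agent.McLU43.dec_inj (Mats.ent_lt _ _ _) (Mats.ent_lt _ _ _) ?_).symm.symm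
  have := congrFun (congrFun hm ⟨n / 4, by omega⟩) ⟨n % 4, by omega⟩
  exact this.symm

theorem LP_order : orderOf (ev LP Mats.fiveW) = 5 ∧ orderOf (ev LP Mats.sevenW) = 7 := by
  obtain ⟨p5, -, p7, -⟩ := Mats.power_facts
  obtain ⟨-, n5, n7⟩ := noncentral_ok
  haveI : Fact (Nat.Prime 5) := ⟨by norm_num⟩
  haveI : Fact (Nat.Prime 7) := ⟨by norm_num⟩
  have hp : ∀ (w : List Nat) (k : Nat), ev LP (List.replicate k w).flatten = ev LP w ^ k := by
    intro w k
    induction k with
    | zero => rw [List.replicate_zero, List.flatten_nil, ev_nil, pow_zero]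
    | succ k ih => rw [List.replicate_succ, List.flatten_cons, ev_append, ih, pow_succ']
  refine ⟨orderOf_eq_prime ?_ (LP_ne n5), orderOf_eq_prime ?_ (LP_ne n7)⟩
  · rw [← hp, ev_LP]; exact (QuotientGroup.eq_one_iff _).2 (Mats.central_of_scal p5)
  · rw [← hp, ev_LP]; exact (QuotientGroup.eq_one_iff _).2 (Mats.central_of_scal p7)

variable {G : Type*} [Group G] {z : G} {φ : SL × SL →* G} {s i : G}

/-- The generated subgroup is the unitary group. -/
theorem Loc.iso_closure [Finite G] (D : Loc z φ s i) {r : G} (R : RData z φ s i r) :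
    ∃ X : Subgroup G, Subgroup.centralizer ({z} : Set G) ≤ X ∧ r ∈ X ∧
      (∀ w, ev LP w = 1 → ev (LX (φ (a₀, 1)) (φ (h₀, 1)) s i r) w = 1) ∧ Nonempty (X ≃* PSU4) := by
  set L' := LX (φ (a₀, 1)) (φ (h₀, 1)) s i r with hL'
  set LL := LC (φ (a₀, 1)) (φ (h₀, 1)) s i with hLL
  set C := Subgroup.centralizer ({z} : Set G) with hC
  let ga := toP (Mats.gen 0)
  let gh := toP (Mats.gen 2)
  let gs := toP (Mats.gen 4)
  let gi := toP (Mats.gen 5)
  let gr := toP (Mats.gen 7)
  let qa : G × PSU4 := (φ (a₀, 1), ga)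
  let qh : G × PSU4 := (φ (h₀, 1), gh)
  let qs : G × PSU4 := (s, gs)
  let qi : G × PSU4 := (i, gi)
  let qr : G × PSU4 := (r, gr)
  let LQ := LX qa qh qs qi qr
  let LQC := LC qa qh qs qi
  have hf1 : ∀ w, (ev LQ w).1 = ev L' w := fun w => by
    have := ev_hom (MonoidHom.fst G PSU4) LQ w
    rw [map_LX] at this
    exact this
  have hf2 : ∀ w, (ev LQ w).2 = ev LP w := fun w => by
    have := ev_hom (MonoidHom.snd G PSU4) LQ w
    rw [map_LX] at this
    exact this
  have hrel : ∀ w ∈ relsQ, ev LQ w = 1 := fun w hw =>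
    Prod.ext ((hf1 w).trans (D.relQ R w hw)) ((hf2 w).trans (LP_rel w hw))
  have hfl : ∀ l < 7, fl LQ l = fl LQC l := by intro l hl; interval_cases l <;> rfl
  have hev : ∀ w : List Nat, (∀ l ∈ w, l < 7) → ev LQ w = ev LQC w := by
    intro w hw
    induction w with
    | nil => rfl
    | cons l w ih =>
      rw [ev_cons, ev_cons, hfl l (hw l List.mem_cons_self), ih fun m hm => hw m (List.mem_cons_of_mem _ hm)]
  have hrelC : ∀ w ∈ relsC true true, ev LQC w = 1 := by
    intro w hw
    rw [← hev w ((by decide : ∀ w ∈ relsC true true, ∀ l ∈ w, l < 7) w hw)]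
    refine hrel w ?_
    simp only [relsC, relsQ, relsX, List.mem_append] at hw ⊢
    tauto
  have hivC : ∀ x, fl LQC (ivC x) = (fl LQC x)⁻¹ :=
    inv_of_rels (show LQC.length = 7 from rfl) hrelC (by decide +kernel)
      (fun x hx => List.getD_eq_default _ _ (by simpa using hx))
  have htC := tableOK_of_check (H := (⊥ : Subgroup (G × PSU4))) hivC C11.hR C11.hdefs C11.hsteps C11.htable hrelC
    (by simp [C11.subs])
  set HC := Subgroup.closure {x | x ∈ LQC} with hHC
  have cardHC : Nat.card HC ≤ 1152 := by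
    have := (htC.finite_card_le (by norm_num) bot_le (m := 1) inferInstance (by simp)).2
    simpa [hHC] using this
  have hivX : ∀ x, fl LQ (ivX x) = (fl LQ x)⁻¹ :=
    inv_of_rels (show LQ.length = 9 from rfl) hrel (by decide +kernel)
      (fun x hx => List.getD_eq_default _ _ (by simpa using hx))
  have htX := tableOK_of_check (H := HC) hivX X2835.hR X2835.hdefs X2835.hsteps X2835.htable hrel (by
    intro w hw
    simp only [X2835.subs, List.mem_cons, List.not_mem_nil, or_false] at hw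
    rcases hw with rfl | rfl | rfl | rfl | rfl | rfl | rfl <;>
      (rw [ev_cons, ev_nil, mul_one, hfl _ (by norm_num)]; exact mem_closure_fl _))
  set Pp := Subgroup.closure {x | x ∈ LQ} with hPp
  have hHP : HC ≤ Pp := Subgroup.closure_mono (fun x hx => by
    simp only [LQC, LC, LQ, LX, Set.mem_setOf_eq, List.mem_cons, List.not_mem_nil, or_false] at hx ⊢
    tauto)
  have cardPp : Nat.card Pp ≤ 3265920 := by
    have := (htX.finite_card_le (by norm_num) hHP (m := 1152) inferInstance cardHC).2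
    norm_num at this
    exact this
  -- first projection on the centraliser part
  let f1 : HC →* G := (MonoidHom.fst G PSU4).comp HC.subtype
  have rf1 : f1.range = C := by
    rw [MonoidHom.range_comp, Subgroup.range_subtype, hHC, MonoidHom.map_closure, hC, ← D.K.gen]
    congr 1
    ext x
    simp only [Set.mem_image, Set.mem_setOf_eq, LQC, LC, List.mem_cons, List.not_mem_nil, or_false]
    constructor
    · rintro ⟨y, (rfl | rfl | rfl | rfl | rfl | rfl | rfl), rfl⟩ <;> simp [qa, qh, qs, qi]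
    · rintro (rfl | rfl | rfl | rfl | rfl | rfl | rfl)
      · exact ⟨qa, by simp, rfl⟩
      · exact ⟨qa⁻¹, by simp, rfl⟩
      · exact ⟨qh, by simp, rfl⟩
      · exact ⟨qh⁻¹, by simp, rfl⟩
      · exact ⟨qs, by simp, rfl⟩
      · exact ⟨qi, by simp, rfl⟩
      · exact ⟨qi⁻¹, by simp, rfl⟩
  have hbij : Function.Bijective f1.rangeRestrict := by
    refine (Nat.bijective_iff_surjective_and_card _).2 ⟨f1.rangeRestrict_surjective, ?_⟩
    have h1 := Nat.card_le_card_of_surjective _ f1.rangeRestrict_surjective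
    rw [rf1, D.K.card] at h1 ⊢
    omega
  have f1inj : ∀ x y : HC, f1 x = f1 y → x = y := fun x y h => hbij.1 (Subtype.ext h)
  have cardHC' : Nat.card HC = 1152 := by
    rw [Nat.card_congr (Equiv.ofBijective _ hbij), rf1, D.K.card]
  -- the second projection is injective on it
  let f2 : HC →* PSU4 := (MonoidHom.snd G PSU4).comp HC.subtype
  have hzHC : ev LQC [0, 0] ∈ HC := by
    simp only [ev_cons, ev_nil, mul_one]
    exact mul_mem (mem_closure_fl _) (mem_closure_fl _)
  have f2inj : Function.Injective f2 := by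
    rw [← MonoidHom.ker_eq_bot_iff]
    by_contra hne
    obtain ⟨⟨p, hp⟩, hpk, hp1⟩ := Subgroup.ne_bot_iff_exists_ne_one.1 hne |> fun ⟨x, hx⟩ =>
      (⟨x.1, x.2, fun e => hx (Subtype.ext e)⟩ : ∃ q : HC, q ∈ f2.ker ∧ q ≠ 1)
    set N : Subgroup G := f2.ker.map f1 with hN
    have hpC : f1 ⟨p, hp⟩ * z = z * f1 ⟨p, hp⟩ := by
      have : f1 ⟨p, hp⟩ ∈ f1.range := ⟨_, rfl⟩
      rw [rf1] at this
      exact Subgroup.mem_centralizer_singleton_iff.1 this
    have hz := D.K.normal_z N (by
      intro n hn w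
      obtain ⟨q, hq, rfl⟩ := hn
      have hw : ev LL w ∈ f1.range := by rw [rf1]; exact D.K.mem_ev
      obtain ⟨c, hc⟩ := hw
      refine ⟨c * q * c⁻¹, (inferInstance : f2.ker.Normal).conj_mem q hq c, ?_⟩
      rw [map_mul, map_mul, map_inv, hc]) hpC ⟨_, hpk, rfl⟩
      (fun e => hp1 (f1inj _ _ (e.trans (map_one f1).symm)))
    obtain ⟨q, hq, hqz⟩ := hz
    have e0 : f1 ⟨ev LQC [0, 0], hzHC⟩ = ev LL [0, 0] := by
      show (ev LQC [0, 0]).1 = _
      simp [LQC, LC, fl, hLL, qa]
    have e1 : q = ⟨ev LQC [0, 0], hzHC⟩ := f1inj _ _ (hqz.trans e0.symm)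
    have e2 : (ev LQC [0, 0]).2 = 1 := by
      rw [e1] at hq; exact hq
    rw [← hev [0, 0] (by decide), hf2] at e2
    exact LP_ne noncentral_ok.1 e2
  -- the second projection is onto
  let g2 : Pp →* PSU4 := (MonoidHom.snd G PSU4).comp Pp.subtype
  set Y := g2.range with hY
  have hYev : ∀ w, ev LP w ∈ Y := fun w => by
    refine ⟨⟨ev LQ w, ?_⟩, hf2 w⟩
    rw [ev]
    refine list_prod_mem fun x hx => ?_
    obtain ⟨l, -, rfl⟩ := List.mem_map.1 hx
    exact mem_closure_fl l
  have hd : 1152 ∣ Nat.card Y := by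
    have : f2.range ≤ Y := by
      rintro _ ⟨x, rfl⟩
      exact ⟨⟨x.1, hHP x.2⟩, rfl⟩
    have h := Subgroup.card_dvd_of_le this
    rwa [← Nat.card_congr (MonoidHom.ofInjective f2inj).toEquiv, cardHC'] at h
  obtain ⟨o5, o7⟩ := LP_order
  have h5 : 5 ∣ Nat.card Y := o5 ▸ Subgroup.orderOf_dvd_natCard Y (hYev _)
  have h7 : 7 ∣ Nat.card Y := o7 ▸ Subgroup.orderOf_dvd_natCard Y (hYev _)
  have hcard := CfsgLib.MinIdxPSU.card_psu43 (F := K9) CfsgLib.J2.Perm.hF
  have hYtop : Y = ⊤ := by
    by_contra hne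
    have h112 := CfsgLib.MinIdxPSU.psu_four_three CfsgLib.J2.Perm.hF Y hne
    have h40 : 40320 ∣ Nat.card Y := by
      have h35 : 35 ∣ Nat.card Y := Nat.Coprime.mul_dvd_of_dvd_of_dvd (by norm_num : Nat.Coprime 5 7) h5 h7
      exact Nat.Coprime.mul_dvd_of_dvd_of_dvd (by norm_num : Nat.Coprime 1152 35) hd h35
    have hpos : 0 < Nat.card Y := Nat.card_pos
    have hmul : Nat.card Y * Y.index = 3265920 := by rw [Subgroup.card_mul_index, hcard]
    obtain ⟨k, hk⟩ := h40
    rw [hk] at hmul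
    have h81 : k * Y.index = 81 := by
      rw [mul_assoc] at hmul
      omega
    have := Nat.le_of_dvd (by norm_num) (Dvd.intro_left _ h81)
    omega
  have g2surj : Function.Surjective g2 := MonoidHom.range_eq_top.1 hYtop
  have g2bij : Function.Bijective g2 := by
    refine (Nat.bijective_iff_surjective_and_card _).2 ⟨g2surj, ?_⟩
    have := Nat.card_le_card_of_surjective _ g2surj
    rw [hcard] at this ⊢
    omega
  let e2 := MulEquiv.ofBijective g2 g2bij
  haveI hsimple : IsSimpleGroup PSU4 :=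
    CfsgLib.Unitary.isSimpleGroup_PSU CfsgLib.J2.Perm.hF (n := 4) (by norm_num) (by norm_num)
  haveI : IsSimpleGroup Pp := by
    haveI : Nontrivial Pp := e2.toEquiv.nontrivial
    exact IsSimpleGroup.isSimpleGroup_of_surjective e2.symm.toMonoidHom e2.symm.surjective
  let g1 : Pp →* G := (MonoidHom.fst G PSU4).comp Pp.subtype
  refine ⟨g1.range, ?_, ⟨⟨qr, Subgroup.subset_closure (by simp [LQ, LX])⟩, rfl⟩, ?_, ?_⟩
  · intro c hc
    rw [← rf1] at hc
    obtain ⟨x, rfl⟩ := hc
    exact ⟨⟨x.1, hHP x.2⟩, rfl⟩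
  · intro w hw
    have hwP : ev LQ w ∈ Pp := by
      rw [ev]
      refine list_prod_mem fun x hx => ?_
      obtain ⟨l, -, rfl⟩ := List.mem_map.1 hx
      exact mem_closure_fl l
    have h1 : (⟨ev LQ w, hwP⟩ : Pp) = 1 := g2bij.1 (((hf2 w).trans hw).trans (map_one g2).symm)
    have h2 := congrArg (fun q : Pp => ((q : G × PSU4)).1) h1
    exact (hf1 w).symm.trans h2
  · rcases (inferInstance : g1.ker.Normal).eq_bot_or_eq_top with h | h
    · exact ⟨(MonoidHom.ofInjective ((MonoidHom.ker_eq_bot_iff g1).1 h)).symm.trans e2⟩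
    · exfalso
      have : g1 ⟨qs, Subgroup.subset_closure (by simp [LQ, LX])⟩ = 1 := by
        rw [← MonoidHom.mem_ker, h]; exact Subgroup.mem_top _
      exact D.zs_ne.2.1 this

end CfsgLib.U43Type
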