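import Cfsg.Agent.OneNonvanishing.FpfFour
import Cfsg.Agent.MinIdxPSU.FourThree

/-!
Subgroups of odd order of a group with the order and the local properties of `PSU(4,3)` have few inverted
elements.
-/

set_option autoImplicit false
set_option linter.style.haveILetI false

namespace CfsgLib.U43Type

/-- The properties of the elements of order seven. -/
def SevenHyp (Y : Type*) [Group Y] : Prop :=
  ∀ x : Y, x ^ 7 = 1 → x ≠ 1 → Nat.card (Subgroup.centralizer ({x} : Set Y)) ≤ 7 ∧
    ∀ k : ℕ, ∀ g : Y, g * x * g⁻¹ = x ^ k → k % 7 ∈ ({1, 2, 4} : Finset ℕ)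

theorem sevenHyp_of_equiv {Y Y' : Type*} [Group Y] [Group Y'] (e : Y ≃* Y') (h : SevenHyp Y') : SevenHyp Y := by
  intro x hx hx1
  obtain ⟨h1, h2⟩ := h (e x) (by rw [← map_pow, hx, map_one]) (fun he => hx1 (e.injective (he.trans e.map_one.symm)))
  refine ⟨?_, fun k g hk => h2 k (e g) (by rw [← map_inv, ← map_mul, ← map_mul, hk, map_pow])⟩
  refine le_trans (le_of_eq ?_) h1
  refine Nat.card_congr ⟨fun g => ⟨e g.1, ?_⟩, fun g => ⟨e.symm g.1, ?_⟩, fun g => ?_, fun g => ?_⟩
  · exact Subgroup.mem_centralizer_singleton_iff.2 (by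
      rw [← map_mul, Subgroup.mem_centralizer_singleton_iff.1 g.2, map_mul])
  · refine Subgroup.mem_centralizer_singleton_iff.2 (e.injective ?_)
    rw [map_mul, map_mul, e.apply_symm_apply, Subgroup.mem_centralizer_singleton_iff.1 g.2]
  · exact Subtype.ext (e.symm_apply_apply _)
  · exact Subtype.ext (e.apply_symm_apply _)

variable {G : Type*} [Group G] [Finite G]

/-- Few inverted elements. -/
theorem inverted_lt (Y : Subgroup G) (hY : Nat.card Y = 3265920) (h7 : SevenHyp Y)
    (T : Subgroup G) (hT : T ≤ Y) (hTp : IsPGroup 3 T) (hTn : ∃ a ∈ T, ∃ b ∈ T, a * b ≠ b * a)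
    (D : Subgroup G) (hD : D ≤ Y) (hodd : Odd (Nat.card D)) (k : G) (hk : k * k = 1)
    (hkD : ∀ d ∈ D, k * d * k ∈ D) :
    Nat.card {d : D // k * (d : G) * k = (d : G)⁻¹} * 1152 < Nat.card Y := by
  haveI : Fact (Nat.Prime 7) := ⟨by norm_num⟩
  haveI : Fact (Nat.Prime 3) := ⟨Nat.prime_three⟩
  rw [hY]
  by_contra hlt
  push Not at hlt
  let ψ : D →* D := MonoidHom.mk' (fun d => ⟨k * d * k, hkD d d.2⟩) (fun a b => Subtype.ext (by
    show k * ((a : G) * b) * k = k * a * k * (k * b * k)
    calc k * ((a : G) * b) * k = k * a * (k * k) * b * k := by rw [hk]; group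
      _ = _ := by group))
  have hψ : ∀ d, ψ (ψ d) = d := fun d => Subtype.ext (by
    show k * (k * (d : G) * k) * k = d
    calc _ = (k * k) * (d : G) * (k * k) := by group
      _ = _ := by rw [hk, one_mul, mul_one])
  have hcount := CfsgLib.OneNonvanishing.card_inverted_mul_fixed hodd ψ hψ
  have hinv : Nat.card {d : D // ψ d = d⁻¹} = Nat.card {d : D // k * (d : G) * k = (d : G)⁻¹} :=
    Nat.card_congr (Equiv.subtypeEquivRight fun d => by
      rw [Subtype.ext_iff]; exact Iff.rfl)
  set I := Nat.card {d : D // ψ d = d⁻¹} with hI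
  set F := Nat.card {d : D // ψ d = d} with hF
  rw [← hinv] at hlt
  have hIbig : 2835 ≤ I := by omega
  have hab : F = 1 → ∀ a b : D, a * b = b * a := by
    intro hF1
    have hall : ∀ d : D, ψ d = d⁻¹ := by
      rw [hF1, mul_one] at hcount
      intro d
      by_contra hd
      have h1 := Finite.card_subtype_lt (p := fun d : D => ψ d = d⁻¹) (x := d) hd
      omega
    intro a b
    have h := hall (a * b)
    rw [map_mul, hall, hall, ← mul_inv_rev] at h
    exact (inv_injective h).symm
  have hDdvd : Nat.card D ∣ 25515 := by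
    have h1 : Nat.card D ∣ 128 * 25515 := by
      rw [show 128 * 25515 = 3265920 by norm_num, ← hY]; exact Subgroup.card_dvd_of_le hD
    exact Nat.Coprime.dvd_of_dvd_mul_left
      ((by rw [show (128 : ℕ) = 2 ^ 7 from rfl]; exact (Nat.coprime_two_right.2 hodd).pow_right 7)) h1
  have hFpos : 0 < F := by
    rcases Nat.eq_zero_or_pos F with h | h
    · rw [h, mul_zero] at hcount; exact absurd hcount.symm Nat.card_pos.ne'
    · exact h
  have hFodd : F = 1 ∨ 3 ≤ F := by
    have hd : F ∣ Nat.card D := Dvd.intro_left _ hcount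
    obtain ⟨m, hm⟩ := hodd.of_dvd_nat hd
    omega
  have hDbig : 2835 ≤ Nat.card D := by
    rw [← hcount]; exact le_trans hIbig (Nat.le_mul_of_pos_right _ hFpos)
  by_cases h7D : 7 ∣ Nat.card D
  · obtain ⟨x, hx⟩ := exists_prime_orderOf_dvd_card' (G := D) 7 h7D
    set x' : Y := ⟨(x : G), hD x.2⟩ with hx'
    have hx7 : x' ^ 7 = 1 := Subtype.ext (by
      show ((x : G)) ^ 7 = 1
      rw [← hx, ← Subgroup.orderOf_coe, pow_orderOf_eq_one])
    have hx1 : x' ≠ 1 := fun e => by
      have : (x : G) = 1 := congrArg Subtype.val e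
      rw [← Subgroup.orderOf_coe, this, orderOf_one] at hx
      norm_num at hx
    obtain ⟨hc7, hk7⟩ := h7 x' hx7 hx1
    -- centraliser in `D`
    have hcent : Nat.card (Subgroup.centralizer ({x} : Set D)) ≤ 7 := by
      refine le_trans (Nat.card_le_card_of_injective (fun d => (⟨⟨(d.1 : G), hD d.1.2⟩, ?_⟩ :
        Subgroup.centralizer ({x'} : Set Y))) fun a b h => ?_) hc7
      · refine Subgroup.mem_centralizer_singleton_iff.2 (Subtype.ext ?_)
        have hdc : d.1 * x = x * d.1 := Subgroup.mem_centralizer_singleton_iff.1 d.2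
        exact (congrArg Subtype.val hdc :)
      · exact Subtype.ext (Subtype.ext (congrArg (fun e : Subgroup.centralizer ({x'} : Set Y) => ((e.1 : Y) : G)) h))
    rcases hFodd with hF1 | hF3
    · have : Nat.card (Subgroup.centralizer ({x} : Set D)) = Nat.card D := by
        rw [show Subgroup.centralizer ({x} : Set D) = ⊤ from eq_top_iff.2 fun d _ =>
          Subgroup.mem_centralizer_singleton_iff.2 (hab hF1 d x), Subgroup.card_top]
      omega
    · have hD8505 : Nat.card D = 8505 ∨ Nat.card D = 25515 := by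
        have h1 : 8505 ≤ Nat.card D := by rw [← hcount]; nlinarith
        obtain ⟨q, hq⟩ := hDdvd
        have hq3 : q ≤ 3 := by nlinarith
        interval_cases q <;> omega
      -- counting the Sylow subgroups
      obtain ⟨P⟩ := (inferInstance : Nonempty (Sylow 7 D))
      have hPcard : Nat.card P = 7 := by
        rw [P.card_eq_multiplicity]
        rcases hD8505 with h | h <;> rw [h]
        · rw [show (8505 : ℕ) = 7 ^ 1 * 1215 by norm_num, Nat.factorization_mul (by norm_num) (by norm_num),
            Finsupp.add_apply, Nat.Prime.factorization_pow (by norm_num : Nat.Prime 7), Finsupp.single_eq_same,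
            Nat.factorization_eq_zero_of_not_dvd (by norm_num : ¬ 7 ∣ 1215)]
          norm_num
        · rw [show (25515 : ℕ) = 7 ^ 1 * 3645 by norm_num, Nat.factorization_mul (by norm_num) (by norm_num),
            Finsupp.add_apply, Nat.Prime.factorization_pow (by norm_num : Nat.Prime 7), Finsupp.single_eq_same,
            Nat.factorization_eq_zero_of_not_dvd (by norm_num : ¬ 7 ∣ 3645)]
          norm_num
      haveI : IsCyclic (P : Subgroup D) := isCyclic_of_prime_card (p := 7) hPcard
      obtain ⟨y, hy⟩ := IsCyclic.exists_generator (α := (P : Subgroup D))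
      set yD : D := (y : D) with hyD
      have hyord : orderOf yD = 7 := by
        rw [hyD, Subgroup.orderOf_coe, orderOf_eq_card_of_forall_mem_zpowers hy, hPcard]
      have hPz : (P : Subgroup D) = Subgroup.zpowers yD := by
        refine (Subgroup.eq_of_le_of_card_ge ((Subgroup.zpowers_le).2 y.2) ?_).symm
        rw [Nat.card_zpowers, hyord, hPcard]
      set y' : Y := ⟨(yD : G), hD yD.2⟩ with hy'
      have hy7 : y' ^ 7 = 1 := Subtype.ext (by
        show ((yD : G)) ^ 7 = 1
        rw [← hyord, ← Subgroup.orderOf_coe, pow_orderOf_eq_one])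
      have hy1 : y' ≠ 1 := fun e => by
        have h : (yD : G) = 1 := congrArg Subtype.val e
        rw [← Subgroup.orderOf_coe, h, orderOf_one] at hyord
        norm_num at hyord
      obtain ⟨hyc, hyk⟩ := h7 y' hy7 hy1
      set N := Subgroup.normalizer ((P : Subgroup D) : Set D) with hN
      -- the cube of an element of the normaliser centralises
      have hcube : ∀ n ∈ N, n ^ 3 * yD = yD * n ^ 3 := by
        intro n hn
        have hmem : n * yD * n⁻¹ ∈ Subgroup.zpowers yD := hPz ▸ (Subgroup.mem_normalizer_iff.1 hn yD).1 y.2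
        obtain ⟨j, hj⟩ := (mem_powers_iff_mem_zpowers.2 hmem : n * yD * n⁻¹ ∈ Submonoid.powers yD)
        have hj' : yD ^ j = n * yD * n⁻¹ := hj
        have h124 := hyk j ⟨(n : G), hD n.2⟩ (Subtype.ext (congrArg Subtype.val hj').symm)
        have hmod : (j * j * j) % 7 = 1 := by
          rw [Nat.mul_mod, Nat.mul_mod j j]
          simp only [Finset.mem_insert, Finset.mem_singleton] at h124
          rcases h124 with h | h | h <;> rw [h]
        have h3 : n ^ 3 * yD * (n ^ 3)⁻¹ = yD ^ (j * j * j) := by
          calc n ^ 3 * yD * (n ^ 3)⁻¹ = n * (n * (n * yD * n⁻¹) * n⁻¹) * n⁻¹ := by simp [pow_succ, mul_assoc]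
            _ = n * (n * yD ^ j * n⁻¹) * n⁻¹ := by rw [← hj']
            _ = n * yD ^ (j * j) * n⁻¹ := by rw [← conj_pow, ← hj', ← pow_mul]
            _ = _ := by rw [← conj_pow, ← hj', ← pow_mul, mul_assoc]
        rw [← pow_mod_orderOf yD (j * j * j), hyord, hmod, pow_one] at h3
        exact mul_inv_eq_iff_eq_mul.1 h3
      -- so the normaliser has order dividing twenty-one
      have hcy : Nat.card (Subgroup.centralizer ({yD} : Set D)) ≤ 7 := by
        refine le_trans (Nat.card_le_card_of_injective (fun d => (⟨⟨(d.1 : G), hD d.1.2⟩, ?_⟩ :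
          Subgroup.centralizer ({y'} : Set Y))) fun a b h => ?_) hyc
        · refine Subgroup.mem_centralizer_singleton_iff.2 (Subtype.ext ?_)
          have hdc : d.1 * yD = yD * d.1 := Subgroup.mem_centralizer_singleton_iff.1 d.2
          exact (congrArg Subtype.val hdc :)
        · exact Subtype.ext (Subtype.ext (congrArg (fun e : Subgroup.centralizer ({y'} : Set Y) => ((e.1 : Y) : G)) h))
      have hCP : Subgroup.centralizer ({yD} : Set D) = (P : Subgroup D) :=
        (Subgroup.eq_of_le_of_card_ge (hPz.symm ▸ (Subgroup.zpowers_le).2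
          (Subgroup.mem_centralizer_singleton_iff.2 rfl)) (by rw [hPcard]; exact hcy)).symm
      have hnum : Nat.card (Sylow 7 D) = N.index := Sylow.card_eq_index_normalizer P
      have hmod := card_sylow_modEq_one 7 D
      have hNP : 7 ∣ Nat.card N := hPcard ▸ Subgroup.card_dvd_of_le Subgroup.le_normalizer
      -- an element of order five is not in the normaliser
      have h5 : ¬ 5 ∣ Nat.card N := by
        intro h5
        haveI : Fact (Nat.Prime 5) := ⟨by norm_num⟩
        obtain ⟨n, hn⟩ := exists_prime_orderOf_dvd_card' (G := N) 5 h5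
        rw [← Subgroup.orderOf_coe] at hn
        have hm : (n : D) ^ 3 ∈ Subgroup.zpowers yD := hPz ▸ hCP ▸
          Subgroup.mem_centralizer_singleton_iff.2 (hcube _ n.2)
        have hd : orderOf ((n : D) ^ 3) ∣ 7 := hyord ▸ Nat.card_zpowers yD ▸ Subgroup.orderOf_dvd_natCard _ hm
        rw [orderOf_pow' _ (by norm_num : 3 ≠ 0), hn] at hd
        norm_num at hd
      -- the three part of the normaliser has order at most three
      have h9 : ¬ 9 ∣ Nat.card N := by
        intro h9
        obtain ⟨Q, hQ⟩ := Sylow.exists_subgroup_card_pow_prime (G := N) 3 (n := 2) (by norm_num; exact h9)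
        set Q' : Subgroup D := Q.map N.subtype with hQ'
        have hQc : Nat.card Q' = 9 := by
          rw [hQ', Subgroup.card_map_of_injective N.subtype_injective, hQ]; norm_num
        have hq3 : ∀ q ∈ Q', q ^ 3 = 1 := by
          intro q hq
          have hqN : q ∈ N := Subgroup.map_subtype_le _ hq
          have hm : q ^ 3 ∈ Subgroup.zpowers yD := hPz ▸ hCP ▸
            Subgroup.mem_centralizer_singleton_iff.2 (hcube q hqN)
          have h1 : orderOf (q ^ 3) ∣ 7 := hyord ▸ Nat.card_zpowers yD ▸ Subgroup.orderOf_dvd_natCard _ hm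
          have h2 : orderOf (q ^ 3) ∣ 9 := hQc ▸ Subgroup.orderOf_dvd_natCard _ (pow_mem hq 3)
          exact orderOf_eq_one_iff.1 (Nat.dvd_one.1 ((Nat.dvd_gcd h1 h2).trans (by norm_num)))
        -- the map to the three admissible powers is injective
        have hpick : ∀ q : Q', ∃ j : ({1, 2, 4} : Finset ℕ), (q : D) * yD * (q : D)⁻¹ = yD ^ (j : ℕ) := by
          intro q
          have hqN : (q : D) ∈ N := Subgroup.map_subtype_le _ q.2
          have hmem : (q : D) * yD * (q : D)⁻¹ ∈ Subgroup.zpowers yD :=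
            hPz ▸ (Subgroup.mem_normalizer_iff.1 hqN yD).1 y.2
          obtain ⟨j, hj⟩ := (mem_powers_iff_mem_zpowers.2 hmem : (q : D) * yD * (q : D)⁻¹ ∈ Submonoid.powers yD)
          have hj' : yD ^ j = (q : D) * yD * (q : D)⁻¹ := hj
          refine ⟨⟨j % 7, hyk j ⟨((q : D) : G), hD (q : D).2⟩ (Subtype.ext (congrArg Subtype.val hj').symm)⟩, ?_⟩
          show _ = yD ^ (j % 7)
          rw [← hyord, pow_mod_orderOf, hj']
        choose f hf using hpick
        have finj : Function.Injective f := by
          intro a b e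
          have h1 : (a : D) * yD * (a : D)⁻¹ = (b : D) * yD * (b : D)⁻¹ := by rw [hf, hf, e]
          have hc : (b : D)⁻¹ * a ∈ Subgroup.centralizer ({yD} : Set D) := by
            refine Subgroup.mem_centralizer_singleton_iff.2 ?_
            calc (b : D)⁻¹ * a * yD = (b : D)⁻¹ * ((a : D) * yD * (a : D)⁻¹) * a := by group
              _ = yD * ((b : D)⁻¹ * a) := by rw [h1]; group
          have hm : (b : D)⁻¹ * a ∈ Subgroup.zpowers yD := hPz ▸ hCP ▸ hc
          have hd7 : orderOf ((b : D)⁻¹ * a) ∣ 7 := hyord ▸ Nat.card_zpowers yD ▸ Subgroup.orderOf_dvd_natCard _ hm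
          have hd9 : orderOf ((b : D)⁻¹ * a) ∣ 9 := hQc ▸
            Subgroup.orderOf_dvd_natCard _ (mul_mem (inv_mem b.2) a.2)
          have := orderOf_eq_one_iff.1 (Nat.dvd_one.1 ((Nat.dvd_gcd hd7 hd9).trans (by norm_num)))
          exact Subtype.ext (inv_mul_eq_one.1 this).symm
        have := Nat.card_le_card_of_injective f finj
        rw [hQc, Nat.card_eq_fintype_card, Fintype.card_coe] at this
        norm_num at this
      have hNdvd : Nat.card N ∣ 25515 := (Subgroup.card_subgroup_dvd_card N).trans hDdvd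
      have hN21 : Nat.card N = 7 ∨ Nat.card N = 21 := by
        generalize Nat.card N = m at hNP h5 h9 hNdvd
        have hco5 : m.Coprime 5 := ((by norm_num : Nat.Prime 5).coprime_iff_not_dvd.2 h5).symm
        have hm : m ∣ 5103 := hco5.dvd_of_dvd_mul_left (show m ∣ 5 * 5103 by norm_num; exact hNdvd)
        obtain ⟨t, rfl⟩ := hNP
        have ht : t ∣ 3 ^ 6 := Nat.dvd_of_mul_dvd_mul_left (show 0 < 7 by norm_num) (show 7 * t ∣ 7 * 3 ^ 6 by norm_num; exact hm)
        obtain ⟨e, -, rfl⟩ := (Nat.dvd_prime_pow Nat.prime_three).1 ht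
        have he : e ≤ 1 := by
          by_contra h
          exact h9 ((show 9 ∣ 3 ^ e from (pow_dvd_pow 3 (by omega : 2 ≤ e))).trans (Dvd.intro_left 7 rfl))
        interval_cases e <;> norm_num
      have hidx : Nat.card N * N.index = Nat.card D := Subgroup.card_mul_index N
      rw [hnum] at hmod
      unfold Nat.ModEq at hmod
      rcases hN21 with h | h <;> rcases hD8505 with h' | h' <;> rw [h, h'] at hidx <;> omega
  · have hD3645 : Nat.card D = 3645 := by
      obtain ⟨q, hq⟩ := hDdvd
      have hq9 : q ≤ 9 := by nlinarith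
      interval_cases q <;> omega
    have hF1 : F = 1 := by
      rcases hFodd with h | h
      · exact h
      · exfalso; rw [hD3645] at hcount; nlinarith
    -- a Sylow three-subgroup of `Y` is abelian
    obtain ⟨S⟩ := (inferInstance : Nonempty (Sylow 3 D))
    set S' : Subgroup Y := ((S : Subgroup D).map D.subtype).subgroupOf Y with hS'
    have hScard : Nat.card S' = 729 := by
      rw [hS', Nat.card_congr (Subgroup.subgroupOfEquivOfLe ((Subgroup.map_subtype_le _).trans hD)).toEquiv,
        Subgroup.card_map_of_injective D.subtype_injective, S.card_eq_multiplicity, hD3645,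
        show (3645 : ℕ) = 3 ^ 6 * 5 by norm_num, Nat.factorization_mul (by norm_num) (by norm_num),
        Finsupp.add_apply, Nat.Prime.factorization_pow Nat.prime_three, Finsupp.single_eq_same,
        Nat.factorization_eq_zero_of_not_dvd (by norm_num : ¬ 3 ∣ 5)]
      norm_num
    obtain ⟨SY, hSY⟩ := (IsPGroup.of_card (n := 6) (by rw [hScard]; norm_num) : IsPGroup 3 S').exists_le_sylow
    have hSYe : (SY : Subgroup Y) = S' := (Subgroup.eq_of_le_of_card_ge hSY (by
      rw [SY.card_eq_multiplicity, hY, hScard, show (3265920 : ℕ) = 3 ^ 6 * 4480 by norm_num,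
        Nat.factorization_mul (by norm_num) (by norm_num), Finsupp.add_apply,
        Nat.Prime.factorization_pow Nat.prime_three, Finsupp.single_eq_same,
        Nat.factorization_eq_zero_of_not_dvd (by norm_num : ¬ 3 ∣ 4480)]
      norm_num)).symm
    have hTY : IsPGroup 3 (T.subgroupOf Y) := hTp.of_equiv (Subgroup.subgroupOfEquivOfLe hT).symm
    obtain ⟨ST, hST⟩ := hTY.exists_le_sylow
    obtain ⟨g, hg⟩ := MulAction.exists_smul_eq Y ST SY
    obtain ⟨a, ha, b, hb, hne⟩ := hTn
    have key : ∀ c : G, ∀ hc : c ∈ T, (g : G) * c * (g : G)⁻¹ ∈ D := by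
      intro c hc
      have h1 : g * ⟨c, hT hc⟩ * g⁻¹ ∈ (SY : Subgroup Y) := by
        rw [← hg]; exact ⟨⟨c, hT hc⟩, hST hc, rfl⟩
      rw [hSYe, hS'] at h1
      exact Subgroup.map_subtype_le _ h1
    have := congrArg Subtype.val (hab hF1 ⟨_, key a ha⟩ ⟨_, key b hb⟩)
    simp only [Subgroup.coe_mul] at this
    refine hne (mul_left_cancel (a := (g : G)) (mul_right_cancel (b := (g : G)⁻¹) ?_))
    calc (g : G) * (a * b) * (g : G)⁻¹ = (g : G) * a * (g : G)⁻¹ * ((g : G) * b * (g : G)⁻¹) := by group
      _ = (g : G) * b * (g : G)⁻¹ * ((g : G) * a * (g : G)⁻¹) := this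
      _ = _ := by group

end CfsgLib.U43Type
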