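import Cfsg.Agent.U43Type.Setup
import Cfsg.Agent.U43Type.Iso
import Cfsg.Agent.U43Type.Embed
import Cfsg.Agent.U43Type.Odd

/-!
A group of unitary `U₄(3)` type is `PSU(4,3)`.
-/

set_option autoImplicit false
set_option linter.style.haveILetI false

namespace CfsgLib.U43Type

open CfsgLib.Coset CfsgLib.J2U
open Cfsg.Agent.McLU43 (K9)

variable {G : Type*} [Group G] [Finite G] {z : G} {φ : SL × SL →* G} {s i : G}

/-- Conjugators moving three involutions to the central one. -/
def toZ : List (List Nat × List Nat) :=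
  [([7, 0, 7, 3, 0, 2], [0, 4, 0, 4]), ([7], [4]), ([8, 3, 0, 8, 2, 7, 2, 0, 7], [5, 4])]

/-- The conjugation holds in the matrices. -/
def toZWord (c v : List Nat) : List Nat := c ++ v ++ (c.map ivX).reverse ++ [1, 1]

theorem toZ_scal : (toZ.all fun p => Mats.isScal (Mats.codeW (toZWord p.1 p.2))) = true := by decide +kernel

/-- The whole group. -/
theorem Loc.iso (D : Loc z φ s i) : Nonempty (G ≃* Cfsg.PSU 4 K9 3) := by
  obtain ⟨r, R⟩ := D.exists_rdata
  obtain ⟨X, hCX, hrX, hback, ⟨e⟩⟩ := D.iso_closure R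
  have hcard : Nat.card X = 3265920 := by
    rw [Nat.card_congr e.toEquiv]; exact CfsgLib.MinIdxPSU.card_psu43 CfsgLib.J2.Perm.hF
  have h7 : SevenHyp X := sevenHyp_of_equiv e (fun x hx hx1 => CfsgLib.MinIdxPSU.seven_facts CfsgLib.J2.Perm.hF x hx hx1)
  obtain ⟨hkc, oh, ok, hknot⟩ := D.nine_facts
  haveI : Fact (Nat.Prime 3) := ⟨Nat.prime_three⟩
  -- a nonabelian three-subgroup
  set h := φ (h₀, 1) with hh
  set h' := r⁻¹ * h * r with hh'
  set h'' := r * h * r⁻¹ with hh''
  have c1 : h * h' = h' * h := D.comm_rel R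
  have r3 := R.r3
  have ri : r⁻¹ = r * r := inv_eq_of_mul_eq_one_right (by rw [← mul_assoc]; exact r3)
  have c2 : h * h'' = h'' * h := by
    calc h * h'' = r * ((r⁻¹ * h * r) * h) * r⁻¹ := by rw [hh'']; group
      _ = r * (h * (r⁻¹ * h * r)) * r⁻¹ := by rw [c1]
      _ = h'' * h := by rw [hh'']; group
  have e' : r * h'' * r⁻¹ = h' := by
    calc r * h'' * r⁻¹ = (r * r) * h * (r * r)⁻¹ := by rw [hh'']; group
      _ = h' := by rw [← ri, inv_inv]
  have c3 : h' * h'' = h'' * h' := by
    calc h' * h'' = (r * h'' * r⁻¹) * (r * h * r⁻¹) := by rw [e']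
      _ = r * (h'' * h) * r⁻¹ := by group
      _ = r * (h * h'') * r⁻¹ := by rw [c2]
      _ = (r * h * r⁻¹) * (r * h'' * r⁻¹) := by group
      _ = h'' * h' := by rw [e']
  set A := Subgroup.closure ({h, h', h''} : Set G) with hA
  have hAc : A ≤ Subgroup.centralizer (A : Set G) := by
    rw [hA, Subgroup.centralizer_closure, Subgroup.closure_le]
    rintro y (rfl | rfl | rfl) <;> rw [SetLike.mem_coe, Subgroup.mem_centralizer_iff] <;>
      rintro q (rfl | rfl | rfl)
    all_goals first
      | rfl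
      | exact c1
      | exact c1.symm
      | exact c2
      | exact c2.symm
      | exact c3
      | exact c3.symm
  have h3 : h ^ 3 = 1 := oh ▸ pow_orderOf_eq_one h
  have hA3 : IsPGroup 3 A := by
    intro a
    refine ⟨1, Subtype.ext ?_⟩
    show (a : G) ^ 3 ^ 1 = 1
    rw [pow_one]
    obtain ⟨a, ha⟩ := a
    induction ha using Subgroup.closure_induction with
    | mem y hy =>
      rcases hy with rfl | rfl | rfl
      · exact h3
      · show (r⁻¹ * h * r) ^ 3 = 1
        calc (r⁻¹ * h * r) ^ 3 = r⁻¹ * h ^ 3 * r := by simp [pow_succ, mul_assoc]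
          _ = 1 := by rw [h3]; group
      · show (r * h * r⁻¹) ^ 3 = 1
        rw [conj_pow, h3]; group
    | one => exact one_pow 3
    | mul p q hp hq ihp ihq =>
      have hc : Commute p q := (Subgroup.mem_centralizer_iff.1 (hAc hp) q hq).symm
      show (p * q) ^ 3 = 1
      rw [hc.mul_pow, ihp, ihq, one_mul]
    | inv p hp ihp =>
      show p⁻¹ ^ 3 = 1
      rw [inv_pow, ihp, inv_one]
  have hrA : ∀ a ∈ A, r * a * r⁻¹ ∈ A := by
    have : A ≤ A.comap (MulAut.conj r).toMonoidHom := by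
      rw [hA, Subgroup.closure_le]
      rintro y (rfl | rfl | rfl) <;> rw [SetLike.mem_coe, Subgroup.mem_comap] <;>
        refine Subgroup.subset_closure ?_
      · exact Or.inr (Or.inr rfl)
      · left; show r * h' * r⁻¹ = h; rw [hh']; group
      · right; left; exact e'
    exact fun a ha => this ha
  have hrN : Subgroup.zpowers r ≤ Subgroup.normalizer (A : Set G) := by
    rw [Subgroup.zpowers_le, Subgroup.mem_normalizer_iff]
    intro a
    refine ⟨hrA a, fun ha => ?_⟩
    have := hrA _ (hrA _ ha)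
    rwa [show r * (r * (r * a * r⁻¹) * r⁻¹) * r⁻¹ = a by
      calc _ = (r * r * r) * a * (r * r * r)⁻¹ := by group
        _ = a := by rw [r3]; group] at this
  have hrp : IsPGroup 3 (Subgroup.zpowers r) := by
    have : orderOf r ∣ 3 := orderOf_dvd_of_pow_eq_one (by rw [pow_succ, pow_two]; exact r3)
    obtain ⟨k, -, hk⟩ := (Nat.dvd_prime_pow Nat.prime_three).1 (show orderOf r ∣ 3 ^ 1 by simpa using this)
    exact IsPGroup.of_card (n := k) (by rw [Nat.card_zpowers, hk])
  have hT : IsPGroup 3 ↥(A ⊔ Subgroup.zpowers r) := hA3.to_sup_of_normal_left' hrp hrN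
  have hhX : h ∈ X := hCX (D.P.mem _)
  have hTX : A ⊔ Subgroup.zpowers r ≤ X := by
    refine sup_le ?_ ((Subgroup.zpowers_le).2 hrX)
    rw [hA, Subgroup.closure_le]
    rintro y (rfl | rfl | rfl)
    · exact hhX
    · exact mul_mem (mul_mem (inv_mem hrX) hhX) hrX
    · exact mul_mem (mul_mem hrX hhX) (inv_mem hrX)
  have hnc : h * r ≠ r * h := by
    intro hc
    have zh : h * z = z * h := Subgroup.mem_centralizer_singleton_iff.1 (D.P.mem _)
    have e1 : r * h * r⁻¹ = h := by rw [← hc, mul_inv_cancel_right]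
    have sh : h * s = s * h := by
      have h1 : h * (z * s) = (z * s) * h := by
        rw [← R.rz]
        calc h * (r * z * r⁻¹) = (r * h * r⁻¹) * (r * z * r⁻¹) := by rw [e1]
          _ = r * (h * z) * r⁻¹ := by group
          _ = r * (z * h) * r⁻¹ := by rw [zh]
          _ = (r * z * r⁻¹) * (r * h * r⁻¹) := by group
          _ = _ := by rw [e1]
      rw [← mul_assoc, zh, mul_assoc, mul_assoc] at h1
      exact mul_left_cancel h1
    refine hknot ?_
    rw [← sh, mul_assoc, D.ss, mul_one]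
    exact Subgroup.mem_zpowers _
  have hz := D.P.zord
  have hmove : ∀ v ∈ ([[0, 4, 0, 4], [4], [5, 4]] : List (List Nat)),
      ∃ c ∈ X, c * ev (LC (φ (a₀, 1)) (φ (h₀, 1)) s i) v * c⁻¹ = z := by
    intro v hv
    obtain ⟨p, hp, rfl⟩ : ∃ p ∈ toZ, p.2 = v := by
      simp only [List.mem_cons, List.not_mem_nil, or_false] at hv
      rcases hv with rfl | rfl | rfl
      · exact ⟨_, List.mem_cons_self, rfl⟩
      · exact ⟨_, List.mem_cons_of_mem _ List.mem_cons_self, rfl⟩
      · exact ⟨_, List.mem_cons_of_mem _ (List.mem_cons_of_mem _ List.mem_cons_self), rfl⟩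
    set L' := LX (φ (a₀, 1)) (φ (h₀, 1)) s i r with hL'
    have hiv : ∀ x, Coset.fl L' (ivX x) = (Coset.fl L' x)⁻¹ :=
      J2U.inv_of_rels (show L'.length = 9 from rfl) (D.relX R) (by decide +kernel)
        (fun x hx => List.getD_eq_default _ _ (by simpa using hx))
    have h1 := hback (toZWord p.1 p.2) (by
      rw [ev_LP]
      exact (QuotientGroup.eq_one_iff _).2 (Mats.central_of_scal (List.all_eq_true.1 toZ_scal p hp)))
    have hflX : ∀ l, Coset.fl L' l ∈ X := by
      intro l
      have ha : φ (a₀, 1) ∈ X := hCX (D.P.mem _)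
      have hh0 : φ (h₀, 1) ∈ X := hCX (D.P.mem _)
      have hs : s ∈ X := hCX D.smem
      have hi : i ∈ X := hCX D.imem
      rcases lt_or_ge l 9 with hl | hl
      · interval_cases l
        · exact ha
        · exact inv_mem ha
        · exact hh0
        · exact inv_mem hh0
        · exact hs
        · exact hi
        · exact inv_mem hi
        · exact hrX
        · exact inv_mem hrX
      · rw [Coset.fl_of_le _ (show L'.length ≤ l from hl)]; exact one_mem X
    refine ⟨Coset.ev L' p.1, ?_, ?_⟩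
    · rw [Coset.ev]
      refine list_prod_mem fun x hx => ?_
      obtain ⟨l, -, rfl⟩ := List.mem_map.1 hx
      exact hflX l
    · rw [toZWord, Coset.ev_append, Coset.ev_append, Coset.ev_append, J2U.ev_inv_word hiv] at h1
      have hv2 : Coset.ev L' p.2 = Coset.ev (LC (φ (a₀, 1)) (φ (h₀, 1)) s i) p.2 := by
        simp only [toZ, List.mem_cons, List.not_mem_nil, or_false] at hp
        rcases hp with rfl | rfl | rfl <;> rfl
      rw [← hv2, mul_eq_one_iff_eq_inv.1 h1]
      simp only [Coset.ev_cons, Coset.ev_nil, mul_one]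
      show ((φ (a₀, 1))⁻¹ * (φ (a₀, 1))⁻¹)⁻¹ = z
      rw [mul_inv_rev, inv_inv, ← map_mul, Prod.mk_mul_mk, mul_one, gens_facts.1, D.P.zeq]
  have hCconj : ∀ y : G, y * z = z * y → y * y = 1 → y ≠ 1 → ∃ x ∈ X, x * y * x⁻¹ = z := by
    intro y hyz hy hy1
    obtain ⟨n, hn, hpn, hln⟩ := D.K.ex hyz
    have ht := Coset.of_allBelow classTest_all n hn
    unfold classTest at ht
    rw [D.K.ne (D.two hln hln) (by simp) (by rw [Coset.ev_append, ← hpn, hy, Coset.ev_nil]), cond_true] at ht
    simp only [Bool.or_eq_true] at ht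
    have hconjTo : ∀ v : List Nat, (∀ l ∈ v, l < 7) → conjTo C11.Tb (wdN C11.Par n) v = true →
        ∃ c ∈ X, c * y * c⁻¹ = Coset.ev (LC (φ (a₀, 1)) (φ (h₀, 1)) s i) v := by
      intro v hv h
      rw [conjTo, List.any_eq_true] at h
      obtain ⟨c, hc, hc'⟩ := h
      have okc : ∀ l ∈ c, l < 7 := okW_iff.1 (Coset.allList_iff.1 conjW_ok c hc)
      have := D.K.eq (D.two (D.two okc hln) (D.ivw okc)) hv hc'
      rw [Coset.ev_append, Coset.ev_append, D.K.ev_invW, ← hpn] at this
      exact ⟨_, hCX D.K.mem_ev, this⟩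
    have step : ∀ v : List Nat, (∀ l ∈ v, l < 7) → v ∈ ([[0, 4, 0, 4], [4], [5, 4]] : List (List Nat)) →
        conjTo C11.Tb (wdN C11.Par n) v = true → ∃ x ∈ X, x * y * x⁻¹ = z := by
      intro v hv hv' h
      obtain ⟨c, hc, hce⟩ := hconjTo v hv h
      obtain ⟨d, hd, hde⟩ := hmove v hv'
      exact ⟨d * c, mul_mem hd hc, by rw [← hde, ← hce]; group⟩
    rcases ht with (((hh1 | hh1) | hh1) | hh1) | hh1
    · exact absurd (hpn.trans ((D.K.eq hln (by simp) hh1).trans (Coset.ev_nil _))) hy1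
    · obtain ⟨c, hc, hce⟩ := hconjTo [0, 0] (by decide) hh1
      exact ⟨c, hc, hce.trans D.ev_z⟩
    · exact step uW (by decide) (by simp [uW]) hh1
    · exact step [4] (by decide) (by simp) hh1
    · exact step [5, 4] (by decide) (by simp) hh1
  have hHconj : ∀ u ∈ X, orderOf u = 2 → ∃ x ∈ X, x * z * x⁻¹ = u := by
    intro u hu hu2
    haveI : Fact (Nat.Prime 2) := ⟨Nat.prime_two⟩
    set C' : Subgroup X := (Subgroup.centralizer ({z} : Set G)).subgroupOf X with hC'
    have hcC : Nat.card C' = 1152 := by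
      rw [hC', Nat.card_congr (Subgroup.subgroupOfEquivOfLe hCX).toEquiv, D.P.cardC]
    obtain ⟨S⟩ := (inferInstance : Nonempty (Sylow 2 C'))
    have hS7 : Nat.card ((S : Subgroup C').map C'.subtype) = 2 ^ 7 := by
      rw [Subgroup.card_map_of_injective C'.subtype_injective, S.card_eq_multiplicity, hcC,
        show (1152 : ℕ) = 2 ^ 7 * 9 by norm_num, Nat.factorization_mul (by norm_num) (by norm_num),
        Finsupp.add_apply, Nat.Prime.factorization_pow Nat.prime_two, Finsupp.single_eq_same,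
        Nat.factorization_eq_zero_of_not_dvd (by norm_num : ¬ 2 ∣ 9)]
    obtain ⟨SX, hSX⟩ := (IsPGroup.of_card hS7).exists_le_sylow
    have hSXe : (SX : Subgroup X) = (S : Subgroup C').map C'.subtype := (Subgroup.eq_of_le_of_card_ge hSX (by
      rw [SX.card_eq_multiplicity, hS7, hcard, show (3265920 : ℕ) = 2 ^ 7 * 25515 by norm_num,
        Nat.factorization_mul (by norm_num) (by norm_num), Finsupp.add_apply,
        Nat.Prime.factorization_pow Nat.prime_two, Finsupp.single_eq_same,
        Nat.factorization_eq_zero_of_not_dvd (by norm_num : ¬ 2 ∣ 25515)])).symm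
    have hu' : orderOf (⟨u, hu⟩ : X) = 2 := by rw [← Subgroup.orderOf_coe]; exact hu2
    obtain ⟨SU, hSU⟩ := (IsPGroup.of_card (n := 1) (by rw [Nat.card_zpowers, hu', pow_one]) :
      IsPGroup 2 (Subgroup.zpowers (⟨u, hu⟩ : X))).exists_le_sylow
    obtain ⟨g, hg⟩ := MulAction.exists_smul_eq X SU SX
    have hin : g * ⟨u, hu⟩ * g⁻¹ ∈ C' := by
      have : g * ⟨u, hu⟩ * g⁻¹ ∈ (SX : Subgroup X) := by
        rw [← hg]; exact ⟨_, hSU (Subgroup.mem_zpowers _), rfl⟩
      rw [hSXe] at this
      exact Subgroup.map_subtype_le _ this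
    have hu1 : u * u = 1 := by rw [← pow_two, ← hu2]; exact pow_orderOf_eq_one u
    have hne : u ≠ 1 := fun he => by rw [he, orderOf_one] at hu2; norm_num at hu2
    obtain ⟨x, hx, hxe⟩ := hCconj ((g : G) * u * (g : G)⁻¹) (Subgroup.mem_centralizer_singleton_iff.1 hin)
      (by
        calc _ = (g : G) * (u * u) * (g : G)⁻¹ := by group
          _ = 1 := by rw [hu1]; group)
      (fun he => hne (conj_eq_one_iff.1 he))
    refine ⟨(x * (g : G))⁻¹, inv_mem (mul_mem hx g.2), ?_⟩
    rw [← hxe]; group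
  have htop : X = ⊤ := eq_top_of_inverted X hz D.cls hCX hHconj (fun Dd hDX hodd k hk hkD => by
    rw [D.P.cardC]
    exact inverted_lt X hcard h7 (A ⊔ Subgroup.zpowers r) hTX hT
      ⟨h, Subgroup.mem_sup_left (Subgroup.subset_closure (Or.inl rfl)), r,
        Subgroup.mem_sup_right (Subgroup.mem_zpowers r), hnc⟩ Dd hDX hodd k hk hkD)
  subst htop
  exact ⟨Subgroup.topEquiv.symm.trans e⟩

end CfsgLib.U43Type
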