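import Cfsg.Agent.U43Type.Types
import Mathlib.GroupTheory.PGroup
import Mathlib.GroupTheory.Index
import Mathlib.GroupTheory.SpecificGroups.Cyclic
import Mathlib.Data.Fintype.Prod
import Mathlib.Data.Fintype.List

/-!
The four types that occur, and the generators of the centraliser.
-/

set_option autoImplicit false
set_option linter.style.haveILetI false
set_option maxRecDepth 100000
set_option synthInstance.maxSize 100000
set_option synthInstance.maxHeartbeats 400000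

namespace CfsgLib.U43Type

/-! ### Finite facts -/

theorem exists_anti : ∀ A : SL, A * A = j₀ → ∃ A' : SL, A' * A' = j₀ ∧ A * A' = A' * A * j₀ := by
  decide +kernel

theorem sq_cases : ∀ A B : SL, (A, B) * (A, B) = 1 ∨ (A, B) * (A, B) = (j₀, j₀) →
    A * A = j₀ ∧ B * B = j₀ ∨ (A = 1 ∨ A = j₀) ∧ (B = 1 ∨ B = j₀) := by decide +kernel

theorem four_mem : ∀ A : SL, A * A * (A * A) = 1 ∨ A * A * (A * A) = j₀ → A * A * (A * A) = 1 := by
  decide +kernel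

theorem root_facts : ∀ A : SL, A * A = j₀ → A ≠ 1 ∧ A ≠ j₀ ∧ A * A * (A * A) = 1 := by decide +kernel

theorem anti_facts : ∀ A A' : SL, A * A = j₀ → A' * A' = j₀ → A * A' = A' * A * j₀ →
    A' ≠ 1 ∧ A' ≠ j₀ ∧ A' ≠ A ∧ A' ≠ A * j₀ ∧ A' ≠ j₀ * A ∧ A' * A * (A' * A) = j₀ := by decide +kernel

theorem twist_comm : ∀ (e : Bool) (A A' N : SL), A * A = j₀ → A' * A' = j₀ → A * A' = A' * A * j₀ →
    (N * tw e A * N⁻¹ = A ∨ N * tw e A * N⁻¹ = A * j₀) →
    if e then (N * tw e A' * N⁻¹ * A'⁻¹ = A ∨ N * tw e A' * N⁻¹ * A'⁻¹ = A * j₀)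
    else (N * tw e A' * N⁻¹ * A'⁻¹ = 1 ∨ N * tw e A' * N⁻¹ * A'⁻¹ = j₀) := by decide +kernel

variable {G : Type*} [Group G] {z : G} {φ : SL × SL →* G}

theorem Pair.z_ne (P : Pair z φ) : z ≠ 1 := fun h => by
  have := P.zord
  rw [h, orderOf_one] at this
  norm_num at this

theorem Pair.zz (P : Pair z φ) : z * z = 1 := by
  rw [← pow_two, ← P.zord]; exact pow_orderOf_eq_one z

theorem Pair.qmem (P : Pair z φ) {x : G} (hx : x ∈ qq.map φ) : x ∈ Subgroup.centralizer ({z} : Set G) := by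
  obtain ⟨p, -, rfl⟩ := hx
  exact P.mem p

theorem Pair.z_memQ (P : Pair z φ) : z ∈ qq.map φ :=
  ⟨(j₀, 1), Subgroup.mem_prod.2 ⟨mem_q8.2 (by decide +kernel), mem_q8.2 (by decide +kernel)⟩, P.zeq⟩

theorem Pair.comm_z (P : Pair z φ) {x : G} (hx : x ∈ qq.map φ) : x * z = z * x :=
  Subgroup.mem_centralizer_singleton_iff.1 (P.qmem hx)

theorem Pair.card_range (P : Pair z φ) : Nat.card φ.range = 288 := by
  have h1 := Subgroup.card_eq_card_quotient_mul_card_subgroup φ.ker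
  rw [Nat.card_congr (QuotientGroup.quotientKerEquivRange φ).toEquiv, Nat.card_prod, card_SL] at h1
  have hk : Nat.card φ.ker = 2 := by
    have : (φ.ker : Set (SL × SL)) = {1, (j₀, j₀)} := by
      ext p
      simp only [SetLike.mem_coe, MonoidHom.mem_ker, P.ker, Set.mem_insert_iff, Set.mem_singleton_iff]
    rw [← SetLike.coe_sort_coe, Nat.card_coe_set_eq, this, Set.ncard_pair]
    decide +kernel
  rw [hk] at h1
  omega

theorem qq_card : Nat.card qq = 64 := by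
  rw [qq, Nat.card_congr (Subgroup.prodEquiv q8 q8).toEquiv, Nat.card_prod, card_q8]

theorem Pair.card_q (P : Pair z φ) : Nat.card (qq.map φ) = 32 := by
  have h1 := Subgroup.card_eq_card_quotient_mul_card_subgroup (φ.comp qq.subtype).ker
  rw [Nat.card_congr (QuotientGroup.quotientKerEquivRange (φ.comp qq.subtype)).toEquiv, qq_card,
    MonoidHom.range_comp, Subgroup.range_subtype] at h1
  have hk : Nat.card (φ.comp qq.subtype).ker = 2 := by
    have hj : (j₀, j₀) ∈ qq := Subgroup.mem_prod.2 ⟨mem_q8.2 (by decide +kernel), mem_q8.2 (by decide +kernel)⟩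
    have : ((φ.comp qq.subtype).ker : Set qq) = {1, ⟨(j₀, j₀), hj⟩} := by
      ext p
      simp only [SetLike.mem_coe, MonoidHom.mem_ker, MonoidHom.comp_apply, Subgroup.coe_subtype, P.ker,
        Set.mem_insert_iff, Set.mem_singleton_iff, Subtype.ext_iff, OneMemClass.coe_one]
    rw [← SetLike.coe_sort_coe, Nat.card_coe_set_eq, this, Set.ncard_pair]
    intro e
    exact (by decide +kernel : ((1, 1) : SL × SL) ≠ (j₀, j₀)) (congrArg Subtype.val e)
  rw [hk] at h1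
  omega

theorem Pair.conj_ne (P : Pair z φ) {g : G} (hne : g * z * g⁻¹ ≠ z) : g⁻¹ * z * g ≠ z := fun e => hne (by
  calc g * z * g⁻¹ = g * (g⁻¹ * z * g) * g⁻¹ := by rw [e]
    _ = z := by group)

/-- Coordinates of a conjugate of `z` in `Q`. -/
theorem Pair.coords (P : Pair z φ) {g : G} (hg : g * z * g⁻¹ ∈ qq.map φ) (hne : g * z * g⁻¹ ≠ z) :
    ∃ A B A' B' : SL, φ (A, B) = g * z * g⁻¹ ∧ A * A = j₀ ∧ B * B = j₀ ∧ A' * A' = j₀ ∧ B' * B' = j₀ ∧
      A * A' = A' * A * j₀ ∧ B * B' = B' * B * j₀ := by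
  obtain ⟨⟨A, B⟩, -, hAB⟩ := hg
  have h2 : φ ((A, B) * (A, B)) = 1 := by
    rw [map_mul, hAB]
    calc _ = g * (z * z) * g⁻¹ := by group
      _ = 1 := by rw [P.zz]; group
  rcases sq_cases A B ((P.ker _).1 h2) with ⟨hA, hB⟩ | ⟨hA, hB⟩
  · obtain ⟨A', a1, a2⟩ := exists_anti A hA
    obtain ⟨B', b1, b2⟩ := exists_anti B hB
    exact ⟨A, B, A', B', hAB, hA, hB, a1, b1, a2, b2⟩
  · exfalso
    have h1 : g * z * g⁻¹ ≠ 1 := fun e => P.z_ne (conj_eq_one_iff.1 e)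
    rcases hA with rfl | rfl <;> rcases hB with rfl | rfl
    · exact h1 (hAB.symm.trans (map_one φ))
    · exact hne (hAB.symm.trans P.zeq₂)
    · exact hne (hAB.symm.trans P.zeq)
    · exact h1 (hAB.symm.trans P.jj)

theorem root_mem {A : SL} (h : A * A = j₀) : A ∈ q8 := mem_q8.2 (root_facts A h).2.2

/-- Commutators of two-elements of `C` lie in `Q`. -/
theorem Pair.comm_memQ [Finite G] (P : Pair z φ) (Y : Subgroup G) (hY : IsPGroup 2 Y)
    (hle : Y ≤ Subgroup.centralizer ({z} : Set G)) {a b : G} (ha : a ∈ Y) (hb : b ∈ Y) :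
    a * b * a⁻¹ * b⁻¹ ∈ qq.map φ := by
  haveI : Fact (Nat.Prime 2) := ⟨Nat.prime_two⟩
  set C := Subgroup.centralizer ({z} : Set G) with hC
  set N : Subgroup C := (qq.map φ).subgroupOf C with hN
  haveI : N.Normal := ⟨fun n hn c => by
    rw [hN, Subgroup.mem_subgroupOf] at hn ⊢
    obtain ⟨p, hp, e⟩ := hn
    rw [Subgroup.coe_mul, Subgroup.coe_mul, InvMemClass.coe_inv, ← e]
    exact P.normQ c c.2 p hp⟩
  have hcard : Nat.card (C ⧸ N) = 36 := by
    have h1 := Subgroup.card_eq_card_quotient_mul_card_subgroup N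
    rw [P.cardC, hN, Nat.card_congr (Subgroup.subgroupOfEquivOfLe (fun x hx => P.qmem hx)).toEquiv, P.card_q] at h1
    rw [hN]; omega
  set Y' : Subgroup (C ⧸ N) := (Y.subgroupOf C).map (QuotientGroup.mk' N) with hY'
  have hp : IsPGroup 2 Y' := (hY.of_equiv (Subgroup.subgroupOfEquivOfLe hle).symm).map _
  obtain ⟨n, hn⟩ := IsPGroup.iff_card.1 hp
  have hdvd : Nat.card Y' ∣ 36 := hcard ▸ Subgroup.card_subgroup_dvd_card Y'
  rw [hn] at hdvd
  have hcomm : ∀ x y : Y', x * y = y * x := by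
    have h3 : n ≤ 2 := by
      by_contra h
      have : 2 ^ 3 ∣ 36 := (pow_dvd_pow 2 (by omega : 3 ≤ n)).trans hdvd
      norm_num at this
    interval_cases n
    · intro x y
      haveI : Subsingleton Y' := (Nat.card_eq_one_iff_unique.1 hn).1
      exact Subsingleton.elim _ _
    · haveI := isCyclic_of_prime_card (p := 2) (α := Y') hn
      exact fun x y => mul_comm' x y
    · exact fun x y => IsPGroup.commutative_of_card_eq_prime_sq (p := 2) hn x y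
  have key := hcomm ⟨QuotientGroup.mk' N ⟨a, hle ha⟩, ⟨_, ha, rfl⟩⟩ ⟨QuotientGroup.mk' N ⟨b, hle hb⟩, ⟨_, hb, rfl⟩⟩
  have key' : QuotientGroup.mk' N (⟨a, hle ha⟩ * ⟨b, hle hb⟩ * (⟨a, hle ha⟩ : C)⁻¹ * (⟨b, hle hb⟩ : C)⁻¹) = 1 := by
    have := congrArg Subtype.val key
    simp only [Subgroup.coe_mul] at this
    rw [map_mul, map_mul, map_mul, map_inv, map_inv, this]
    group
  exact Subgroup.mem_subgroupOf.1 ((QuotientGroup.eq_one_iff (N := N) _).1 key')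

/-- The symmetry between `g` and `g⁻¹`. -/
theorem Pair.symm [Finite G] (P : Pair z φ) {g : G} (hg : g * z * g⁻¹ ∈ qq.map φ) (hne : g * z * g⁻¹ ≠ z) :
    g⁻¹ * z * g ∈ qq.map φ := by
  obtain ⟨A, B, A', B', hu, hA, hB, hA', hB', cA, cB⟩ := P.coords hg hne
  set Y : Subgroup G := (qq.map φ).map (MulAut.conj g⁻¹).toMonoidHom ⊓ Subgroup.centralizer ({z} : Set G) with hY
  have hYp : IsPGroup 2 Y := by
    haveI : Fact (Nat.Prime 2) := ⟨Nat.prime_two⟩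
    exact (((IsPGroup.of_card (n := 6) (qq_card.trans (by norm_num))).map φ).map _).to_le inf_le_left
  have hin : ∀ r ∈ qq, r * (A, B) = (A, B) * r ∨ r * (A, B) = (A, B) * r * (j₀, j₀) → g⁻¹ * φ r * g ∈ Y := by
    intro r hr hc
    refine ⟨⟨φ r, ⟨r, hr, rfl⟩, by simp⟩, Subgroup.mem_centralizer_singleton_iff.2 ?_⟩
    have e : φ r * (g * z * g⁻¹) = (g * z * g⁻¹) * φ r := by
      rw [← hu, ← map_mul, ← map_mul, P.eq_iff]; exact hc
    calc g⁻¹ * φ r * g * z = g⁻¹ * (φ r * (g * z * g⁻¹)) * g := by group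
      _ = z * (g⁻¹ * φ r * g) := by rw [e]; group
  have ha : g⁻¹ * φ (A, 1) * g ∈ Y :=
    hin _ (Subgroup.mem_prod.2 ⟨root_mem hA, one_mem _⟩) (Or.inl (by simp))
  have hb : g⁻¹ * φ (A', B') * g ∈ Y :=
    hin _ (Subgroup.mem_prod.2 ⟨root_mem hA', root_mem hB'⟩) (Or.inr (by
      simp only [Prod.mk_mul_mk, cA, cB, Prod.mk.injEq, mul_assoc, j₀_facts.1, mul_one, and_self]))
  have key : φ (A, 1) * φ (A', B') * (φ (A, 1))⁻¹ * (φ (A', B'))⁻¹ = z := by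
    rw [← map_inv, ← map_inv, ← map_mul, ← map_mul, ← map_mul, ← P.zeq]
    congr 1
    simp only [Prod.mk_mul_mk, Prod.inv_mk, inv_one, one_mul, mul_one, mul_inv_cancel, Prod.mk.injEq, and_true]
    have e : ∀ A A' : SL, A * A' = A' * A * j₀ → A * A' * A⁻¹ * A'⁻¹ = j₀ := by decide +kernel
    exact e _ _ cA
  have := P.comm_memQ Y hYp inf_le_right ha hb
  convert this using 1
  rw [← key]; group

/-- The intersection of `Q` with its conjugate. -/
theorem Pair.inter_cases [Finite G] (P : Pair z φ) {g : G} (hg : g * z * g⁻¹ ∈ qq.map φ)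
    (hne : g * z * g⁻¹ ≠ z) {x : G} (hx : x ∈ qq.map φ) (hx' : g⁻¹ * x * g ∈ qq.map φ) :
    x = 1 ∨ x = z ∨ x = g * z * g⁻¹ ∨ x = z * (g * z * g⁻¹) := by
  set u := g * z * g⁻¹ with hu
  set D := qq.map φ ⊓ (qq.map φ).map (MulAut.conj g).toMonoidHom with hD
  have hmem : ∀ y, y ∈ qq.map φ → g⁻¹ * y * g ∈ qq.map φ → y ∈ D := fun y h h' =>
    ⟨h, ⟨g⁻¹ * y * g, h', by simp [mul_assoc]⟩⟩
  have hzD : z ∈ D := hmem z P.z_memQ (P.symm hg hne)
  have huD : u ∈ D := hmem u hg (by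
    rw [hu, show g⁻¹ * (g * z * g⁻¹) * g = z by group]; exact P.z_memQ)
  have hu1 : u ≠ 1 := fun e => P.z_ne (conj_eq_one_iff.1 e)
  have hsub : ({1, z, u, z * u} : Set G) ⊆ (D : Set G) := by
    rintro y (rfl | rfl | rfl | rfl)
    · exact one_mem D
    · exact hzD
    · exact huD
    · exact mul_mem hzD huD
  have h4 : ({1, z, u, z * u} : Set G).ncard = 4 := by
    rw [Set.ncard_eq_succ]
    refine ⟨1, {z, u, z * u}, ?_, rfl, Set.ncard_eq_three.2 ⟨z, u, z * u, hne.symm, ?_, ?_, rfl⟩⟩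
    · simp only [Set.mem_insert_iff, Set.mem_singleton_iff, not_or]
      exact ⟨P.z_ne.symm, hu1.symm, fun e => hne (by
        calc u = z * z * u := by rw [P.zz, one_mul]
          _ = z := by rw [mul_assoc, ← e, mul_one])⟩
    · intro e; exact hu1 (mul_left_cancel (e.symm.trans (mul_one z).symm))
    · intro e; exact P.z_ne (mul_right_cancel (e.symm.trans (one_mul u).symm))
  have heq := Set.eq_of_subset_of_ncard_le hsub (le_of_eq (by
    rw [← Nat.card_coe_set_eq, h4]; exact P.inter g hg hne))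
  have := hmem x hx hx'
  rw [← SetLike.mem_coe, ← heq] at this
  exact this

theorem tmul_sq (t : Ty) (h : tmul t t = t₁) : t.1 = true → t.2.1 = t.2.2 := by
  revert t; decide

/-- Three elements of the centraliser realising the three types. -/
theorem Pair.four [Finite G] (P : Pair z φ) :
    ∃ y₁ y₂ y₃ : G, ∃ t u v : Ty, y₁ ∈ Subgroup.centralizer ({z} : Set G) ∧ y₂ ∈ Subgroup.centralizer ({z} : Set G) ∧
      y₃ ∈ Subgroup.centralizer ({z} : Set G) ∧ y₁ * y₁ = 1 ∧ y₂ * y₂ = 1 ∧ HasType φ t y₁ ∧ HasType φ u y₂ ∧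
      HasType φ v y₃ ∧ t.2.1 = t.2.2 ∧ u.2.1 = u.2.2 ∧ v.2.1 = v.2.2 ∧
      t ≠ t₁ ∧ u ≠ t₁ ∧ v ≠ t₁ ∧ t ≠ u ∧ t ≠ v ∧ u ≠ v := by
  obtain ⟨g, hg, hne⟩ := P.nwc
  obtain ⟨A, B, A', B', hu, hA, hB, hA', hB', cA, cB⟩ := P.coords hg hne
  have hv : g⁻¹ * z * g ∈ qq.map φ := P.symm hg hne
  have hv' : g⁻¹ * z * g⁻¹⁻¹ ∈ qq.map φ := by rwa [inv_inv]
  have hvne : g⁻¹ * z * g⁻¹⁻¹ ≠ z := by rw [inv_inv]; exact P.conj_ne hne
  obtain ⟨fA1, fA2, -, -, fA3, fA4⟩ := anti_facts A A' hA hA' cA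
  obtain ⟨fB1, fB2, fB3, fB4, -, -⟩ := anti_facts B B' hB hB' cB
  obtain ⟨fA5, fA6, fA7, fA8, -, -⟩ := anti_facts A A' hA hA' cA
  obtain ⟨rA1, rA2, -⟩ := root_facts A hA
  obtain ⟨rB1, rB2, -⟩ := root_facts B hB
  -- elements of `Q` commuting with the conjugate of `z`
  have hC : ∀ r : SL × SL, r ∈ qq → φ r * φ (A, B) = φ (A, B) * φ r →
      g⁻¹ * φ r * g ∈ Subgroup.centralizer ({z} : Set G) := fun r hr hc => by
    refine Subgroup.mem_centralizer_singleton_iff.2 ?_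
    rw [hu] at hc
    calc g⁻¹ * φ r * g * z = g⁻¹ * (φ r * (g * z * g⁻¹)) * g := by group
      _ = z * (g⁻¹ * φ r * g) := by rw [hc]; group
  have hp : (A, 1) ∈ qq := Subgroup.mem_prod.2 ⟨root_mem hA, one_mem _⟩
  have ht : (A', B') ∈ qq := Subgroup.mem_prod.2 ⟨root_mem hA', root_mem hB'⟩
  have hcp : φ (A, 1) * φ (A, B) = φ (A, B) * φ (A, 1) := by rw [← map_mul, ← map_mul]; simp
  have hct : φ (A', B') * φ (A, B) = φ (A, B) * φ (A', B') := by
    rw [← map_mul, ← map_mul, P.eq_iff]; right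
    simp only [Prod.mk_mul_mk, cA, cB, Prod.mk.injEq, mul_assoc, j₀_facts.1, mul_one, and_self]
  have hctp : φ ((A', B') * (A, 1)) * φ (A, B) = φ (A, B) * φ ((A', B') * (A, 1)) := by
    rw [map_mul φ (A', B'), mul_assoc, hcp, ← mul_assoc, hct, mul_assoc]
  -- none of them is in the image
  have hout : ∀ r : SL × SL, r ∈ qq → φ r * φ (A, B) = φ (A, B) * φ r →
      (∀ q : SL × SL, q = (1, 1) ∨ q = (j₀, 1) ∨ q = (A, B) ∨ q = (j₀ * A, B) → r ≠ q ∧ r ≠ q * (j₀, j₀)) →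
      ∀ tt, HasType φ tt (g⁻¹ * φ r * g) → tt ≠ t₁ := by
    intro r hr hc hne' tt htt e
    subst e
    obtain ⟨q, hq⟩ := P.range_of_type_one (hC r hr hc) htt
    have hq4 : φ (q * q * (q * q)) = 1 := by
      rw [map_mul, map_mul, hq]
      have hr4 : r * r * (r * r) = 1 :=
        Prod.ext (mem_q8.1 (Subgroup.mem_prod.1 hr).1) (mem_q8.1 (Subgroup.mem_prod.1 hr).2)
      calc _ = g⁻¹ * φ (r * r * (r * r)) * g := by rw [map_mul, map_mul]; group
        _ = 1 := by rw [hr4, map_one]; group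
    have hqQ : q ∈ qq := by
      obtain ⟨q₁, q₂⟩ := q
      rcases (P.ker _).1 hq4 with e | e <;> simp only [Prod.mk_mul_mk, Prod.mk.injEq, Prod.mk_eq_one] at e
      · exact Subgroup.mem_prod.2 ⟨mem_q8.2 e.1, mem_q8.2 e.2⟩
      · exact Subgroup.mem_prod.2 ⟨mem_q8.2 (four_mem _ (Or.inr e.1)), mem_q8.2 (four_mem _ (Or.inr e.2))⟩
    have hz' : z * φ (A, B) = φ (j₀ * A, B) := by rw [← P.zeq, ← map_mul]; simp
    rcases P.inter_cases hg hne ⟨r, hr, rfl⟩ ⟨q, hqQ, hq⟩ with e | e | e | e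
    · exact ((P.eq_iff r (1, 1)).1 (e.trans (map_one φ).symm)).elim (hne' _ (Or.inl rfl)).1 (hne' _ (Or.inl rfl)).2
    · exact ((P.eq_iff r (j₀, 1)).1 (e.trans P.zeq.symm)).elim (hne' _ (Or.inr (Or.inl rfl))).1
        (hne' _ (Or.inr (Or.inl rfl))).2
    · exact ((P.eq_iff r (A, B)).1 (e.trans hu.symm)).elim (hne' _ (Or.inr (Or.inr (Or.inl rfl)))).1
        (hne' _ (Or.inr (Or.inr (Or.inl rfl)))).2
    · exact ((P.eq_iff r (j₀ * A, B)).1 (e.trans (by rw [← hz', hu]))).elim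
        (hne' _ (Or.inr (Or.inr (Or.inr rfl)))).1 (hne' _ (Or.inr (Or.inr (Or.inr rfl)))).2
  -- no twist of one factor alone
  have hnot : ∀ r : SL × SL, r ∈ qq → φ r * φ (A, B) = φ (A, B) * φ r →
      ∀ tt : Ty, HasType φ tt (g⁻¹ * φ r * g) → tt.1 = false → tt.2.1 = tt.2.2 := by
    intro r hr hc tt htt hsw
    obtain ⟨A₂, B₂, C₁, C₂, hw, qA, qB, qC₁, qC₂, c₁, c₂⟩ := P.coords hv' hvne
    rw [inv_inv] at hw
    set y := g⁻¹ * φ r * g with hy
    obtain ⟨⟨N₁, N₂⟩, hn⟩ := htt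
    obtain ⟨sw, e₁, e₂⟩ := tt
    simp only at hsw
    subst hsw
    have hfix : y * φ (A₂, B₂) * y⁻¹ = φ (A₂, B₂) := by
      rw [hw, hy]
      calc _ = g⁻¹ * (φ r * z * (φ r)⁻¹) * g := by group
        _ = _ := by rw [P.comm_z ⟨r, hr, rfl⟩]; group
    have hact : ∀ X Y : SL, y * φ (X, Y) * y⁻¹ = φ (N₁ * tw e₁ X * N₁⁻¹, N₂ * tw e₂ Y * N₂⁻¹) := by
      intro X Y
      rw [hn, ← map_inv, ← map_mul, ← map_mul]
      simp [act]
    rw [hact, P.eq_iff] at hfix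
    simp only [Prod.mk_mul_mk, Prod.mk.injEq] at hfix
    have k1 := twist_comm e₁ A₂ C₁ N₁ qA qC₁ c₁ (hfix.imp And.left And.left)
    have k2 := twist_comm e₂ B₂ C₂ N₂ qB qC₂ c₂ (hfix.imp And.right And.right)
    -- the commutator with an element of `Q` commuting with `v`
    have hcC : φ (C₁, C₂) * φ (A₂, B₂) = φ (A₂, B₂) * φ (C₁, C₂) := by
      rw [← map_mul, ← map_mul, P.eq_iff]; right
      simp only [Prod.mk_mul_mk, c₁, c₂, Prod.mk.injEq, mul_assoc, j₀_facts.1, mul_one, and_self]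
    have hcq : (C₁, C₂) ∈ qq := Subgroup.mem_prod.2 ⟨root_mem qC₁, root_mem qC₂⟩
    have hcomm1 : y * φ (C₁, C₂) * y⁻¹ * (φ (C₁, C₂))⁻¹ ∈ qq.map φ :=
      mul_mem (P.normQ y (hC r hr hc) _ hcq) (inv_mem ⟨_, hcq, rfl⟩)
    have hc' : g * φ (C₁, C₂) * g⁻¹ ∈ Subgroup.centralizer ({z} : Set G) := by
      refine Subgroup.mem_centralizer_singleton_iff.2 ?_
      calc g * φ (C₁, C₂) * g⁻¹ * z = g * (φ (C₁, C₂) * (g⁻¹ * z * g)) * g⁻¹ := by group
        _ = z * (g * φ (C₁, C₂) * g⁻¹) := by rw [← hw, hcC, hw]; group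
    have hcomm2 : g⁻¹⁻¹ * (y * φ (C₁, C₂) * y⁻¹ * (φ (C₁, C₂))⁻¹) * g⁻¹ ∈ qq.map φ := by
      have h1 := P.normQ _ hc' _ (inv_mem hr)
      have h2 := mul_mem (Subgroup.mem_map_of_mem φ hr) h1
      convert h2 using 1
      rw [inv_inv, hy, map_inv]; group
    have hcases := P.inter_cases hv' hvne hcomm1 hcomm2
    rw [hact, inv_inv, ← hw, ← map_inv, ← map_mul, ← P.zeq, ← map_mul, ← map_one φ, P.eq_iff, P.eq_iff,
      P.eq_iff, P.eq_iff] at hcases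
    simp only [Prod.mk_mul_mk, Prod.inv_mk, Prod.mk.injEq, one_mul, Prod.mk_eq_one] at hcases
    generalize N₁ * tw e₁ C₁ * N₁⁻¹ * C₁⁻¹ = X₁ at k1 hcases
    generalize N₂ * tw e₂ C₂ * N₂⁻¹ * C₂⁻¹ = X₂ at k2 hcases
    have key : ∀ A₂ B₂ : SL, A₂ * A₂ = j₀ → B₂ * B₂ = j₀ → ∀ e₁ e₂ : Bool, ∀ X₁ ∈ [1, j₀, A₂, A₂ * j₀],
        ∀ X₂ ∈ [1, j₀, B₂, B₂ * j₀],
        (if e₁ then (X₁ = A₂ ∨ X₁ = A₂ * j₀) else (X₁ = 1 ∨ X₁ = j₀)) →
        (if e₂ then (X₂ = B₂ ∨ X₂ = B₂ * j₀) else (X₂ = 1 ∨ X₂ = j₀)) →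
        ((X₁ = 1 ∧ X₂ = 1 ∨ X₁ = j₀ ∧ X₂ = j₀) ∨ (X₁ = j₀ ∧ X₂ = 1 ∨ X₁ = j₀ * j₀ ∧ X₂ = j₀) ∨
          (X₁ = A₂ ∧ X₂ = B₂ ∨ X₁ = A₂ * j₀ ∧ X₂ = B₂ * j₀) ∨
          (X₁ = j₀ * A₂ ∧ X₂ = B₂ ∨ X₁ = j₀ * A₂ * j₀ ∧ X₂ = B₂ * j₀)) → e₁ = e₂ := by
      decide +kernel
    refine key A₂ B₂ qA qB e₁ e₂ X₁ ?_ X₂ ?_ k1 k2 hcases
    · cases e₁ <;> simp only [Bool.false_eq_true, if_true, if_false] at k1 <;> rcases k1 with rfl | rfl <;> simp
    · cases e₂ <;> simp only [Bool.false_eq_true, if_true, if_false] at k2 <;> rcases k2 with rfl | rfl <;> simp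
  have hsq : ∀ y tt, HasType φ tt y → y * y ∈ φ.range → tmul tt tt = t₁ := fun y tt h hy =>
    P.type_one_of_range hy (h.mul h)
  have htp : (A', B') * (A, 1) ∈ qq := mul_mem ht hp
  have hinv : ∀ r : SL × SL, φ (r * r) = 1 → g⁻¹ * φ r * g * (g⁻¹ * φ r * g) = 1 := fun r h => by
    rw [map_mul] at h
    calc _ = g⁻¹ * (φ r * φ r) * g := by group
      _ = 1 := by rw [h]; group
  have i1 : g⁻¹ * φ (A', B') * g * (g⁻¹ * φ (A', B') * g) = 1 :=
    hinv _ (by rw [Prod.mk_mul_mk, hA', hB', P.jj])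
  have i2 : g⁻¹ * φ ((A', B') * (A, 1)) * g * (g⁻¹ * φ ((A', B') * (A, 1)) * g) = 1 :=
    hinv _ (by simp only [Prod.mk_mul_mk, mul_one]; rw [fA4, hB', P.jj])
  have i3 : g⁻¹ * φ (A, 1) * g * (g⁻¹ * φ (A, 1) * g) = g⁻¹ * z * g := by
    calc _ = g⁻¹ * (φ (A, 1) * φ (A, 1)) * g := by group
      _ = _ := by rw [← map_mul, Prod.mk_mul_mk, hA, one_mul, P.zeq]
  obtain ⟨t, h1⟩ := P.exists_type (hC _ ht hct)
  obtain ⟨v, h3⟩ := P.exists_type (hC _ hp hcp)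
  have h2 : HasType φ (tmul t v) (g⁻¹ * φ ((A', B') * (A, 1)) * g) := by
    have := h1.mul h3
    rwa [show g⁻¹ * φ ((A', B') * (A, 1)) * g = g⁻¹ * φ (A', B') * g * (g⁻¹ * φ (A, 1) * g) by
      rw [map_mul]; group]
  have n1 : t ≠ t₁ := hout _ ht hct (by
    rintro q (rfl | rfl | rfl | rfl) <;> refine ⟨?_, ?_⟩ <;> intro e <;>
      simp only [Prod.mk_mul_mk, Prod.mk.injEq, one_mul] at e
    all_goals first
      | exact fB1 e.2 | exact fB2 e.2 | exact fB3 e.2 | exact fB4 e.2) t h1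
  have n3 : v ≠ t₁ := hout _ hp hcp (by
    rintro q (rfl | rfl | rfl | rfl) <;> refine ⟨?_, ?_⟩ <;> intro e <;>
      simp only [Prod.mk_mul_mk, Prod.mk.injEq, one_mul, j₀_facts.1] at e
    all_goals first
      | exact rA1 e.1 | exact rA2 e.1 | exact rB1 e.2.symm
      | exact (by decide +kernel : ∀ B : SL, B * B = j₀ → (1 : SL) ≠ B * j₀) B hB e.2) v h3
  have n2 : tmul t v ≠ t₁ := hout _ htp hctp (by
    rintro q (rfl | rfl | rfl | rfl) <;> refine ⟨?_, ?_⟩ <;> intro e <;>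
      simp only [Prod.mk_mul_mk, Prod.mk.injEq, one_mul, mul_one] at e
    all_goals first
      | exact fB1 e.2 | exact fB2 e.2 | exact fB3 e.2 | exact fB4 e.2) _ h2
  have one_mem' : (1 : G) ∈ φ.range := one_mem _
  have s1 := hsq _ t h1 (by rw [i1]; exact one_mem')
  have s2 := hsq _ _ h2 (by rw [i2]; exact one_mem')
  have s3 := hsq _ v h3 (by
    rw [i3]
    obtain ⟨p, -, hp'⟩ := hv
    exact ⟨p, hp'⟩)
  have hb : ∀ r : SL × SL, r ∈ qq → φ r * φ (A, B) = φ (A, B) * φ r → ∀ tt,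
      HasType φ tt (g⁻¹ * φ r * g) → tmul tt tt = t₁ → tt.2.1 = tt.2.2 := fun r hr hc tt h hs => by
    cases hh : tt.1
    · exact hnot r hr hc tt h hh
    · exact tmul_sq tt hs hh
  have hd : ∀ t v : Ty, t ≠ t₁ → v ≠ t₁ → tmul t v ≠ t₁ → tmul t t = t₁ → tmul v v = t₁ →
      t ≠ tmul t v ∧ t ≠ v ∧ tmul t v ≠ v := by decide
  obtain ⟨d1, d2, d3⟩ := hd t v n1 n3 n2 s1 s3
  exact ⟨_, _, _, t, tmul t v, v, hC _ ht hct, hC _ htp hctp, hC _ hp hcp, i1, i2, h1, h2, h3,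
    hb _ ht hct t h1 s1, hb _ htp hctp _ h2 s2, hb _ hp hcp v h3 s3, n1, n2, n3, d1, d2, d3⟩

/-- Every type has equal parts on the two factors. -/
theorem Pair.type_bal [Finite G] (P : Pair z φ) {g : G} {t : Ty}
    (hg : g ∈ Subgroup.centralizer ({z} : Set G)) (h : HasType φ t g) : t.2.1 = t.2.2 := by
  by_contra hb
  obtain ⟨y₁, y₂, y₃, a, b, c, m1, m2, m3, -, -, h1, h2, h3, b1, b2, b3, n1, n2, n3, d1, d2, d3⟩ := P.four
  let C := Subgroup.centralizer ({z} : Set G)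
  let ys : Fin 5 → G := ![1, y₁, y₂, y₃, g]
  let ts : Fin 5 → Ty := ![t₁, a, b, c, t]
  have hys : ∀ i, ys i ∈ C := by
    intro i; fin_cases i
    · exact one_mem C
    · exact m1
    · exact m2
    · exact m3
    · exact hg
  have hts : ∀ i, HasType φ (ts i) (ys i) := by
    intro i; fin_cases i
    · exact hasType_one
    · exact h1
    · exact h2
    · exact h3
    · exact h
  have hinj : ∀ i j, ts i = ts j → i = j := by
    have hb' : ∀ u : Ty, u.2.1 = u.2.2 → u ≠ t := fun u hu e => hb (e ▸ hu)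
    intro i j
    fin_cases i <;> fin_cases j <;> simp [ts, n1, n2, n3, d1, d2, d3, n1.symm, n2.symm, n3.symm, d1.symm,
      d2.symm, d3.symm, hb' t₁ rfl, hb' a b1, hb' b b2, hb' c b3, (hb' t₁ rfl).symm, (hb' a b1).symm,
      (hb' b b2).symm, (hb' c b3).symm]
  let F : Fin 5 × φ.range → C := fun x => ⟨ys x.1 * x.2, mul_mem (hys _) (by
    obtain ⟨p, hp⟩ := x.2.2
    rw [← hp]; exact P.mem p)⟩
  have hF : Function.Injective F := by
    rintro ⟨i, k⟩ ⟨j, l⟩ e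
    have e' : ys i * k = ys j * l := congrArg Subtype.val e
    obtain ⟨p, hp⟩ := k.2
    obtain ⟨q, hq⟩ := l.2
    have ti : HasType φ (ts i) (ys i * k) := by
      have := (hts i).mul (hp ▸ hasType_one_of_range p : HasType φ t₁ (k : G))
      rwa [show tmul (ts i) t₁ = ts i from (by decide : ∀ u, tmul u t₁ = u) _] at this
    have tj : HasType φ (ts j) (ys j * l) := by
      have := (hts j).mul (hq ▸ hasType_one_of_range q : HasType φ t₁ (l : G))
      rwa [show tmul (ts j) t₁ = ts j from (by decide : ∀ u, tmul u t₁ = u) _] at this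
    obtain rfl := hinj i j (P.type_unique ti (e' ▸ tj))
    exact Prod.ext rfl (Subtype.ext (mul_left_cancel e'))
  have := Nat.card_le_card_of_injective F hF
  rw [Nat.card_prod, Nat.card_fin, P.card_range, P.cardC] at this
  norm_num at this

/-- Change of the identification of the second factor. -/
theorem Pair.reparam (P : Pair z φ) (k : SL ≃* SL) :
    Pair z (φ.comp ((MulEquiv.refl SL).prodCongr k).toMonoidHom) := by
  set ψ := ((MulEquiv.refl SL).prodCongr k) with hψ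
  have hj : k j₀ = j₀ := by
    have key : ∀ A : SL, A * A = 1 → A ≠ 1 → A = j₀ := by decide +kernel
    refine key _ (by rw [← map_mul, j₀_facts.1, map_one]) (fun e => j₀_facts.2.1 ?_)
    exact k.injective (e.trans (map_one k).symm)
  have hq8 : ∀ A, A ∈ q8 ↔ k A ∈ q8 := fun A => by
    rw [mem_q8, mem_q8, ← map_mul, ← map_mul, MulEquiv.map_eq_one_iff]
  have hqq : qq.map ψ.toMonoidHom = qq := by
    ext ⟨A, B⟩
    rw [Subgroup.mem_map_equiv]
    show (A, k.symm B) ∈ qq ↔ _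
    rw [qq, Subgroup.mem_prod, Subgroup.mem_prod, hq8 (k.symm B)]
    simp
  have hQ : qq.map (φ.comp ψ.toMonoidHom) = qq.map φ := by rw [← Subgroup.map_map, hqq]
  refine ⟨P.zord, P.cardC, fun p => P.mem _, fun p => ?_, ?_, fun g hg p => ?_, fun g hg p hp => ?_, fun c hc h => ?_, ?_, ?_⟩
  · show φ (ψ p) = 1 ↔ _
    rw [P.ker]
    have e1 : ψ p = 1 ↔ p = 1 := MulEquiv.map_eq_one_iff ψ
    have e2 : ψ (j₀, j₀) = (j₀, j₀) := Prod.ext rfl hj
    rw [e1]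
    exact or_congr_right ⟨fun e => ψ.injective (e.trans e2.symm), fun e => e ▸ e2⟩
  · show φ (j₀, k 1) = z
    rw [map_one]; exact P.zeq
  · obtain ⟨q, hq⟩ := P.normal g hg (ψ p)
    exact ⟨ψ.symm q, by
      show φ (ψ (ψ.symm q)) = _
      rw [MulEquiv.apply_symm_apply, hq]; rfl⟩
  · rw [hQ]
    exact P.normQ g hg (ψ p) (by rw [← hqq]; exact ⟨p, hp, rfl⟩)
  · rw [hQ]
    refine P.self c hc (fun q hq => ?_)
    rw [← hqq] at hq
    obtain ⟨p, hp, rfl⟩ := hq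
    exact h p hp
  · rw [hQ]; exact P.nwc
  · rw [hQ]; exact P.inter

/-- Both inner parts adjusted. -/
theorem HasType.adjust {t : Ty} {g : G} (h : HasType φ t g) :
    ∃ n : SL × SL, ∀ p, ((φ n)⁻¹ * g) * φ p * ((φ n)⁻¹ * g)⁻¹ = φ (act t p) := by
  obtain ⟨n, hn⟩ := h
  refine ⟨n, fun p => ?_⟩
  calc _ = (φ n)⁻¹ * (g * φ p * g⁻¹) * φ n := by group
    _ = _ := by rw [hn]; group

set_option maxHeartbeats 2000000 in
/-- The generators of the centraliser. -/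
theorem Pair.exists_gens [Finite G] (P₀ : Pair z φ) :
    ∃ φ' : SL × SL →* G, ∃ s i : G, Pair z φ' ∧ s ∈ Subgroup.centralizer ({z} : Set G) ∧
      i ∈ Subgroup.centralizer ({z} : Set G) ∧ s * s = 1 ∧
      (∀ p, s * φ' p * s⁻¹ = φ' (p.2, p.1)) ∧ (∀ p, i * φ' p * i⁻¹ = φ' (τ p.1, τ p.2)) ∧
      (i * i = 1 ∨ i * i = z) ∧ (i * s * i⁻¹ * s = 1 ∨ i * s * i⁻¹ * s = z) ∧
      Subgroup.centralizer ({z} : Set G) = Subgroup.closure ({φ' (a₀, 1), φ' (h₀, 1), s, i} : Set G) := by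
  obtain ⟨y₁, y₂, y₃, a, b, c, m1, m2, m3, i1, i2, h1, h2, h3, b1, b2, b3, n1, n2, n3, d1, d2, d3⟩ := P₀.four
  obtain ⟨y, t, my, iy, hy, ht⟩ : ∃ y t, y ∈ Subgroup.centralizer ({z} : Set G) ∧ y * y = 1 ∧
      HasType φ t y ∧ t.1 = true := by
    have key : ∀ a b : Ty, a.2.1 = a.2.2 → b.2.1 = b.2.2 → a ≠ t₁ → b ≠ t₁ → a ≠ b → a.1 = true ∨ b.1 = true := by
      decide
    rcases key a b b1 b2 n1 n2 d1 with h | h
    · exact ⟨y₁, a, m1, i1, h1, h⟩
    · exact ⟨y₂, b, m2, i2, h2, h⟩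
  obtain ⟨⟨N₁, N₂⟩, hn⟩ := hy
  obtain ⟨sw, e₁, e₂⟩ := t
  simp only at ht
  subst ht
  let k : SL ≃* SL :=
    { toFun := fun A => N₂ * tw e₂ A * N₂⁻¹
      invFun := fun A => tw e₂ (N₂⁻¹ * A * N₂)
      left_inv := fun A => by cases e₂ <;> simp [tw, τ_τ, mul_assoc]
      right_inv := fun A => by cases e₂ <;> simp [tw, τ_τ, mul_assoc]
      map_mul' := fun A B => by cases e₂ <;> simp [tw, τ_mul, mul_assoc] }
  set φ' := φ.comp ((MulEquiv.refl SL).prodCongr k).toMonoidHom with hφ'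
  have P : Pair z φ' := P₀.reparam k
  have hyinv : y⁻¹ = y := inv_eq_of_mul_eq_one_right iy
  have hl : ∀ A, y * φ' (A, 1) * y⁻¹ = φ' (1, A) := fun A => by
    show y * φ (A, k 1) * y⁻¹ = φ (1, k A)
    rw [map_one, hn, ← map_inv, ← map_mul, ← map_mul]
    congr 1
    simp only [act_fac₁, if_true, Prod.mk_mul_mk, Prod.inv_mk]
    simp [k]
  have hr : ∀ A, y * φ' (1, A) * y⁻¹ = φ' (A, 1) := fun A => by
    rw [← hl, hyinv]
    calc y * (y * φ' (A, 1) * y) * y = (y * y) * φ' (A, 1) * (y * y) := by group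
      _ = _ := by rw [iy]; group
  have hswap : ∀ p, y * φ' p * y⁻¹ = φ' (p.2, p.1) := fun ⟨A, B⟩ => by
    calc y * φ' (A, B) * y⁻¹ = (y * φ' (A, 1) * y⁻¹) * (y * φ' (1, B) * y⁻¹) := by
          rw [show ((A, B) : SL × SL) = (A, 1) * (1, B) by simp, map_mul]; group
      _ = _ := by rw [hl, hr, ← map_mul]; simp
  obtain ⟨z₁, z₂, z₃, a', b', c', k1, k2, k3, -, -, g1, g2, g3, e1, e2, e3, o1, o2, o3, p1, p2, p3⟩ := P.four
  obtain ⟨w, mw, hw⟩ : ∃ w, w ∈ Subgroup.centralizer ({z} : Set G) ∧ HasType φ' (false, true, true) w := by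
    have key : ∀ a b c : Ty, a.2.1 = a.2.2 → b.2.1 = b.2.2 → c.2.1 = c.2.2 → a ≠ t₁ → b ≠ t₁ → c ≠ t₁ →
        a ≠ b → a ≠ c → b ≠ c →
        a = (false, true, true) ∨ b = (false, true, true) ∨ c = (false, true, true) := by decide
    rcases key a' b' c' e1 e2 e3 o1 o2 o3 p1 p2 p3 with h | h | h
    · exact ⟨z₁, k1, h ▸ g1⟩
    · exact ⟨z₂, k2, h ▸ g2⟩
    · exact ⟨z₃, k3, h ▸ g3⟩
  obtain ⟨n, hi⟩ := hw.adjust
  set i := (φ' n)⁻¹ * w with hidef
  have mi : i ∈ Subgroup.centralizer ({z} : Set G) := mul_mem (inv_mem (P.mem n)) mw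
  have hi' : ∀ p, i * φ' p * i⁻¹ = φ' (τ p.1, τ p.2) := fun p => by rw [hi]; simp [act, tw]
  -- elements centralising the image
  have hcen : ∀ x ∈ Subgroup.centralizer ({z} : Set G), (∀ p, x * φ' p * x⁻¹ = φ' p) → x = 1 ∨ x = z := by
    intro x hx h
    obtain ⟨q, -, hq⟩ := P.self x hx (fun p _ => mul_inv_eq_iff_eq_mul.1 (h p))
    obtain ⟨Q₁, Q₂⟩ := q
    have hh : ∀ p, φ' ((Q₁, Q₂) * p * (Q₁, Q₂)⁻¹) = φ' p := fun p => by
      rw [map_mul, map_mul, map_inv, hq, h]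
    have key : ∀ A : SL, ((A * a₀ * A⁻¹ = a₀ ∧ A * h₀ * A⁻¹ = h₀) → A = 1 ∨ A = j₀) ∧
        A * h₀ * A⁻¹ ≠ h₀ * j₀ := by decide +kernel
    have k₁ := (P.eq_iff _ _).1 (hh (h₀, h₀))
    have k₂ := (P.eq_iff _ _).1 (hh (a₀, 1))
    have k₃ := (P.eq_iff _ _).1 (hh (1, a₀))
    simp only [Prod.mk_mul_mk, Prod.inv_mk, Prod.mk.injEq, mul_one, one_mul, mul_inv_cancel] at k₁ k₂ k₃
    have q1 := k₁.resolve_right (fun e => (key Q₁).2 e.1)
    have r1 : Q₁ * a₀ * Q₁⁻¹ = a₀ := (k₂.resolve_right (fun e => j₀_facts.2.1 e.2.symm)).1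
    have r2 : Q₂ * a₀ * Q₂⁻¹ = a₀ := (k₃.resolve_right (fun e => j₀_facts.2.1 e.1.symm)).2
    rcases (key Q₁).1 ⟨r1, q1.1⟩ with rfl | rfl <;> rcases (key Q₂).1 ⟨r2, q1.2⟩ with rfl | rfl
    · exact Or.inl (hq.symm.trans (map_one φ'))
    · exact Or.inr (hq.symm.trans P.zeq₂)
    · exact Or.inr (hq.symm.trans P.zeq)
    · exact Or.inl (hq.symm.trans P.jj)
  have hy2 : ∀ p, y * φ' p * y = φ' (p.2, p.1) := fun p => by rw [← hswap p, hyinv]
  have hii : i * i = 1 ∨ i * i = z := hcen _ (mul_mem mi mi) fun p => by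
    calc i * i * φ' p * (i * i)⁻¹ = i * (i * φ' p * i⁻¹) * i⁻¹ := by group
      _ = φ' p := by rw [hi', hi', τ_τ, τ_τ]
  have his : i * y * i⁻¹ * y = 1 ∨ i * y * i⁻¹ * y = z := hcen _
      (mul_mem (mul_mem (mul_mem mi my) (inv_mem mi)) my) fun p => by
    have hi'' : ∀ p, i⁻¹ * φ' p * i = φ' (τ p.1, τ p.2) := fun p => by
      have := hi' (τ p.1, τ p.2)
      simp only [τ_τ] at this
      rw [← this]; group
    calc i * y * i⁻¹ * y * φ' p * (i * y * i⁻¹ * y)⁻¹ = i * (y * (i⁻¹ * (y * φ' p * y⁻¹) * i) * y⁻¹) * i⁻¹ := by group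
      _ = φ' p := by rw [hswap, hi'', hswap, hi']; simp only [τ_τ]
  refine ⟨φ', y, i, P, my, mi, iy, hswap, hi', hii, his, ?_⟩
  refine le_antisymm ?_ ((Subgroup.closure_le _).2 ?_)
  · intro g hg
    set S := Subgroup.closure ({φ' (a₀, 1), φ' (h₀, 1), y, i} : Set G) with hS
    have hyS : y ∈ S := Subgroup.subset_closure (by simp)
    have hiS : i ∈ S := Subgroup.subset_closure (by simp)
    have hA : ∀ A : SL, φ' (A, 1) ∈ S := fun A => by
      have : (⊤ : Subgroup SL) ≤ S.comap (φ'.comp (MonoidHom.inl SL SL)) := by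
        rw [← closure_gens, Subgroup.closure_le]
        rintro x (rfl | rfl) <;> exact Subgroup.subset_closure (by simp)
      exact this (Subgroup.mem_top A)
    have hR : ∀ p : SL × SL, φ' p ∈ S := fun ⟨A, B⟩ => by
      rw [show ((A, B) : SL × SL) = (A, 1) * (1, B) by simp, map_mul]
      refine mul_mem (hA A) ?_
      rw [← hl]; exact mul_mem (mul_mem hyS (hA B)) (inv_mem hyS)
    obtain ⟨t, ht⟩ := P.exists_type hg
    have hbal := P.type_bal hg ht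
    obtain ⟨x, hxS, hxC, hxt⟩ : ∃ x ∈ S, x ∈ Subgroup.centralizer ({z} : Set G) ∧ HasType φ' t x := by
      have hys : HasType φ' (true, false, false) y :=
        ⟨1, fun p => by rw [hswap]; simp [act, tw]⟩
      have his' : HasType φ' (false, true, true) i :=
        ⟨1, fun p => by rw [hi']; simp [act, tw]⟩
      obtain ⟨sw, e₁, e₂⟩ := t
      simp only at hbal
      subst hbal
      cases sw <;> cases e₁
      · exact ⟨1, one_mem _, one_mem _, hasType_one⟩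
      · exact ⟨i, hiS, mi, his'⟩
      · exact ⟨y, hyS, my, hys⟩
      · exact ⟨i * y, mul_mem hiS hyS, mul_mem mi my, his'.mul hys⟩
    have h1 : tmul t t = t₁ := (by decide : ∀ u : Ty, u.2.1 = u.2.2 → tmul u u = t₁) t hbal
    obtain ⟨p, hp⟩ := P.range_of_type_one (mul_mem hg hxC) (h1 ▸ ht.mul hxt)
    have : g = φ' p * x⁻¹ := by rw [hp]; group
    rw [this]; exact mul_mem (hR p) (inv_mem hxS)
  · rintro x (rfl | rfl | rfl | rfl)
    · exact P.mem _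
    · exact P.mem _
    · exact my
    · exact mi

end CfsgLib.U43Type
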