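import Cfsg.Agent.U43Type.Model

/-!
The data of a centraliser `(SL(2,3) ∘ SL(2,3)).2²` of an involution.
-/

set_option autoImplicit false

namespace CfsgLib.U43Type

variable {G : Type*} [Group G]

/-- The quaternion part of `SL(2,3) × SL(2,3)`. -/
def qq : Subgroup (SL × SL) := q8.prod q8

/-- The data at the involution `z`. -/
structure Pair (z : G) (φ : SL × SL →* G) : Prop where
  zord : orderOf z = 2
  cardC : Nat.card (Subgroup.centralizer ({z} : Set G)) = 1152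
  mem : ∀ p, φ p ∈ Subgroup.centralizer ({z} : Set G)
  ker : ∀ p, φ p = 1 ↔ p = 1 ∨ p = (j₀, j₀)
  zeq : φ (j₀, 1) = z
  normal : ∀ g ∈ Subgroup.centralizer ({z} : Set G), ∀ p, g * φ p * g⁻¹ ∈ φ.range
  normQ : ∀ g ∈ Subgroup.centralizer ({z} : Set G), ∀ p ∈ qq, g * φ p * g⁻¹ ∈ qq.map φ
  self : ∀ c ∈ Subgroup.centralizer ({z} : Set G), (∀ p ∈ qq, c * φ p = φ p * c) → c ∈ qq.map φ
  nwc : ∃ g : G, g * z * g⁻¹ ∈ qq.map φ ∧ g * z * g⁻¹ ≠ z
  inter : ∀ g : G, g * z * g⁻¹ ∈ qq.map φ → g * z * g⁻¹ ≠ z →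
    Nat.card ↥(qq.map φ ⊓ (qq.map φ).map (MulAut.conj g).toMonoidHom) = 4

end CfsgLib.U43Type
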