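import Cfsg.Agent.Coset.Table
import Cfsg.Agent.U43Type.TabDefs
import Cfsg.Agent.U43Type.C11Data

/-! The table of the centraliser, checked. -/

set_option autoImplicit false
set_option maxRecDepth 100000

namespace CfsgLib.U43Type.C11

open CfsgLib.Coset

theorem hR : checkRules (CfsgLib.U43Type.relsC true true) subs R = true := by decide +kernel
theorem hdefs : checkDefs E 7 11 1152 = true := by decide +kernel
theorem hsteps : checkChunks E CfsgLib.U43Type.ivC R 7 6 1152 46 C = true := by decide +kernel
theorem htable : checkTable E CfsgLib.U43Type.ivC (1152 + chunk * 46) 1152 7 11 3 Rep Ref Tb = true := by decide +kernel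

end CfsgLib.U43Type.C11
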