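import Cfsg.Agent.U43Type.Kill
import Mathlib.GroupTheory.Sylow

/-!
All involutions are conjugate.
-/

set_option autoImplicit false
set_option linter.style.haveILetI false
set_option maxRecDepth 100000

namespace CfsgLib.U43Type

open CfsgLib.Coset CfsgLib.J2U

/-- Conjugators of the involutions of the centraliser to four of them. -/
def conjW : List (List Nat) :=
  [[], [2], [3], [2, 0], [3, 0], [2, 0, 3], [2, 0, 4], [3, 0, 4], [0, 2, 4, 2], [0, 2, 4, 3], [0, 3, 4, 2],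
    [2, 4, 2, 0], [4, 2, 4, 5], [4, 3, 4, 5], [0, 2, 4, 2, 5], [2, 0, 4, 2, 5], [2, 0, 4, 3, 5],
    [0, 3, 0, 4, 2, 5], [5], [0, 3, 0, 5], [2, 0, 4, 5], [0, 3, 4, 3, 5], [0, 4, 3, 4, 5], [0, 4], [0, 2, 0, 5]]

/-- A word is conjugate to another. -/
noncomputable def conjTo (Tb : Nat → Nat) (u v : List Nat) : Bool :=
  conjW.any fun c => eqN Tb (c ++ u ++ invW c) v

/-- Every involution is conjugate to one of four. -/
noncomputable def classTest (i : Nat) : Bool :=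
  cond (eqN C11.Tb (wdN C11.Par i ++ wdN C11.Par i) [])
    (eqN C11.Tb (wdN C11.Par i) [] || conjTo C11.Tb (wdN C11.Par i) [0, 0] || conjTo C11.Tb (wdN C11.Par i) uW ||
      conjTo C11.Tb (wdN C11.Par i) [4] || conjTo C11.Tb (wdN C11.Par i) [5, 4]) true

/-- The two images are in the two outer classes. -/
noncomputable def pairTest : Bool :=
  allList (fun A => cond (eqN C11.Tb (A ++ A) uW)
    (allList (fun T => cond (eqN C11.Tb (T ++ T) []) (cond (eqN C11.Tb (T ++ A ++ invW T) (A ++ uW))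
      (qWs.any (fun q => eqN C11.Tb T q) || qWs.any (fun q => eqN C11.Tb (T ++ A) q) ||
        (conjTo C11.Tb T [4] && conjTo C11.Tb (T ++ A) [5, 4]) ||
        (conjTo C11.Tb T [5, 4] && conjTo C11.Tb (T ++ A) [4])) true) true) sWs) true) sWs

/-- Further equations. -/
noncomputable def pairFacts : Bool :=
  sameT C11.Tb 7 ([0] ++ uW) (uW ++ [0]) && sameT C11.Tb 7 (tW ++ uW) (uW ++ tW) &&
  sameT C11.Tb 7 (tW ++ tW) [] && sameT C11.Tb 7 (tW ++ [0] ++ invW tW) ([0] ++ [0, 0]) &&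
  allList (fun x => !eqN C11.Tb tW x && !eqN C11.Tb (tW ++ [0]) x) [[], uW, [0, 0], uW ++ [0, 0]]

theorem classTest_all : allBelow 11 1152 classTest = true := by decide +kernel

theorem compl11 : complTest C11.Tb C11.Par = true := by decide +kernel

theorem pairTest_ok : pairTest = true := by decide +kernel

theorem pairFacts_ok : pairFacts = true := by decide +kernel

theorem conjW_ok : allList okW conjW = true := by decide +kernel

theorem b₀_facts : (h₀ * a₀ * h₀⁻¹) * (h₀ * a₀ * h₀⁻¹) = j₀ ∧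
    (h₀ * a₀ * h₀⁻¹ * a₀) * (h₀ * a₀ * h₀⁻¹ * a₀) = j₀ := by decide +kernel

variable {G : Type*} [Group G] {z : G} {φ : SL × SL →* G}

set_option maxHeartbeats 1000000 in
/-- Involutions of the centraliser and beyond. -/
theorem Pair.one_class [Finite G] (P : Pair z φ) {s i : G} (hs : s ∈ Subgroup.centralizer ({z} : Set G))
    (hs2 : s * s = 1) (hsw : ∀ p, s * φ p * s⁻¹ = φ (p.2, p.1))
    (K : Ctx z (LC (φ (a₀, 1)) (φ (h₀, 1)) s i) C11.Tb C11.Par) :
    ∀ x y : G, orderOf x = 2 → orderOf y = 2 → IsConj x y := by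
  set L := LC (φ (a₀, 1)) (φ (h₀, 1)) s i with hL
  obtain ⟨g, gz, gu⟩ := P.exists_swap
  have hfacts := pairFacts_ok
  simp only [pairFacts, Bool.and_eq_true] at hfacts
  obtain ⟨⟨⟨⟨cau, ctu⟩, ft2⟩, fta⟩, fne⟩ := hfacts
  obtain ⟨l0, l1, l2, l3, l4, l5, l6⟩ := ev_LC_ab (φ (a₀, 1)) (φ (h₀, 1)) s i
  rw [← hL] at l0 l1 l2 l3 l4 l5 l6
  have si : s⁻¹ = s := inv_eq_of_mul_eq_one_right hs2
  have eu : ev L uW = φ (a₀, a₀) := by
    simp only [uW, ev_cons, ev_nil, l0, l4, mul_one]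
    calc _ = φ (a₀, 1) * (s * φ (a₀, 1) * s⁻¹) := by rw [si]; group
      _ = _ := by rw [hsw, ← map_mul]; simp
  have ez : ev L [0, 0] = z := by
    simp only [ev_cons, ev_nil, l0, mul_one]
    rw [← map_mul, Prod.mk_mul_mk, mul_one, gens_facts.1, P.zeq]
  have et : ev L tW = φ (h₀ * a₀ * h₀⁻¹, h₀ * a₀ * h₀⁻¹) := by
    have e2 : ev L tW = (φ (h₀, 1) * φ (a₀, 1) * (φ (h₀, 1))⁻¹) *
        (s * (φ (h₀, 1) * φ (a₀, 1) * (φ (h₀, 1))⁻¹) * s⁻¹) := by
      simp only [tW, ev_cons, ev_nil, l0, l2, l3, l4, mul_one]; rw [si]; group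
    rw [e2, ← map_inv, ← map_mul, ← map_mul, hsw, ← map_mul]
    simp
  have htW : ∀ l ∈ tW, l < 7 := by decide
  have huW : ∀ l ∈ uW, l < 7 := by decide
  have ha0 : ∀ l ∈ ([0] : List Nat), l < 7 := by decide
  have hokS := sWs_ok
  rw [Bool.and_eq_true] at hokS
  have okS : ∀ w ∈ sWs, ∀ l ∈ w, l < 7 := fun w hw => okW_iff.1 (allList_iff.1 hokS.1 w hw)
  have okQ : ∀ w ∈ qWs, ∀ l ∈ w, l < 7 := fun w hw => okW_iff.1 (allList_iff.1 hokS.2 w hw)
  have okC : ∀ w ∈ conjW, ∀ l ∈ w, l < 7 := fun w hw => okW_iff.1 (allList_iff.1 conjW_ok w hw)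
  have two : ∀ {u v : List Nat}, (∀ l ∈ u, l < 7) → (∀ l ∈ v, l < 7) → ∀ l ∈ u ++ v, l < 7 := fun hu hv l hl =>
    (List.mem_append.1 hl).elim (hu l) (hv l)
  have inW : ∀ {u : List Nat}, (∀ l ∈ u, l < 7) → ∀ l ∈ invW u, l < 7 := fun hu l hl => by
    simp only [invW, List.mem_reverse, List.mem_map] at hl
    obtain ⟨m, hm, rfl⟩ := hl
    exact (by decide : ∀ m < 7, ivC m < 7) m (hu m hm)
  let ψ : G → G := fun x => g * x * g⁻¹
  have ψm : ∀ x y, ψ (x * y) = ψ x * ψ y := fun x y => by simp only [ψ]; group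
  have ψi : ∀ x, ψ x⁻¹ = (ψ x)⁻¹ := fun x => by simp only [ψ]; group
  have ψ1 : ψ 1 = 1 := by simp only [ψ]; group
  have ψz : ψ z = φ (a₀, a₀) := gz
  have ψu : ψ (φ (a₀, a₀)) = z := gu
  have img : ∀ w : List Nat, ev L w * ev L uW = ev L uW * ev L w →
      ∃ v ∈ sWs, ψ (ev L w) = ev L v := by
    intro w hw
    have h1 : ψ (ev L w) * z = z * ψ (ev L w) := by rw [← ψu, ← ψm, ← ψm, ← eu, hw]
    obtain ⟨n, hn, hpn, hln⟩ := K.ex h1
    have h2 : ψ (ev L w) * φ (a₀, a₀) = φ (a₀, a₀) * ψ (ev L w) := by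
      rw [← ψz, ← ψm, ← ψm, Subgroup.mem_centralizer_singleton_iff.1 K.mem_ev]
    have ht := of_allBelow compl11 n hn
    have h3 : eqN C11.Tb (wdN C11.Par n ++ uW) (uW ++ wdN C11.Par n) = true :=
      K.ne (two hln huW) (two huW hln) (by rw [ev_append, ev_append, ← hpn, eu]; exact h2)
    rw [h3, cond_true, List.any_eq_true] at ht
    obtain ⟨v, hv, hv'⟩ := ht
    exact ⟨v, hv, hpn.trans (K.eq hln (okS v hv) hv')⟩
  obtain ⟨A, hA, pA⟩ := img [0] (by rw [← ev_append, ← ev_append]; exact K.eq' cau)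
  obtain ⟨T, hT, pT⟩ := img tW (by rw [← ev_append, ← ev_append]; exact K.eq' ctu)
  have oA := okS A hA; have oT := okS T hT
  have qa : φ (a₀, 1) ∈ qq.map φ := ⟨_, Subgroup.mem_prod.2 ⟨root_mem gens_facts.1, one_mem _⟩, rfl⟩
  have qu : φ (a₀, a₀) ∈ qq.map φ :=
    ⟨_, Subgroup.mem_prod.2 ⟨root_mem gens_facts.1, root_mem gens_facts.1⟩, rfl⟩
  have qt : ev L tW ∈ qq.map φ := by
    rw [et]
    have hb : h₀ * a₀ * h₀⁻¹ ∈ q8 := root_mem b₀_facts.1
    exact Subgroup.mem_map_of_mem φ (K := qq) (Subgroup.mem_prod.2 ⟨hb, hb⟩)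
  have qW : ∀ q ∈ qWs, ev L q ∈ qq.map φ := by
    intro q hq
    simp only [qWs, List.mem_map] at hq
    obtain ⟨n, -, rfl⟩ := hq
    rw [ev_append, ev_append]
    refine mul_mem (mul_mem ?_ ?_) ?_
    · rw [ev, List.map_replicate, List.prod_replicate, l0]; exact pow_mem qa _
    · split
      · exact qt
      · exact one_mem _
    · split
      · rw [eu]; exact qu
      · exact one_mem _
  have une : φ (a₀, a₀) ≠ z := by
    intro e
    rw [← P.zeq, P.eq_iff] at e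
    revert e
    decide +kernel
  have notQ : ∀ w v : List Nat, (∀ l ∈ w, l < 7) → (∀ l ∈ v, l < 7) → ev L w ∈ qq.map φ → ψ (ev L w) = ev L v →
      (∀ x ∈ ([[], uW, [0, 0], uW ++ [0, 0]] : List (List Nat)), eqN C11.Tb w x = false) →
      (qWs.any fun q => eqN C11.Tb v q) = false := by
    intro w v hw hv hwQ hwv hne
    rw [Bool.eq_false_iff]
    intro h
    rw [List.any_eq_true] at h
    obtain ⟨q, hq, hq'⟩ := h
    have hqQ := qW q hq
    rw [← K.eq hv (okQ q hq) hq', ← hwv] at hqQ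
    have back : g⁻¹ * ψ (ev L w) * g = ev L w := by simp only [ψ]; group
    have fin : ∀ x ∈ ([[], uW, [0, 0], uW ++ [0, 0]] : List (List Nat)), ev L w ≠ ev L x := by
      intro x hx e
      have hx7 : ∀ l ∈ x, l < 7 := by
        simp only [List.mem_cons, List.not_mem_nil, or_false] at hx
        rcases hx with rfl | rfl | rfl | rfl <;> decide
      have h' := hne x hx
      rw [K.ne hw hx7 e] at h'
      exact Bool.noConfusion h'
    rcases P.inter_cases (g := g) (by rw [gz]; exact qu) (by rw [gz]; exact une) hqQ (by rw [back]; exact hwQ)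
      with h | h | h | h
    · exact fin [] (by simp) (by rw [ev_nil, ← back, h]; group)
    · refine fin uW (by simp) ?_
      rw [eu, ← back, h]
      calc g⁻¹ * z * g = g⁻¹ * (g * φ (a₀, a₀) * g⁻¹) * g := by rw [gu]
        _ = _ := by group
    · exact fin [0, 0] (by simp) (by rw [ez, ← back, h]; group)
    · refine fin (uW ++ [0, 0]) (by simp) ?_
      rw [ev_append, eu, ez, ← back, h]
      calc g⁻¹ * (z * (g * z * g⁻¹)) * g = g⁻¹ * (g * φ (a₀, a₀) * g⁻¹ * (g * z * g⁻¹)) * g := by rw [gu]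
        _ = _ := by group
  have fne' := allList_iff.1 fne
  simp only [Bool.and_eq_true, Bool.not_eq_true'] at fne'
  have nT := notQ tW T htW oT qt pT (fun x hx => (fne' x hx).1)
  have nTA := notQ (tW ++ [0]) (T ++ A) (two htW ha0) (two oT oA)
    (by rw [ev_append]; refine mul_mem qt ?_; simpa [l0] using qa)
    (by rw [ev_append, ψm, pT, pA, ← ev_append]) (fun x hx => (fne' x hx).2)
  have hr1 : eqN C11.Tb (A ++ A) uW = true := K.ne (two oA oA) huW (by
    rw [ev_append, ← pA, ← ψm, eu, ← ψz, ← ez]; simp only [ev_cons, ev_nil, mul_one])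
  have hr2 : eqN C11.Tb (T ++ T) [] = true := K.ne (two oT oT) (by simp) (by
    rw [ev_append, ← pT, ← ψm, ← ev_append, K.eq' ft2, ev_nil, ψ1])
  have hr3 : eqN C11.Tb (T ++ A ++ invW T) (A ++ uW) = true := K.ne (two (two oT oA) (inW oT)) (two oA huW) (by
    rw [ev_append, ev_append, K.ev_invW, ← pT, ← pA, ← ψi, ← ψm, ← ψm, ← K.ev_invW, ← ev_append, ← ev_append,
      K.eq' fta, ev_append, ev_append, ← pA, eu, ez, ψm, ψz])
  have ct := allList_iff.1 pairTest_ok A hA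
  rw [hr1, cond_true] at ct
  have ct2 := allList_iff.1 ct T hT
  rw [hr2, cond_true, hr3, cond_true, nT, nTA, Bool.false_or, Bool.false_or] at ct2
  have hconjTo : ∀ v w : List Nat, (∀ l ∈ v, l < 7) → (∀ l ∈ w, l < 7) → conjTo C11.Tb v w = true →
      IsConj (ev L v) (ev L w) := by
    intro v w hv hw h
    rw [conjTo, List.any_eq_true] at h
    obtain ⟨c, hc, hc'⟩ := h
    have := K.eq (two (two (okC c hc) hv) (inW (okC c hc))) hw hc'
    rw [ev_append, ev_append, K.ev_invW] at this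
    exact isConj_iff.2 ⟨ev L c, this⟩
  -- elements of `Q` of this shape are conjugate to `z`
  have hQz : ∀ A B : SL, A * A = j₀ → B * B = j₀ → IsConj (φ (A, B)) z := by
    intro A B hA hB
    obtain ⟨N₁, rfl⟩ := conj_to_a₀ A hA
    obtain ⟨N₂, rfl⟩ := conj_to_a₀ B hB
    refine (isConj_iff.2 ⟨φ (N₁, N₂), ?_⟩ : IsConj (φ (a₀, a₀)) _).symm.trans (isConj_iff.2 ⟨g, gu⟩)
    rw [← map_inv, ← map_mul, ← map_mul]; rfl
  have ht1 : IsConj (ev L tW) z := by rw [et]; exact hQz _ _ b₀_facts.1 b₀_facts.1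
  have ht2 : IsConj (ev L (tW ++ [0])) z := by
    have e : ev L (tW ++ [0]) = φ (h₀ * a₀ * h₀⁻¹ * a₀, h₀ * a₀ * h₀⁻¹) := by
      rw [ev_append, et, ev_cons, ev_nil, l0, mul_one, ← map_mul]; simp
    rw [e]; exact hQz _ _ b₀_facts.2 b₀_facts.1
  have ψconj : ∀ x, IsConj x (ψ x) := fun x => isConj_iff.2 ⟨g, rfl⟩
  have hsz : IsConj (ev L [4]) z ∧ IsConj (ev L [5, 4]) z := by
    have hT' : IsConj (ev L T) z := by rw [← pT]; exact (ψconj _).symm.trans ht1
    have hTA : IsConj (ev L (T ++ A)) z := by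
      rw [ev_append, ← pT, ← pA, ← ψm, ← ev_append]; exact (ψconj _).symm.trans ht2
    have d4 : ∀ l ∈ ([4] : List Nat), l < 7 := by decide
    have d54 : ∀ l ∈ ([5, 4] : List Nat), l < 7 := by decide
    rw [Bool.or_eq_true, Bool.and_eq_true, Bool.and_eq_true] at ct2
    rcases ct2 with ⟨c1, c2⟩ | ⟨c1, c2⟩
    · exact ⟨(hconjTo _ _ oT d4 c1).symm.trans hT', (hconjTo _ _ (two oT oA) d54 c2).symm.trans hTA⟩
    · exact ⟨(hconjTo _ _ (two oT oA) d4 c2).symm.trans hTA, (hconjTo _ _ oT d54 c1).symm.trans hT'⟩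
  have hC : ∀ y : G, y * z = z * y → y * y = 1 → y ≠ 1 → IsConj y z := by
    intro y hyz hy hy1
    obtain ⟨n, hn, e, hl⟩ := K.ex hyz
    have ht := of_allBelow classTest_all n hn
    unfold classTest at ht
    rw [K.ne (two hl hl) (by simp) (by rw [ev_append, ← e, hy, ev_nil]), cond_true] at ht
    simp only [Bool.or_eq_true] at ht
    rw [e]
    rcases ht with (((h | h) | h) | h) | h
    · exact absurd (e.trans ((K.eq hl (by simp) h).trans (ev_nil (L := L)))) hy1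
    · have := hconjTo _ _ hl (by decide) h
      rwa [ez] at this
    · have := hconjTo _ _ hl huW h
      rw [eu] at this
      exact this.trans (isConj_iff.2 ⟨g, gu⟩)
    · exact (hconjTo _ _ hl (by decide) h).trans hsz.1
    · exact (hconjTo _ _ hl (by decide) h).trans hsz.2
  haveI : Fact (Nat.Prime 2) := ⟨Nat.prime_two⟩
  -- a Sylow two-subgroup inside the centraliser
  obtain ⟨S, hS⟩ := (IsPGroup.of_card (n := 1) (by rw [Nat.card_zpowers, P.zord, pow_one]) :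
    IsPGroup 2 (Subgroup.zpowers z)).exists_le_sylow
  have hzS : z ∈ (S : Subgroup G) := hS (Subgroup.mem_zpowers z)
  haveI : Nontrivial (S : Subgroup G) := ⟨⟨1, ⟨z, hzS⟩, fun e => P.z_ne (congrArg Subtype.val e).symm⟩⟩
  haveI := S.2.center_nontrivial
  obtain ⟨c, hc⟩ := exists_ne (1 : Subgroup.center (S : Subgroup G))
  obtain ⟨k, hk⟩ := S.2 (c : (S : Subgroup G))
  obtain ⟨y, hyS, hy1, hy2, hyc⟩ : ∃ y : G, y ∈ (S : Subgroup G) ∧ y ≠ 1 ∧ y * y = 1 ∧
      ∀ x ∈ (S : Subgroup G), x * y = y * x := by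
    have ho : orderOf (c : (S : Subgroup G)) ∣ 2 ^ k := orderOf_dvd_of_pow_eq_one hk
    obtain ⟨m, -, hm⟩ := (Nat.dvd_prime_pow Nat.prime_two).1 ho
    have hne1 : (c : (S : Subgroup G)) ≠ 1 := fun h => hc (Subtype.ext h)
    have hm0 : m ≠ 0 := fun h => hne1 (orderOf_eq_one_iff.1 (by rw [hm, h, pow_zero]))
    refine ⟨(((c : (S : Subgroup G)) ^ 2 ^ (m - 1) : (S : Subgroup G)) : G), SetLike.coe_mem _, fun h => ?_, ?_, ?_⟩
    · have := orderOf_dvd_of_pow_eq_one (Subtype.ext h : (c : (S : Subgroup G)) ^ 2 ^ (m - 1) = 1)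
      rw [hm, Nat.pow_dvd_pow_iff_le_right one_lt_two] at this
      omega
    · rw [← Subgroup.coe_mul, ← pow_add, ← two_mul, ← pow_succ', Nat.sub_add_cancel (Nat.pos_of_ne_zero hm0),
        ← hm, pow_orderOf_eq_one]
      rfl
    · intro x hx
      exact congrArg Subtype.val
        (Subgroup.mem_center_iff.1 (pow_mem c.2 (2 ^ (m - 1))) ⟨x, hx⟩)
  have hyz : IsConj y z := hC y (hyc z hzS).symm hy2 hy1
  obtain ⟨d, hd⟩ := isConj_iff.1 hyz
  suffices hall : ∀ x : G, orderOf x = 2 → IsConj x z from fun x y hx hy => (hall x hx).trans (hall y hy).symm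
  intro x hx
  obtain ⟨S', hS'⟩ := (IsPGroup.of_card (n := 1) (by rw [Nat.card_zpowers, hx, pow_one]) :
    IsPGroup 2 (Subgroup.zpowers x)).exists_le_sylow
  obtain ⟨f, hf⟩ := MulAction.exists_smul_eq G S' S
  have hxS : f * x * f⁻¹ ∈ (S : Subgroup G) := by
    rw [← hf]
    exact ⟨x, hS' (Subgroup.mem_zpowers x), rfl⟩
  have hx2 : x * x = 1 := by rw [← pow_two, ← hx]; exact pow_orderOf_eq_one x
  have hx1 : x ≠ 1 := fun h => by rw [h, orderOf_one] at hx; norm_num at hx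
  refine (isConj_iff.2 ⟨d * f, rfl⟩ : IsConj x _).trans (hC _ ?_ ?_ ?_)
  · rw [← hd]
    calc d * f * x * (d * f)⁻¹ * (d * y * d⁻¹) = d * (f * x * f⁻¹ * y) * d⁻¹ := by group
      _ = d * y * d⁻¹ * (d * f * x * (d * f)⁻¹) := by rw [hyc _ hxS]; group
  · calc _ = d * f * (x * x) * (d * f)⁻¹ := by group
      _ = 1 := by rw [hx2]; group
  · exact fun h => hx1 (conj_eq_one_iff.1 h)

end CfsgLib.U43Type
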