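import Cfsg.Agent.Coset.Table
import Cfsg.Agent.U43Type.TabDefs
import Cfsg.Agent.U43Type.X2835Data

/-! The table of the cosets of the centraliser, checked. -/

set_option autoImplicit false
set_option maxRecDepth 100000

namespace CfsgLib.U43Type.X2835

open CfsgLib.Coset

theorem hR : checkRules CfsgLib.U43Type.relsQ subs R = true := by decide +kernel
theorem hdefs : checkDefs E 9 13 4605 = true := by decide +kernel
theorem hsteps : checkChunks E CfsgLib.U43Type.ivX R 9 8 4605 248 C = true := by decide +kernel
theorem htable : checkTable E CfsgLib.U43Type.ivX (4605 + chunk * 248) 2835 9 12 4 Rep Ref Tb = true := by decide +kernel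

end CfsgLib.U43Type.X2835
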