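import Cfsg.Agent.Coset.Table
import Cfsg.Agent.U43Type.TabDefs
import Cfsg.Agent.U43Type.X8505Data

/-! The table of the cosets of the centraliser, checked. -/

set_option autoImplicit false
set_option maxRecDepth 100000

namespace CfsgLib.U43Type.X8505

open CfsgLib.Coset

theorem hR : checkRules CfsgLib.U43Type.relsX subs R = true := by decide +kernel
theorem hdefs : checkDefs E 9 15 18597 = true := by decide +kernel
theorem hsteps : checkChunks E CfsgLib.U43Type.ivX R 9 10 18597 999 C = true := by decide +kernel
theorem htable : checkTable E CfsgLib.U43Type.ivX (18597 + chunk * 999) 8505 9 14 4 Rep Ref Tb = true := by decide +kernel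

end CfsgLib.U43Type.X8505
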