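import Cfsg.Agent.U43Type.Rel3
import Cfsg.Agent.U43Type.X8505
import Cfsg.Agent.U43Type.X2835

/-!
All relators hold, and the last one follows from the others.
-/

set_option autoImplicit false
set_option maxRecDepth 100000
set_option Elab.async true

namespace CfsgLib.U43Type

open CfsgLib.Coset CfsgLib.J2U

/-- Commutators lead to the central involution. -/
noncomputable def reachZ : Nat → Nat → Bool
  | 0, i => Nat.beq i (follow (tget C11.Tb) 0 [0, 0])
  | d + 1, i => Nat.beq i (follow (tget C11.Tb) 0 [0, 0]) ||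
      ([[0], [2], [4], [5], [2, 0, 3]] : List (List Nat)).any fun x =>
        reachZ d (follow (tget C11.Tb) 0 (wdN C11.Par i ++ x ++ invW (wdN C11.Par i) ++ invW x))

/-- Every nontrivial element leads to the central involution. -/
noncomputable def normalTest (i : Nat) : Bool := eqN C11.Tb (wdN C11.Par i) [] || reachZ 3 i

/-- The elements commuting with three conjugates of `s`. -/
noncomputable def coreTest (i : Nat) : Bool :=
  let w := wdN C11.Par i
  cond (eqN C11.Tb (w ++ [4]) ([4] ++ w)) (cond (eqN C11.Tb (w ++ [2, 4, 3]) ([2, 4, 3] ++ w))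
    (cond (eqN C11.Tb (w ++ [0, 4, 1]) ([0, 4, 1] ++ w)) (eqN C11.Tb w [] || eqN C11.Tb w [0, 0]) true) true) true

/-- The centre. -/
noncomputable def centreTest (i : Nat) : Bool :=
  let w := wdN C11.Par i
  cond (eqN C11.Tb (w ++ [4]) ([4] ++ w)) (cond (eqN C11.Tb (w ++ [0]) ([0] ++ w))
    (cond (eqN C11.Tb (w ++ [2]) ([2] ++ w)) (eqN C11.Tb w [] || eqN C11.Tb w [0, 0]) true) true) true

/-- The commutator of the last relator with a letter. -/
def commW (l : Nat) : List Nat := cW ++ [l] ++ (cW.map ivX).reverse ++ [ivX l]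

/-- These commutators fix all cosets. -/
noncomputable def fixAll : Bool :=
  allBelow 14 8505 fun i => allList (fun l => Nat.beq (follow (tget X8505.Tb) i (commW l)) i) (List.range 9)

theorem normalTest_all : allBelow 11 1152 normalTest = true := by decide +kernel
theorem coreTest_all : allBelow 11 1152 coreTest = true := by decide +kernel
theorem centreTest_all : allBelow 11 1152 centreTest = true := by decide +kernel
theorem fixAll_ok : fixAll = true := by decide +kernel
theorem sz_not_comm : eqN C11.Tb [4, 2, 4, 3] [2, 4, 3, 4] = false := by decide +kernel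

variable {G : Type*} [Group G]

theorem Ctx.normal_z {z : G} {a h s i : G} (K : Ctx z (LC a h s i) C11.Tb C11.Par) (N : Subgroup G)
    (hN : ∀ n ∈ N, ∀ w : List Nat, ev (LC a h s i) w * n * (ev (LC a h s i) w)⁻¹ ∈ N) {c : G}
    (hc : c * z = z * c) (hcN : c ∈ N) (hne : c ≠ 1) : ev (LC a h s i) [0, 0] ∈ N := by
  obtain ⟨n, hn, hpn, hln⟩ := K.ex hc
  have ht := of_allBelow normalTest_all n hn
  rw [normalTest, Bool.or_eq_true] at ht
  rcases ht with h' | h'
  · exact absurd (hpn.trans ((K.eq hln (by simp) h').trans (ev_nil _))) hne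
  have key : ∀ d i₀, i₀ < 1152 → ev (LC a h s i) (wdN C11.Par i₀) ∈ N → reachZ d i₀ = true →
      ev (LC a h s i) [0, 0] ∈ N := by
    have hwd : ∀ i₀ < 1152, (∀ l ∈ wdN C11.Par i₀, l < 7) ∧
        follow (tget C11.Tb) 0 (wdN C11.Par i₀) = i₀ := fun i₀ hi₀ => checkPath_iff K.path hi₀
    have base : ∀ i₀, i₀ < 1152 → ev (LC a h s i) (wdN C11.Par i₀) ∈ N →
        Nat.beq i₀ (follow (tget C11.Tb) 0 [0, 0]) = true → ev (LC a h s i) [0, 0] ∈ N := by
      intro i₀ hi₀ hm hb
      rw [← K.eq (u := wdN C11.Par i₀) (v := [0, 0]) (hwd i₀ hi₀).1 (by decide)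
        (by unfold eqN; rw [(hwd i₀ hi₀).2]; exact hb)]
      exact hm
    intro d
    induction d with
    | zero => intro i₀ hi₀ hm hr; exact base i₀ hi₀ hm hr
    | succ d ih =>
      intro i₀ hi₀ hm hr
      rw [reachZ, Bool.or_eq_true] at hr
      rcases hr with hr | hr
      · exact base i₀ hi₀ hm hr
      rw [List.any_eq_true] at hr
      obtain ⟨x, hx, hr⟩ := hr
      set w := wdN C11.Par i₀ ++ x ++ invW (wdN C11.Par i₀) ++ invW x with hw
      have hx7 : ∀ l ∈ x, l < 7 := by
        simp only [List.mem_cons, List.not_mem_nil, or_false] at hx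
        rcases hx with rfl | rfl | rfl | rfl | rfl <;> decide
      have hiv : ∀ u : List Nat, (∀ l ∈ u, l < 7) → ∀ l ∈ invW u, l < 7 := fun u hu l hl => by
        simp only [invW, List.mem_reverse, List.mem_map] at hl
        obtain ⟨k, hk, rfl⟩ := hl
        exact (by decide : ∀ k < 7, ivC k < 7) k (hu k hk)
      have hw7 : ∀ l ∈ w, l < 7 := by
        intro l hl
        simp only [hw, List.mem_append] at hl
        rcases hl with ((hl | hl) | hl) | hl
        · exact (hwd i₀ hi₀).1 l hl
        · exact hx7 l hl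
        · exact hiv _ (hwd i₀ hi₀).1 l hl
        · exact hiv _ hx7 l hl
      obtain ⟨E, Rep, htab⟩ := K.tab
      have hj := follow_lt htab w 0 (by norm_num) (by rw [K.len]; exact hw7)
      refine ih _ hj ?_ hr
      rw [← K.eq hw7 (hwd _ hj).1 (by unfold eqN; rw [(hwd _ hj).2]; exact Nat.beq_refl _), hw, ev_append,
        ev_append, ev_append, K.ev_invW, K.ev_invW,
        mul_assoc (ev (LC a h s i) (wdN C11.Par i₀) * ev (LC a h s i) x), mul_assoc (ev (LC a h s i) (wdN C11.Par i₀))]
      refine mul_mem hm ?_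
      rw [← mul_assoc]
      exact hN _ (inv_mem hm) x
  exact key 3 n hn (hpn ▸ hcN) h'

namespace Loc

variable {z : G} {φ : SL × SL →* G} {s i : G} (D : Loc z φ s i)

local notation "LL" => LC (φ (a₀, 1)) (φ (h₀, 1)) s i

include D

/-- The relators of the amalgam. -/
theorem relX [Finite G] {r : G} (R : RData z φ s i r) :
    ∀ w ∈ relsX, ev (LX (φ (a₀, 1)) (φ (h₀, 1)) s i r) w = 1 := by
  have hrel := D.P.rels D.smem D.ss D.swap D.itau true true (by simpa using D.ii) (by simpa using D.isi)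
  set L' := LX (φ (a₀, 1)) (φ (h₀, 1)) s i r with hL'
  have hfl : ∀ l < 7, fl L' l = fl LL l := by
    intro l hl
    interval_cases l <;> rfl
  have hev : ∀ w : List Nat, (∀ l ∈ w, l < 7) → ev L' w = ev LL w := by
    intro w hw
    induction w with
    | nil => rfl
    | cons l w ih =>
      rw [ev_cons, ev_cons, hfl l (hw l List.mem_cons_self), ih fun m hm => hw m (List.mem_cons_of_mem _ hm)]
  have f7 : fl L' 7 = r := rfl
  have f8 : fl L' 8 = r⁻¹ := rfl
  have ri : r⁻¹ = r * r := inv_eq_of_mul_eq_one_right (by rw [← mul_assoc]; exact R.r3)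
  intro w hw
  simp only [relsX, List.mem_append] at hw
  rcases hw with (((hw | hw) | hw) | hw) | hw
  · rw [hev w ((by decide : ∀ w ∈ relsK, ∀ l ∈ w, l < 7) w hw)]
    exact hrel w (by simp [relsC, hw])
  · rw [hev w ((by decide : ∀ w ∈ relsE true true, ∀ l ∈ w, l < 7) w hw)]
    exact hrel w (by simp [relsC, hw])
  · simp only [relsR, List.mem_cons, List.not_mem_nil, or_false] at hw
    rcases hw with rfl | rfl | rfl | rfl | rfl | rfl | rfl
    · simp only [ev_cons, ev_nil, f7, mul_one]; rw [← mul_assoc]; exact R.r3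
    · calc ev L' [7, 2, 4, 2, 4, 8, 4, 3, 4, 3]
          = r * (φ (h₀, 1) * (s * φ (h₀, 1) * s)) * r⁻¹ * (φ (h₀, 1) * (s⁻¹ * φ (h₀, 1) * s⁻¹))⁻¹ * (s⁻¹ * s⁻¹)⁻¹⁻¹ * (s * s) := by
            simp [hL', LX, fl, D.sinv, D.ss, mul_assoc]
        _ = 1 := by rw [D.sinv, R.rx, D.ss]; group
    · calc ev L' [5, 4, 7, 5, 4, 7] = i * s * r * (i * s) * r := by simp [hL', LX, fl, mul_assoc]
        _ = 1 := R.wr
    · calc ev L' [2, 8, 2, 7, 3, 8, 3, 7]
          = φ (h₀, 1) * (r⁻¹ * φ (h₀, 1) * r) * (φ (h₀, 1))⁻¹ * (r⁻¹ * φ (h₀, 1) * r)⁻¹ := by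
            simp [hL', LX, fl, mul_assoc]
        _ = 1 := by rw [D.comm_rel R]; group
    · have hu : φ (a₀, 1) * (s * φ (a₀, 1) * s) = φ (a₀, a₀) := by
        conv_lhs => arg 2; arg 2; rw [← D.sinv]
        rw [D.swap, ← map_mul]; simp
      calc ev L' [7, 0, 4, 0, 4, 8, 4, 1, 4, 1]
          = r * (φ (a₀, 1) * (s * φ (a₀, 1) * s)) * r⁻¹ * (φ (a₀, 1) * (s⁻¹ * φ (a₀, 1) * s⁻¹))⁻¹ := by
            simp [hL', LX, fl, D.sinv, mul_assoc]
        _ = 1 := by rw [D.sinv, hu, R.ru, mul_inv_cancel]
    · have h5 := D.five R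
      rw [show ev LL mW = ev L' mW from (hev mW (by decide)).symm] at h5
      rw [← h5]
      simp [hL', LX, fl, mW, mul_assoc]
    · calc ev L' [8, 0, 0, 7, 4] = r⁻¹ * (φ (a₀, 1) * φ (a₀, 1)) * r * s := by simp [hL', LX, fl, mul_assoc]
        _ = r⁻¹ * (r * s * r⁻¹) * r * s := by
          rw [R.rs, ← map_mul, Prod.mk_mul_mk, gens_facts.1, mul_one, D.P.zeq]
        _ = s * s := by group
        _ = 1 := D.ss
  · rw [hev w ((by decide : ∀ w ∈ pairsC, ∀ l ∈ w, l < 7) w hw)]
    exact hrel w (by simp [relsC, hw])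
  · simp only [List.mem_cons, List.not_mem_nil, or_false] at hw
    rcases hw with rfl | rfl <;> simp [hL', LX, fl]

/-- The last relator. -/
theorem relQ [Finite G] {r : G} (R : RData z φ s i r) :
    ∀ w ∈ relsQ, ev (LX (φ (a₀, 1)) (φ (h₀, 1)) s i r) w = 1 := by
  have hX := D.relX R
  set L' := LX (φ (a₀, 1)) (φ (h₀, 1)) s i r with hL'
  have hiv : ∀ x, fl L' (ivX x) = (fl L' x)⁻¹ :=
    inv_of_rels (show L'.length = 9 from rfl) hX (by decide +kernel)
      (fun x hx => List.getD_eq_default _ _ (by simpa using hx))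
  set C := Subgroup.centralizer ({z} : Set G) with hC
  have hsubs : ∀ w ∈ X8505.subs, ev L' w ∈ C := by
    intro w hw
    simp only [X8505.subs, List.mem_cons, List.not_mem_nil, or_false] at hw
    have ha : φ (a₀, 1) ∈ C := D.P.mem _
    have hh : φ (h₀, 1) ∈ C := D.P.mem _
    rcases hw with rfl | rfl | rfl | rfl | rfl | rfl | rfl <;>
      simp only [ev_cons, ev_nil, mul_one, hL', LX, fl, List.getD_cons_zero, List.getD_cons_succ]
    · exact ha
    · exact inv_mem ha
    · exact hh
    · exact inv_mem hh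
    · exact D.smem
    · exact D.imem
    · exact inv_mem D.imem
  have htab := tableOK_of_check (H := C) hiv X8505.hR X8505.hdefs X8505.hsteps X8505.htable hX hsubs
  set X := Subgroup.closure {x | x ∈ L'} with hXdef
  have evX : ∀ w, ev L' w ∈ X := fun w => by
    rw [ev]
    refine list_prod_mem fun x hx => ?_
    obtain ⟨l, -, rfl⟩ := List.mem_map.1 hx
    exact mem_closure_fl l
  have flC : ∀ l < 7, fl L' l ∈ C := fun l hl => by
    have := hsubs [l] (by rw [X8505.subs]; simp; omega)
    simpa using this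
  have flX : ∀ l, fl L' l ∈ X := fun l => mem_closure_fl l
  -- elements of the centraliser stay in it under all conjugations
  have hcore : ∀ l < 9, ev L' (commW l) = 1 := by
    intro l hl
    have hlw : ∀ m ∈ commW l, m < L'.length := by
      intro m hm
      show m < 9
      have key : ∀ l < 9, ∀ m ∈ commW l, m < 9 := by decide +kernel
      exact key l hl m hm
    have hall : ∀ x ∈ X, x * ev L' (commW l) * x⁻¹ ∈ C := by
      intro x hx
      obtain ⟨j, hj, hxj⟩ := htab.cover (by norm_num) hx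
      have hf := Nat.eq_of_beq_eq_true (allList_iff.1 (of_allBelow fixAll_ok j hj) l (List.mem_range.2 hl))
      have h1 := htab.mem_of_follow (commW l) j hj hlw
      rw [hf] at h1
      set p := rp L' X8505.E (X8505.Rep j) with hp
      have : x * ev L' (commW l) * x⁻¹ = (x * p⁻¹) * (p * ev L' (commW l) * p⁻¹) * (x * p⁻¹)⁻¹ := by group
      rw [this]
      exact mul_mem (mul_mem hxj h1) (inv_mem hxj)
    set g := ev L' (commW l) with hg
    have hgC : g * z = z * g := by
      have := hall 1 (one_mem X)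
      simp only [one_mul, inv_one, mul_one] at this
      exact Subgroup.mem_centralizer_singleton_iff.1 this
    have hcz : ∀ x ∈ X, g * (x⁻¹ * z * x) = x⁻¹ * z * x * g := by
      intro x hx
      have h1 := Subgroup.mem_centralizer_singleton_iff.1 (hall x hx)
      calc g * (x⁻¹ * z * x) = x⁻¹ * ((x * g * x⁻¹) * z) * x := by group
        _ = x⁻¹ * (z * (x * g * x⁻¹)) * x := by rw [h1]
        _ = _ := by group
    have hs' : ∀ c ∈ X, c * z = z * c → g * (c * s * c⁻¹) = c * s * c⁻¹ * g := by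
      intro c hc _
      have := hcz (r * c⁻¹) (mul_mem (show r ∈ X from flX 7) (inv_mem hc))
      have e : (r * c⁻¹)⁻¹ * z * (r * c⁻¹) = c * s * c⁻¹ := by
        rw [← R.rs]; group
      rwa [e] at this
    obtain ⟨n, hn, hpn, hln⟩ := D.K.ex hgC
    have ht := of_allBelow coreTest_all n hn
    simp only [coreTest] at ht
    have o4 : ∀ m ∈ ([4] : List Nat), m < 7 := by decide
    have o243 : ∀ m ∈ ([2, 4, 3] : List Nat), m < 7 := by decide
    have o041 : ∀ m ∈ ([0, 4, 1] : List Nat), m < 7 := by decide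
    have e243 : ev LL [2, 4, 3] = φ (h₀, 1) * s * (φ (h₀, 1))⁻¹ := by simp [LC, fl, mul_assoc]
    have e041 : ev LL [0, 4, 1] = φ (a₀, 1) * s * (φ (a₀, 1))⁻¹ := by simp [LC, fl, mul_assoc]
    have cz' : ∀ p, φ p * z = z * φ p := fun p => Subgroup.mem_centralizer_singleton_iff.1 (D.P.mem p)
    rw [D.K.ne (D.two hln o4) (D.two o4 hln) (by
          rw [ev_append, ev_append, ← hpn, D.ev_s]
          simpa using hs' 1 (one_mem X) (by simp)), cond_true,
      D.K.ne (D.two hln o243) (D.two o243 hln) (by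
          rw [ev_append, ev_append, ← hpn, e243]
          exact hs' _ (by simpa [hL', LX, fl] using flX 2) (cz' _)), cond_true,
      D.K.ne (D.two hln o041) (D.two o041 hln) (by
          rw [ev_append, ev_append, ← hpn, e041]
          exact hs' _ (by simpa [hL', LX, fl] using flX 0) (cz' _)), cond_true, Bool.or_eq_true] at ht
    rcases ht with h | h
    · exact hpn.trans ((D.K.eq hln (by simp) h).trans (ev_nil _))
    · exfalso
      have hgz : g = z := hpn.trans ((D.K.eq hln (by decide) h).trans D.ev_z)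
      -- `z` would commute with all conjugates of `s`, and so would `s`
      have hall' : ∀ x ∈ X, x * z * x⁻¹ ∈ C := fun x hx => hgz ▸ hall x hx
      have hr : r ∈ X := flX 7
      have h2 : φ (h₀, 1) ∈ X := by simpa [hL', LX, fl] using flX 2
      have h3 := Subgroup.mem_centralizer_singleton_iff.1
        (hall' (r * (φ (h₀, 1))⁻¹ * r⁻¹) (mul_mem (mul_mem hr (inv_mem h2)) (inv_mem hr)))
      have hri : r⁻¹ * z * r = s := by rw [← R.rs]; group
      have key : s * (φ (h₀, 1) * s * (φ (h₀, 1))⁻¹) = φ (h₀, 1) * s * (φ (h₀, 1))⁻¹ * s := by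
        calc s * (φ (h₀, 1) * s * (φ (h₀, 1))⁻¹)
            = φ (h₀, 1) * (((φ (h₀, 1))⁻¹ * (r⁻¹ * z * r) * φ (h₀, 1)) * (r⁻¹ * z * r)) * (φ (h₀, 1))⁻¹ := by
              rw [hri]; group
          _ = φ (h₀, 1) * (r⁻¹ * ((r * (φ (h₀, 1))⁻¹ * r⁻¹ * z * (r * (φ (h₀, 1))⁻¹ * r⁻¹)⁻¹) * z) * r) * (φ (h₀, 1))⁻¹ := by
              group
          _ = φ (h₀, 1) * (r⁻¹ * (z * (r * (φ (h₀, 1))⁻¹ * r⁻¹ * z * (r * (φ (h₀, 1))⁻¹ * r⁻¹)⁻¹)) * r) * (φ (h₀, 1))⁻¹ := by
              rw [h3]
          _ = φ (h₀, 1) * ((r⁻¹ * z * r) * ((φ (h₀, 1))⁻¹ * (r⁻¹ * z * r) * φ (h₀, 1))) * (φ (h₀, 1))⁻¹ := by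
              group
          _ = _ := by rw [hri]; group
      have := D.K.ne (u := [4, 2, 4, 3]) (v := [2, 4, 3, 4]) (by decide) (by decide) (by
        simpa [LC, fl, mul_assoc] using key)
      rw [sz_not_comm] at this
      exact Bool.noConfusion this
  -- the element is central
  set c := ev L' cW with hcdef
  have hinvw : ev L' (cW.map ivX).reverse = c⁻¹ := ev_inv_word hiv cW
  have hcomm : ∀ l < 9, c * fl L' l = fl L' l * c := by
    intro l hl
    have h := hcore l hl
    rw [commW, ev_append, ev_append, ev_append, hinvw, ev_cons, ev_cons, ev_nil, mul_one, mul_one, hiv,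
      mul_inv_eq_one, mul_inv_eq_iff_eq_mul] at h
    exact h
  have ha : c * φ (a₀, 1) = φ (a₀, 1) * c := by simpa [hL', LX, fl] using hcomm 0 (by norm_num)
  have hh : c * φ (h₀, 1) = φ (h₀, 1) * c := by simpa [hL', LX, fl] using hcomm 2 (by norm_num)
  have hs : c * s = s * c := by simpa [hL', LX, fl] using hcomm 4 (by norm_num)
  have hr : c * r = r * c := by simpa [hL', LX, fl] using hcomm 7 (by norm_num)
  have hcz' : c * z = z * c := by
    have : c * (φ (a₀, 1) * φ (a₀, 1)) = φ (a₀, 1) * φ (a₀, 1) * c := by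
      rw [← mul_assoc, ha, mul_assoc, ha, ← mul_assoc]
    rwa [← map_mul, Prod.mk_mul_mk, gens_facts.1, mul_one, D.P.zeq] at this
  have hc1 : c = 1 := by
    obtain ⟨n, hn, hpn, hln⟩ := D.K.ex hcz'
    have ht := of_allBelow centreTest_all n hn
    simp only [centreTest] at ht
    rw [D.K.ne (D.two hln (by decide)) (D.two (by decide) hln) (by rw [ev_append, ev_append, ← hpn, D.ev_s]; exact hs),
      cond_true,
      D.K.ne (D.two hln (by decide)) (D.two (by decide) hln)
        (by rw [ev_append, ev_append, ← hpn]; simpa [LC, fl] using ha),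
      cond_true,
      D.K.ne (D.two hln (by decide)) (D.two (by decide) hln)
        (by rw [ev_append, ev_append, ← hpn]; simpa [LC, fl] using hh),
      cond_true, Bool.or_eq_true] at ht
    rcases ht with h | h
    · exact hpn.trans ((D.K.eq hln (by simp) h).trans (ev_nil _))
    · exfalso
      have hgz : c = z := hpn.trans ((D.K.eq hln (by decide) h).trans D.ev_z)
      rw [hgz] at hr
      have := R.rz
      rw [← hr, mul_inv_cancel_right] at this
      exact D.zs_ne.2.1 (mul_left_cancel ((mul_one z).trans this)).symm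
  intro w hw
  simp only [relsQ, List.mem_append, List.mem_cons, List.not_mem_nil, or_false] at hw
  rcases hw with hw | rfl
  · exact hX w hw
  · exact hc1

end Loc

end CfsgLib.U43Type
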