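import Cfsg.Agent.U43Type.Core
import Cfsg.Agent.U43Type.C00
import Cfsg.Agent.U43Type.C01
import Cfsg.Agent.U43Type.C10
import Cfsg.Agent.U43Type.C11

/-!
Only one of the four possible centralisers occurs.
-/

set_option autoImplicit false
set_option maxRecDepth 100000

namespace CfsgLib.U43Type

open CfsgLib.Coset CfsgLib.J2U

/-- The word of `u`. -/
def uW : List Nat := [0, 4, 0, 4]

/-- The word of the diagonal involution that anticommutes with the square root of `z`. -/
def tW : List Nat := [2, 0, 3, 4, 2, 0, 3, 4]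

/-- The elements of `Q` commuting with `u`. -/
def qWs : List (List Nat) :=
  (List.range 16).map fun n => List.replicate (n % 4) 0 ++ (if n / 4 % 2 = 1 then tW else []) ++
    (if n / 8 = 1 then uW else [])

/-- The elements of the centraliser commuting with `u`. -/
def sWs : List (List Nat) :=
  ((List.range 4).map fun n => List.replicate (n % 2) 4 ++ List.replicate (n / 2) 5).flatMap fun v =>
    qWs.map fun q => q ++ v

/-- The word of a power of `u`. -/
def uPow (b : Bool) : List Nat := if b then uW else []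

/-- The relations between the images fail for one candidate of the fourth generator. -/
noncomputable def lastFail (Tb : Nat → Nat) (e f : Bool) (A T X Y : List Nat) : Bool :=
  cond (eqN Tb (Y ++ Y) (uPow e)) (cond (eqN Tb (Y ++ A ++ invW Y) (invW A))
    (cond (eqN Tb (Y ++ T ++ invW Y) ([0, 0] ++ T)) (cond (eqN Tb (Y ++ X ++ invW Y ++ X) (uPow f)) false true) true)
    true) true

/-- No images exist. -/
noncomputable def killTest (Tb : Nat → Nat) (e f : Bool) : Bool :=
  allList (fun A => cond (eqN Tb (A ++ A) uW)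
    (allList (fun T => cond (eqN Tb (T ++ T) []) (cond (eqN Tb (T ++ A ++ invW T) (A ++ uW))
      (qWs.any (fun q => eqN Tb T q) ||
        allList (fun X => cond (eqN Tb (X ++ X) []) (cond (eqN Tb (X ++ A ++ X) (invW A ++ [0, 0]))
          (cond (eqN Tb (X ++ T ++ X) T) (allList (lastFail Tb e f A T X) sWs) true) true) true) sWs)
      true) true) sWs) true) sWs

/-- Relations in the centraliser of `z` and `u`. -/
noncomputable def factsTest (Tb : Nat → Nat) (e f : Bool) : Bool :=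
  sameT Tb 7 ([0] ++ uW) (uW ++ [0]) && sameT Tb 7 (tW ++ uW) (uW ++ tW) && sameT Tb 7 ([4] ++ uW) (uW ++ [4]) &&
  sameT Tb 7 ([5] ++ uW) (uW ++ [5]) && sameT Tb 7 (tW ++ tW) [] &&
  sameT Tb 7 (tW ++ [0] ++ invW tW) ([0] ++ [0, 0]) && sameT Tb 7 ([4] ++ [0] ++ [4]) ([1] ++ uW) &&
  sameT Tb 7 ([4] ++ tW ++ [4]) tW && sameT Tb 7 ([5] ++ tW ++ [6]) (uW ++ tW) &&
  !eqN Tb tW [] && !eqN Tb tW uW && !eqN Tb tW [0, 0] && !eqN Tb tW (uW ++ [0, 0]) &&
  !eqN Tb uW [0, 0]

/-- The list is complete. -/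
noncomputable def complTest (Tb Par : Nat → Nat) : Bool :=
  allBelow 11 1152 fun i =>
    cond (eqN Tb (wdN Par i ++ uW) (uW ++ wdN Par i)) (sWs.any fun w => eqN Tb (wdN Par i) w) true

theorem sWs_ok : (allList okW sWs && allList okW qWs) = true := by decide +kernel

theorem conj_to_a₀ : ∀ A : SL, A * A = j₀ → ∃ N : SL, A = N * a₀ * N⁻¹ := by decide +kernel

variable {G : Type*} [Group G] {z : G} {φ : SL × SL →* G}

/-- An element interchanging `z` and `φ(a₀,a₀)`. -/
theorem Pair.exists_swap [Finite G] (P : Pair z φ) :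
    ∃ g : G, g * z * g⁻¹ = φ (a₀, a₀) ∧ g * φ (a₀, a₀) * g⁻¹ = z := by
  have conjstd : ∀ g : G, g * z * g⁻¹ ∈ qq.map φ → g * z * g⁻¹ ≠ z →
      ∃ k ∈ Subgroup.centralizer ({z} : Set G), g * z * g⁻¹ = k * φ (a₀, a₀) * k⁻¹ := by
    intro g hg hne
    obtain ⟨A, B, -, -, hAB, hA, hB, -⟩ := P.coords hg hne
    obtain ⟨N₁, rfl⟩ := conj_to_a₀ A hA
    obtain ⟨N₂, rfl⟩ := conj_to_a₀ B hB
    refine ⟨φ (N₁, N₂), P.mem _, ?_⟩
    rw [← hAB, ← map_inv, ← map_mul, ← map_mul]; rfl
  obtain ⟨g₀, hg, hne⟩ := P.nwc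
  obtain ⟨k, hk, e⟩ := conjstd g₀ hg hne
  have kz : k * z = z * k := Subgroup.mem_centralizer_singleton_iff.1 hk
  set g₁ := k⁻¹ * g₀ with hg₁
  have e1 : g₁ * z * g₁⁻¹ = φ (a₀, a₀) := by
    rw [hg₁]
    calc _ = k⁻¹ * (g₀ * z * g₀⁻¹) * k := by group
      _ = _ := by rw [e]; group
  have uQ : φ (a₀, a₀) ∈ qq.map φ :=
    ⟨_, Subgroup.mem_prod.2 ⟨root_mem gens_facts.1, root_mem gens_facts.1⟩, rfl⟩
  have une : φ (a₀, a₀) ≠ z := by
    intro e
    rw [← P.zeq, P.eq_iff] at e
    revert e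
    decide +kernel
  have hv := P.symm (g := g₁) (by rw [e1]; exact uQ) (by rw [e1]; exact une)
  have hvne := P.conj_ne (g := g₁) (by rw [e1]; exact une)
  obtain ⟨m, hm, e2⟩ := conjstd g₁⁻¹ (by rwa [inv_inv]) (by rwa [inv_inv])
  rw [inv_inv] at e2
  have mz : m * z * m⁻¹ = z := mul_inv_eq_iff_eq_mul.2 (Subgroup.mem_centralizer_singleton_iff.1 hm)
  refine ⟨g₁ * m, ?_, ?_⟩
  · calc g₁ * m * z * (g₁ * m)⁻¹ = g₁ * (m * z * m⁻¹) * g₁⁻¹ := by group
      _ = _ := by rw [mz, e1]
  · calc g₁ * m * φ (a₀, a₀) * (g₁ * m)⁻¹ = g₁ * (m * φ (a₀, a₀) * m⁻¹) * g₁⁻¹ := by group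
      _ = z := by rw [← e2]; group

/-- A case with no images is impossible. -/
theorem Pair.kill [Finite G] (P : Pair z φ) {s i : G} (hs : s ∈ Subgroup.centralizer ({z} : Set G))
    (hs2 : s * s = 1) (hsw : ∀ p, s * φ p * s⁻¹ = φ (p.2, p.1))
    (hi : ∀ p, i * φ p * i⁻¹ = φ (τ p.1, τ p.2)) (e f : Bool)
    (he : i * i = if e then z else 1) (hf : i * s * i⁻¹ * s = if f then z else 1)
    {Tb Par : Nat → Nat} (K : Ctx z (LC (φ (a₀, 1)) (φ (h₀, 1)) s i) Tb Par)
    (hkill : killTest Tb e f = true) (hfacts : factsTest Tb e f = true) (hcompl : complTest Tb Par = true) :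
    False := by
  set L := LC (φ (a₀, 1)) (φ (h₀, 1)) s i with hL
  obtain ⟨g, gz, gu⟩ := P.exists_swap
  simp only [factsTest, Bool.and_eq_true, Bool.not_eq_true'] at hfacts
  obtain ⟨⟨⟨⟨⟨⟨⟨⟨⟨⟨⟨⟨⟨cau, ctu⟩, csu⟩, ciu⟩, ft2⟩, fta⟩, fsa⟩, fst⟩, fit⟩, ne1⟩, neu⟩, nez⟩, neuz⟩, neuz'⟩ :=
    hfacts
  obtain ⟨l0, l1, l2, l3, l4, l5, l6⟩ := ev_LC_ab (φ (a₀, 1)) (φ (h₀, 1)) s i
  rw [← hL] at l0 l1 l2 l3 l4 l5 l6
  have si : s⁻¹ = s := inv_eq_of_mul_eq_one_right hs2
  have eu : ev L uW = φ (a₀, a₀) := by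
    simp only [uW, ev_cons, ev_nil, l0, l4, mul_one]
    calc _ = φ (a₀, 1) * (s * φ (a₀, 1) * s⁻¹) := by rw [si]; group
      _ = _ := by rw [hsw, ← map_mul]; simp
  have ez : ev L [0, 0] = z := by
    simp only [ev_cons, ev_nil, l0, mul_one]
    rw [← map_mul, Prod.mk_mul_mk, mul_one, gens_facts.1, P.zeq]
  have htW : ∀ l ∈ tW, l < 7 := by decide
  have huW : ∀ l ∈ uW, l < 7 := by decide
  have hzW : ∀ l ∈ ([0, 0] : List Nat), l < 7 := by decide
  have hokS := sWs_ok
  rw [Bool.and_eq_true] at hokS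
  have okS : ∀ w ∈ sWs, ∀ l ∈ w, l < 7 := fun w hw => okW_iff.1 (allList_iff.1 hokS.1 w hw)
  have okQ : ∀ w ∈ qWs, ∀ l ∈ w, l < 7 := fun w hw => okW_iff.1 (allList_iff.1 hokS.2 w hw)
  -- conjugation by `g`
  let ψ : G → G := fun x => g * x * g⁻¹
  have ψm : ∀ x y, ψ (x * y) = ψ x * ψ y := fun x y => by simp only [ψ]; group
  have ψi : ∀ x, ψ x⁻¹ = (ψ x)⁻¹ := fun x => by simp only [ψ]; group
  have ψ1 : ψ 1 = 1 := by simp only [ψ]; group
  have ψz : ψ z = φ (a₀, a₀) := gz
  have ψu : ψ (φ (a₀, a₀)) = z := gu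
  have cz : ∀ w : List Nat, ev L w * z = z * ev L w := fun w =>
    Subgroup.mem_centralizer_singleton_iff.1 K.mem_ev
  have img : ∀ w : List Nat, ev L w * ev L uW = ev L uW * ev L w →
      ∃ v ∈ sWs, ψ (ev L w) = ev L v := by
    intro w hw
    have h1 : ψ (ev L w) * z = z * ψ (ev L w) := by rw [← ψu, ← ψm, ← ψm, ← eu, hw]
    obtain ⟨n, hn, hpn, hln⟩ := K.ex h1
    have h2 : ψ (ev L w) * φ (a₀, a₀) = φ (a₀, a₀) * ψ (ev L w) := by rw [← ψz, ← ψm, ← ψm, cz]
    have ht := of_allBelow hcompl n hn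
    have h3 : eqN Tb (wdN Par n ++ uW) (uW ++ wdN Par n) = true :=
      K.ne (fun l hl => (List.mem_append.1 hl).elim (hln l) (huW l))
        (fun l hl => (List.mem_append.1 hl).elim (huW l) (hln l)) (by
          rw [ev_append, ev_append, ← hpn, eu]; exact h2)
    rw [h3, cond_true, List.any_eq_true] at ht
    obtain ⟨v, hv, hv'⟩ := ht
    exact ⟨v, hv, hpn.trans (K.eq hln (okS v hv) hv')⟩
  have e0 : ev L [0] = φ (a₀, 1) := by simp [l0]
  have e4 : ev L [4] = s := by simp [l4]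
  have e5 : ev L [5] = i := by simp [l5]
  have e6 : ev L [6] = i⁻¹ := by simp [l6]
  have e1 : ev L [1] = (φ (a₀, 1))⁻¹ := by simp [l1]
  obtain ⟨A, hA, pA⟩ := img [0] (by rw [← ev_append, ← ev_append]; exact K.eq' cau)
  obtain ⟨T, hT, pT⟩ := img tW (by rw [← ev_append, ← ev_append]; exact K.eq' ctu)
  obtain ⟨X, hX, pX⟩ := img [4] (by rw [← ev_append, ← ev_append]; exact K.eq' csu)
  obtain ⟨Y, hY, pY⟩ := img [5] (by rw [← ev_append, ← ev_append]; exact K.eq' ciu)
  have two : ∀ {u v : List Nat}, (∀ l ∈ u, l < 7) → (∀ l ∈ v, l < 7) → ∀ l ∈ u ++ v, l < 7 := fun hu hv l hl =>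
    (List.mem_append.1 hl).elim (hu l) (hv l)
  have inW : ∀ {u : List Nat}, (∀ l ∈ u, l < 7) → ∀ l ∈ invW u, l < 7 := fun hu l hl => by
    simp only [invW, List.mem_reverse, List.mem_map] at hl
    obtain ⟨m, hm, rfl⟩ := hl
    exact (by decide : ∀ m < 7, ivC m < 7) m (hu m hm)
  have oA := okS A hA; have oT := okS T hT; have oX := okS X hX; have oY := okS Y hY
  have hr1 : eqN Tb (A ++ A) uW = true := K.ne (two oA oA) huW (by
    rw [ev_append, ← pA, ← ψm, eu, ← ψz, ← ez]; simp only [ev_cons, ev_nil, mul_one])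
  have hr2 : eqN Tb (T ++ T) [] = true := K.ne (two oT oT) (by simp) (by
    rw [ev_append, ← pT, ← ψm, ← ev_append, K.eq' ft2, ev_nil, ψ1])
  have hr3 : eqN Tb (T ++ A ++ invW T) (A ++ uW) = true := K.ne (two (two oT oA) (inW oT)) (two oA huW) (by
    rw [ev_append, ev_append, K.ev_invW, ← pT, ← pA, ← ψi, ← ψm, ← ψm, ← K.ev_invW, ← ev_append, ← ev_append,
      K.eq' fta, ev_append, ev_append, ← pA, eu, ez, ψm, ψz])
  have hnQ : (qWs.any fun q => eqN Tb T q) = false := by
    rw [Bool.eq_false_iff]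
    intro h
    rw [List.any_eq_true] at h
    obtain ⟨q, hq, hq'⟩ := h
    have eT : ev L T = ev L q := K.eq oT (okQ q hq) hq'
    have ha : φ (a₀, 1) ∈ qq.map φ := ⟨_, Subgroup.mem_prod.2 ⟨root_mem gens_facts.1, one_mem _⟩, rfl⟩
    have hu : φ (a₀, a₀) ∈ qq.map φ :=
      ⟨_, Subgroup.mem_prod.2 ⟨root_mem gens_facts.1, root_mem gens_facts.1⟩, rfl⟩
    have ht : ev L tW ∈ qq.map φ := by
      have : ev L tW = (φ (h₀, 1) * φ (a₀, 1) * (φ (h₀, 1))⁻¹) *
          (s * (φ (h₀, 1) * φ (a₀, 1) * (φ (h₀, 1))⁻¹) * s⁻¹) := by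
        simp only [tW, ev_cons, ev_nil, l0, l2, l3, l4, mul_one]; rw [si]; group
      rw [this]
      have hb := P.normQ _ (P.mem (h₀, 1)) (a₀, 1) (Subgroup.mem_prod.2 ⟨root_mem gens_facts.1, one_mem _⟩)
      refine mul_mem hb ?_
      obtain ⟨p, hp, e⟩ := hb
      rw [← e]; exact P.normQ s hs p hp
    have hqQ : ev L q ∈ qq.map φ := by
      simp only [qWs, List.mem_map] at hq
      obtain ⟨n, -, rfl⟩ := hq
      rw [ev_append, ev_append]
      refine mul_mem (mul_mem ?_ ?_) ?_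
      · rw [ev, List.map_replicate, List.prod_replicate, l0]; exact pow_mem ha _
      · split
        · exact ht
        · exact one_mem _
      · split
        · rw [eu]; exact hu
        · exact one_mem _
    have une : φ (a₀, a₀) ≠ z := by
      intro e; rw [← eu, ← ez] at e
      rw [K.ne huW hzW e] at neuz'; exact Bool.noConfusion neuz'
    have back : g⁻¹ * ψ (ev L tW) * g = ev L tW := by simp only [ψ]; group
    rw [← eT, ← pT] at hqQ
    rcases P.inter_cases (g := g) (by rw [gz]; exact hu) (by rw [gz]; exact une) hqQ (by rw [back]; exact ht)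
      with h | h | h | h
    · have : ev L tW = ev L [] := by rw [ev_nil, ← back, h]; group
      rw [K.ne htW (by simp) this] at ne1; exact Bool.noConfusion ne1
    · have : ev L tW = ev L uW := by
        rw [eu, ← back, h]
        calc g⁻¹ * z * g = g⁻¹ * (g * φ (a₀, a₀) * g⁻¹) * g := by rw [gu]
          _ = _ := by group
      rw [K.ne htW huW this] at neu; exact Bool.noConfusion neu
    · have : ev L tW = ev L [0, 0] := by rw [ez, ← back, h]; group
      rw [K.ne htW hzW this] at nez; exact Bool.noConfusion nez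
    · have : ev L tW = ev L (uW ++ [0, 0]) := by
        rw [ev_append, eu, ez, ← back, h]
        calc g⁻¹ * (z * (g * z * g⁻¹)) * g = g⁻¹ * (g * φ (a₀, a₀) * g⁻¹ * (g * z * g⁻¹)) * g := by rw [gu]
          _ = _ := by group
      rw [K.ne htW (two huW hzW) this] at neuz; exact Bool.noConfusion neuz
  have hr4 : eqN Tb (X ++ X) [] = true := K.ne (two oX oX) (by simp) (by
    rw [ev_append, ← pX, ← ψm, e4, hs2, ev_nil, ψ1])
  have hr5 : eqN Tb (X ++ A ++ X) (invW A ++ [0, 0]) = true := K.ne (two (two oX oA) oX) (two (inW oA) hzW) (by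
    rw [ev_append, ev_append, ← pX, ← pA, ← ψm, ← ψm, ← ev_append, ← ev_append, K.eq' fsa, ev_append, ev_append,
      K.ev_invW, ← pA, e1, eu, e0, ψm, ψi, ψu, ez])
  have hr6 : eqN Tb (X ++ T ++ X) T = true := K.ne (two (two oX oT) oX) oT (by
    rw [ev_append, ev_append, ← pX, ← pT, ← ψm, ← ψm, ← ev_append, ← ev_append, K.eq' fst])
  have hp : ∀ b : Bool, ev L (uPow b) = ψ (if b then z else 1) := fun b => by
    cases b <;> simp [uPow, eu, ψ1, ψz]
  have hb : ∀ b : Bool, ∀ l ∈ uPow b, l < 7 := by decide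
  have hr7 : eqN Tb (Y ++ Y) (uPow e) = true := K.ne (two oY oY) (hb e) (by
    rw [ev_append, ← pY, ← ψm, e5, he, hp])
  have hr8 : eqN Tb (Y ++ A ++ invW Y) (invW A) = true := K.ne (two (two oY oA) (inW oY)) (inW oA) (by
    rw [ev_append, ev_append, K.ev_invW, K.ev_invW, ← pY, ← pA, ← ψi, ← ψm, ← ψm, e5, e0, hi, τ_a₀, τ_one, ← ψi,
      ← map_inv]
    simp)
  have hr9 : eqN Tb (Y ++ T ++ invW Y) ([0, 0] ++ T) = true := K.ne (two (two oY oT) (inW oY)) (two hzW oT) (by
    rw [ev_append, ev_append, K.ev_invW, ev_append, ← pY, ← pT, ez, ← ψi, ← ψm, ← ψm, e5, ← ψu, ← ψm, ← eu,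
      ← ev_append, ← K.eq' fit, ev_append, ev_append, e5, e6])
  have hr10 : eqN Tb (Y ++ X ++ invW Y ++ X) (uPow f) = true :=
    K.ne (two (two (two oY oX) (inW oY)) oX) (hb f) (by
      rw [ev_append, ev_append, ev_append, K.ev_invW, ← pY, ← pX, ← ψi, ← ψm, ← ψm, ← ψm, e5, e4, hf, hp])
  have k1 := allList_iff.1 hkill A hA
  rw [hr1, cond_true] at k1
  have k2 := allList_iff.1 k1 T hT
  rw [hr2, cond_true, hr3, cond_true, hnQ, Bool.false_or] at k2
  have k3 := allList_iff.1 k2 X hX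
  rw [hr4, cond_true, hr5, cond_true, hr6, cond_true] at k3
  have k4 := allList_iff.1 k3 Y hY
  rw [lastFail, hr7, cond_true, hr8, cond_true, hr9, cond_true, hr10, cond_true] at k4
  exact Bool.noConfusion k4

theorem path00 : checkPath C00.Tb C00.Par 12 1152 7 11 = true := by decide +kernel
theorem path01 : checkPath C01.Tb C01.Par 12 1152 7 11 = true := by decide +kernel
theorem path10 : checkPath C10.Tb C10.Par 12 1152 7 11 = true := by decide +kernel
theorem path11 : checkPath C11.Tb C11.Par 12 1152 7 11 = true := by decide +kernel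
theorem facts00 : factsTest C00.Tb false false = true := by decide +kernel
theorem facts01 : factsTest C01.Tb false true = true := by decide +kernel
theorem facts10 : factsTest C10.Tb true false = true := by decide +kernel
theorem compl00 : complTest C00.Tb C00.Par = true := by decide +kernel
theorem compl01 : complTest C01.Tb C01.Par = true := by decide +kernel
theorem compl10 : complTest C10.Tb C10.Par = true := by decide +kernel
theorem kill00 : killTest C00.Tb false false = true := by decide +kernel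
theorem kill01 : killTest C01.Tb false true = true := by decide +kernel
theorem kill10 : killTest C10.Tb true false = true := by decide +kernel

/-- The centraliser in the one case that occurs. -/
theorem Pair.exists_core [Finite G] (P₀ : Pair z φ) :
    ∃ φ' : SL × SL →* G, ∃ s i : G, Pair z φ' ∧ s ∈ Subgroup.centralizer ({z} : Set G) ∧
      i ∈ Subgroup.centralizer ({z} : Set G) ∧ s * s = 1 ∧
      (∀ p, s * φ' p * s⁻¹ = φ' (p.2, p.1)) ∧ (∀ p, i * φ' p * i⁻¹ = φ' (τ p.1, τ p.2)) ∧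
      i * i = z ∧ i * s * i⁻¹ * s = z ∧
      Ctx z (LC (φ' (a₀, 1)) (φ' (h₀, 1)) s i) C11.Tb C11.Par := by
  obtain ⟨φ', s, i, P, hs, hi, hs2, hsw, hit, hii, his, hgen⟩ := P₀.exists_gens
  rcases hii with he | he <;> rcases his with hf | hf
  · exact (P.kill hs hs2 hsw hit false false (by simpa using he) (by simpa using hf)
      (P.ctx hs hs2 hsw hit hgen false false (by simpa using he) (by simpa using hf) C00.hR C00.hdefs C00.hsteps
        C00.htable rfl path00) kill00 facts00 compl00).elim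
  · exact (P.kill hs hs2 hsw hit false true (by simpa using he) (by simpa using hf)
      (P.ctx hs hs2 hsw hit hgen false true (by simpa using he) (by simpa using hf) C01.hR C01.hdefs C01.hsteps
        C01.htable rfl path01) kill01 facts01 compl01).elim
  · exact (P.kill hs hs2 hsw hit true false (by simpa using he) (by simpa using hf)
      (P.ctx hs hs2 hsw hit hgen true false (by simpa using he) (by simpa using hf) C10.hR C10.hdefs C10.hsteps
        C10.htable rfl path10) kill10 facts10 compl10).elim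
  · exact ⟨φ', s, i, P, hs, hi, hs2, hsw, hit, he, hf, P.ctx hs hs2 hsw hit hgen true true (by simpa using he)
      (by simpa using hf) C11.hR C11.hdefs C11.hsteps C11.htable rfl path11⟩

end CfsgLib.U43Type
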