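import Mathlib.LinearAlgebra.Matrix.SpecialLinearGroup
import Mathlib.Data.ZMod.Basic
import Mathlib.GroupTheory.OrderOfElement
import Mathlib.Algebra.Group.Prod

/-!
The group `SL(2,3)` and conjugation by invertible matrices, by computation.
-/

set_option autoImplicit false
set_option maxRecDepth 100000

namespace CfsgLib.U43Type

open Matrix

/-- The special linear group `SL(2,3)`. -/
abbrev SL : Type := Matrix.SpecialLinearGroup (Fin 2) (ZMod 3)

/-- Matrices over the field with three elements. -/
abbrev Mat : Type := Matrix (Fin 2) (Fin 2) (ZMod 3)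

/-- An element of order four. -/
def a₀ : SL := ⟨!![0, 2; 1, 0], by decide +kernel⟩

/-- An element of order three. -/
def h₀ : SL := ⟨!![1, 1; 0, 1], by decide +kernel⟩

/-- The central involution. -/
def j₀ : SL := ⟨!![2, 0; 0, 2], by decide +kernel⟩

/-- Conjugation by a matrix of non-zero determinant. -/
def cj (M : Mat) (hM : M.det * M.det = 1) (A : SL) : SL :=
  ⟨M * A.1 * (M.det • M.adjugate), by
    rw [Matrix.det_mul, Matrix.det_mul, Matrix.det_smul, Matrix.det_adjugate, A.2]
    simp only [Fintype.card_fin]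
    calc M.det * 1 * (M.det ^ 2 * M.det ^ (2 - 1)) = (M.det * M.det) * (M.det * M.det) := by ring
      _ = 1 := by rw [hM, one_mul]⟩

/-- Conjugation by the diagonal matrix of determinant minus one. -/
def τ (A : SL) : SL := cj !![1, 0; 0, 2] (by decide +kernel) A

/-- The quaternion group of order eight. -/
def q8 : Subgroup SL where
  carrier := {A | A * A * (A * A) = 1}
  one_mem' := by simp
  mul_mem' := by
    have h : ∀ A B : SL, A * A * (A * A) = 1 → B * B * (B * B) = 1 → A * B * (A * B) * (A * B * (A * B)) = 1 := by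
      decide +kernel
    exact fun {A B} => h A B
  inv_mem' := fun {A} (h : A * A * (A * A) = 1) => by
    show A⁻¹ * A⁻¹ * (A⁻¹ * A⁻¹) = 1
    rw [← mul_inv_rev, ← mul_inv_rev, h, inv_one]

theorem mem_q8 {A : SL} : A ∈ q8 ↔ A * A * (A * A) = 1 := Iff.rfl

instance : DecidablePred (· ∈ q8) := fun _ => decidable_of_iff _ mem_q8.symm

/-- All elements are products of the generators. -/
theorem closure_gens : Subgroup.closure ({a₀, h₀} : Set SL) = ⊤ := by
  have h : ∀ A : SL, ∃ i : Fin 3, ∃ j : Fin 4, ∃ k : Fin 4,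
      A = h₀ ^ i.val * (a₀ ^ j.val * (h₀ * a₀ ^ k.val * h₀⁻¹)) := by decide +kernel
  refine eq_top_iff.2 fun A _ => ?_
  obtain ⟨i, j, k, rfl⟩ := h A
  have ha : a₀ ∈ Subgroup.closure ({a₀, h₀} : Set SL) := Subgroup.subset_closure (Or.inl rfl)
  have hh : h₀ ∈ Subgroup.closure ({a₀, h₀} : Set SL) := Subgroup.subset_closure (Or.inr rfl)
  exact mul_mem (pow_mem hh _) (mul_mem (pow_mem ha _) (mul_mem (mul_mem hh (pow_mem ha _)) (inv_mem hh)))

theorem τ_a₀ : τ a₀ = a₀⁻¹ := by decide +kernel

theorem τ_h₀ : τ h₀ = h₀⁻¹ := by decide +kernel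

theorem τ_mul : ∀ A B : SL, τ (A * B) = τ A * τ B := by decide +kernel

theorem τ_τ : ∀ A : SL, τ (τ A) = A := by decide +kernel

theorem card_SL : Nat.card SL = 24 := by
  rw [Nat.card_eq_fintype_card]; decide +kernel

theorem card_q8 : Nat.card q8 = 8 := by
  rw [Nat.card_eq_fintype_card]; decide +kernel

end CfsgLib.U43Type
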