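import Cfsg.Agent.U43Type.RelDefs
import Cfsg.Agent.StdClosure.Semisimple
import Mathlib.GroupTheory.Transfer

/-!
The element of order three outside the centraliser and its relators.
-/

set_option autoImplicit false
set_option linter.style.haveILetI false
set_option maxRecDepth 100000

namespace CfsgLib.U43Type

open CfsgLib.Coset CfsgLib.J2U

variable {G : Type*} [Group G]

/-- All data on the centraliser. -/
structure Loc (z : G) (φ : SL × SL →* G) (s i : G) : Prop where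
  P : Pair z φ
  smem : s ∈ Subgroup.centralizer ({z} : Set G)
  imem : i ∈ Subgroup.centralizer ({z} : Set G)
  ss : s * s = 1
  swap : ∀ p, s * φ p * s⁻¹ = φ (p.2, p.1)
  itau : ∀ p, i * φ p * i⁻¹ = φ (τ p.1, τ p.2)
  ii : i * i = z
  isi : i * s * i⁻¹ * s = z
  K : Ctx z (LC (φ (a₀, 1)) (φ (h₀, 1)) s i) C11.Tb C11.Par
  cls : ∀ x y : G, orderOf x = 2 → orderOf y = 2 → IsConj x y

/-- The data exist. -/
theorem Pair.exists_loc [Finite G] {z : G} {φ : SL × SL →* G} (P₀ : Pair z φ) :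
    ∃ φ' : SL × SL →* G, ∃ s i : G, Loc z φ' s i := by
  obtain ⟨φ', s, i, P, hs, hi, hs2, hsw, hit, he, hf, K⟩ := P₀.exists_core
  exact ⟨φ', s, i, P, hs, hi, hs2, hsw, hit, he, hf, K, P.one_class hs hs2 hsw K⟩

namespace Loc

variable {z : G} {φ : SL × SL →* G} {s i : G} (D : Loc z φ s i)

local notation "aa" => φ (a₀, 1)
local notation "hh" => φ (h₀, 1)
local notation "LL" => LC (φ (a₀, 1)) (φ (h₀, 1)) s i
local notation "xx" => φ (h₀, 1) * (s * φ (h₀, 1) * s)
local notation "uu" => φ (a₀, a₀)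

include D

theorem sinv : s⁻¹ = s := inv_eq_of_mul_eq_one_right D.ss

theorem ev_z : ev LL [0, 0] = z := by
  simp only [ev_cons, ev_nil, LC, fl, List.getD_cons_zero, mul_one]
  rw [← map_mul, Prod.mk_mul_mk, mul_one, gens_facts.1, D.P.zeq]

theorem ev_s : ev LL [4] = s := by simp [LC, fl]

theorem ev_zs : ev LL [0, 0, 4] = z * s := by
  rw [show ([0, 0, 4] : List Nat) = [0, 0] ++ [4] from rfl, ev_append, D.ev_z, D.ev_s]

theorem ev_u : ev LL uW = uu := by
  have e : ev LL uW = aa * (s * aa * s⁻¹) := by simp [uW, LC, fl, D.sinv, mul_assoc]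
  rw [e, D.swap, ← map_mul]; simp

theorem ev_x : ev LL xW = xx := by simp [xW, LC, fl, mul_assoc]

theorem ev_u2 : ev LL u2W = xx * uu * (xx)⁻¹ := by
  rw [u2W, ev_append, ev_append, D.K.ev_invW, D.ev_x, D.ev_u]

theorem ev_u3 : ev LL u3W = (xx)⁻¹ * uu * xx := by
  rw [u3W, ev_append, ev_append, D.K.ev_invW, D.ev_x, D.ev_u]

theorem ev_w : ev LL [5, 4] = i * s := by simp [LC, fl]

theorem cz (w : List Nat) : ev LL w * z = z * ev LL w := Subgroup.mem_centralizer_singleton_iff.1 D.K.mem_ev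

theorem sz : s * z = z * s := Subgroup.mem_centralizer_singleton_iff.1 D.smem

theorem zs_ne : z * s ≠ 1 ∧ s ≠ 1 ∧ z ≠ s := by
  have h := wFacts_ok
  simp only [wFacts, Bool.and_eq_true, Bool.not_eq_true'] at h
  have n1 : s ≠ 1 := fun e => by
    have := D.K.ne (u := [4]) (v := []) (by decide) (by simp) (by rw [D.ev_s, ev_nil, e])
    rw [this] at h; simp at h
  have n2 : z ≠ s := fun e => by
    have := D.K.ne (u := [0, 0]) (v := [4]) (by decide) (by decide) (by rw [D.ev_s, D.ev_z, e])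
    rw [this] at h; simp at h
  exact ⟨fun e => n2 (mul_right_cancel (b := s) (e.trans D.ss.symm)), n1, n2⟩

theorem s_notQ : s ∉ qq.map φ := by
  rintro ⟨p, -, hp⟩
  have h := D.swap (a₀, 1)
  rw [← hp, ← map_inv, ← map_mul, ← map_mul, D.P.eq_iff] at h
  obtain ⟨p₁, p₂⟩ := p
  simp only [Prod.mk_mul_mk, Prod.inv_mk, Prod.mk.injEq, mul_one, one_mul, mul_inv_cancel] at h
  have key : ∀ A : SL, A * a₀ * A⁻¹ ≠ 1 ∧ A * a₀ * A⁻¹ ≠ j₀ := by decide +kernel
  rcases h with ⟨e, -⟩ | ⟨e, -⟩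
  · exact (key _).1 e
  · exact (key _).2 e

/-- An element permuting the involutions of the four group cyclically. -/
theorem exists_cycle [Finite G] : ∃ r : G, r * z * r⁻¹ = z * s ∧ r * s * r⁻¹ = z := by
  have hz2 : orderOf z = 2 := D.P.zord
  have zz := D.P.zz
  obtain ⟨-, hs1, hzs⟩ := D.zs_ne
  have hso : orderOf s = 2 := orderOf_eq_prime (by rw [pow_two]; exact D.ss) hs1
  obtain ⟨m, hm⟩ := isConj_iff.1 (D.cls z s hz2 hso)
  set z' := m⁻¹ * z * m with hz'
  have z'z : z' * z = z * z' := by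
    calc z' * z = m⁻¹ * (z * (m * z * m⁻¹)) * m := by rw [hz']; group
      _ = m⁻¹ * ((m * z * m⁻¹) * z) * m := by rw [hm, D.sz]
      _ = z * z' := by rw [hz']; group
  have z'2 : z' * z' = 1 := by
    calc z' * z' = m⁻¹ * (z * z) * m := by rw [hz']; group
      _ = 1 := by rw [zz]; group
  have z'1 : z' ≠ 1 := fun e => D.P.z_ne (by
    calc z = m * z' * m⁻¹ := by rw [hz']; group
      _ = 1 := by rw [e]; group)
  have z'Q : z' ∉ qq.map φ := fun hq => D.s_notQ (by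
    have h1 : m⁻¹ * z * m⁻¹⁻¹ ≠ z := fun e => hzs (by
      rw [← hm]
      calc z = m * (m⁻¹ * z * m⁻¹⁻¹) * m⁻¹ := by group
        _ = _ := by rw [e])
    have := D.P.symm (g := m⁻¹) (by rwa [inv_inv]) h1
    rwa [inv_inv, hm] at this)
  -- it is conjugate in the centraliser to one of two involutions
  obtain ⟨n, hn, hpn, hln⟩ := D.K.ex z'z
  have ht := of_allBelow classTest_all n hn
  unfold classTest at ht
  have two : ∀ {u v : List Nat}, (∀ l ∈ u, l < 7) → (∀ l ∈ v, l < 7) → ∀ l ∈ u ++ v, l < 7 := fun hu hv l hl =>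
    (List.mem_append.1 hl).elim (hu l) (hv l)
  rw [D.K.ne (two hln hln) (by simp) (by rw [ev_append, ← hpn, z'2, ev_nil]), cond_true] at ht
  simp only [Bool.or_eq_true] at ht
  have hconjTo : ∀ w : List Nat, (∀ l ∈ w, l < 7) → conjTo C11.Tb (wdN C11.Par n) w = true →
      ∃ c : G, c * z = z * c ∧ c * z' * c⁻¹ = ev LL w := by
    intro w hw h
    rw [conjTo, List.any_eq_true] at h
    obtain ⟨c, hc, hc'⟩ := h
    have okc : ∀ l ∈ c, l < 7 := okW_iff.1 (allList_iff.1 conjW_ok c hc)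
    have okci : ∀ l ∈ invW c, l < 7 := fun l hl => by
      simp only [invW, List.mem_reverse, List.mem_map] at hl
      obtain ⟨k, hk, rfl⟩ := hl
      exact (by decide : ∀ k < 7, ivC k < 7) k (okc k hk)
    have := D.K.eq (two (two okc hln) okci) hw hc'
    rw [ev_append, ev_append, D.K.ev_invW, ← hpn] at this
    exact ⟨ev LL c, D.cz c, this⟩
  have hQ : ∀ c : G, c * z = z * c → c * z' * c⁻¹ ∈ qq.map φ → False := fun c hc hq => z'Q (by
    obtain ⟨p, hp, e⟩ := hq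
    have := D.P.normQ c⁻¹ (inv_mem (Subgroup.mem_centralizer_singleton_iff.2 hc)) p hp
    rw [e] at this
    simpa [mul_assoc] using this)
  obtain ⟨c, hc, hcz⟩ : ∃ c : G, c * z * c⁻¹ = z ∧ c * z' * c⁻¹ = z * z' := by
    obtain ⟨t, c₀, c₁, hc₀, hc₁, he₀, he₁⟩ : ∃ t c₀ c₁ : G, c₀ * z = z * c₀ ∧ c₁ * z = z * c₁ ∧
        c₀ * z' * c₀⁻¹ = t ∧ c₁ * t * c₁⁻¹ = z * t := by
      rcases ht with (((h | h) | h) | h) | h
      · exact absurd (hpn.trans ((D.K.eq hln (by simp) h).trans (ev_nil (L := LL)))) z'1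
      · obtain ⟨c, hc, e⟩ := hconjTo _ (by decide) h
        rw [D.ev_z] at e
        exact (hQ c hc (e ▸ D.P.z_memQ)).elim
      · obtain ⟨c, hc, e⟩ := hconjTo _ (by decide) h
        rw [D.ev_u] at e
        exact (hQ c hc (e ▸ ⟨(a₀, a₀), Subgroup.mem_prod.2 ⟨root_mem gens_facts.1, root_mem gens_facts.1⟩, rfl⟩)).elim
      · obtain ⟨c, hc, e⟩ := hconjTo _ (by decide) h
        rw [D.ev_s] at e
        refine ⟨s, c, i, hc, Subgroup.mem_centralizer_singleton_iff.1 D.imem, e, ?_⟩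
        calc i * s * i⁻¹ = i * s * i⁻¹ * (s * s) := by rw [D.ss, mul_one]
          _ = _ := by rw [← mul_assoc, D.isi]
      · obtain ⟨c, hc, e⟩ := hconjTo _ (by decide) h
        rw [D.ev_w] at e
        refine ⟨i * s, c, i, hc, Subgroup.mem_centralizer_singleton_iff.1 D.imem, e, ?_⟩
        have e1 : i * s * i⁻¹ = z * s := by
          calc i * s * i⁻¹ = i * s * i⁻¹ * (s * s) := by rw [D.ss, mul_one]
            _ = _ := by rw [← mul_assoc, D.isi]
        calc i * (i * s) * i⁻¹ = i * (i * s * i⁻¹) := by group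
          _ = z * (i * s) := by
            rw [e1, ← mul_assoc, Subgroup.mem_centralizer_singleton_iff.1 D.imem, mul_assoc]
    refine ⟨c₀⁻¹ * c₁ * c₀, ?_, ?_⟩
    · refine mul_inv_eq_iff_eq_mul.2 ?_
      exact ((Commute.inv_left hc₀).mul_left hc₁).mul_left hc₀
    · calc c₀⁻¹ * c₁ * c₀ * z' * (c₀⁻¹ * c₁ * c₀)⁻¹ = c₀⁻¹ * (c₁ * (c₀ * z' * c₀⁻¹) * c₁⁻¹) * c₀ := by group
        _ = c₀⁻¹ * z * (c₀ * z' * c₀⁻¹) * c₀ := by rw [he₀, he₁]; group
        _ = z * z' := by rw [Commute.inv_left hc₀]; group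
  set N := m * c * m⁻¹ with hN
  have hmz : m * z' * m⁻¹ = z := by rw [hz']; group
  have hNs : N * s * N⁻¹ = s := by
    calc N * s * N⁻¹ = m * (c * (m⁻¹ * s * m) * c⁻¹) * m⁻¹ := by rw [hN]; group
      _ = m * (c * z * c⁻¹) * m⁻¹ := by rw [← hm]; group
      _ = s := by rw [hc, hm]
  have hNz : N * z * N⁻¹ = z * s := by
    calc N * z * N⁻¹ = m * (c * z' * c⁻¹) * m⁻¹ := by rw [hN, hz']; group
      _ = (m * z * m⁻¹) * (m * z' * m⁻¹) := by rw [hcz]; group
      _ = z * s := by rw [hm, hmz, D.sz]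
  have e1 : i * s * i⁻¹ = z * s := by
    calc i * s * i⁻¹ = i * s * i⁻¹ * (s * s) := by rw [D.ss, mul_one]
      _ = _ := by rw [← mul_assoc, D.isi]
  refine ⟨N * i, ?_, ?_⟩
  · calc N * i * z * (N * i)⁻¹ = N * (i * z * i⁻¹) * N⁻¹ := by group
      _ = z * s := by rw [mul_inv_eq_iff_eq_mul.2 (Subgroup.mem_centralizer_singleton_iff.1 D.imem), hNz]
  · calc N * i * s * (N * i)⁻¹ = N * (i * s * i⁻¹) * N⁻¹ := by group
      _ = (N * z * N⁻¹) * (N * s * N⁻¹) := by rw [e1]; group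
      _ = z := by rw [hNz, hNs, mul_assoc, D.ss, mul_one]

end Loc

end CfsgLib.U43Type
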