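import Cfsg.Agent.U43Type.Rel

/-!
The normalised element of order three and the relator of order five.
-/

set_option autoImplicit false
set_option maxRecDepth 100000

namespace CfsgLib.U43Type

open CfsgLib.Coset CfsgLib.J2U

variable {G : Type*} [Group G]

/-- The conditions on the element of order three. -/
structure RData (z : G) (φ : SL × SL →* G) (s i r : G) : Prop where
  r3 : r * r * r = 1
  rz : r * z * r⁻¹ = z * s
  rs : r * s * r⁻¹ = z
  rx : r * (φ (h₀, 1) * (s * φ (h₀, 1) * s)) = φ (h₀, 1) * (s * φ (h₀, 1) * s) * r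
  ru : r * φ (a₀, a₀) * r⁻¹ = φ (a₀, a₀)
  wr : i * s * r * (i * s) * r = 1

namespace Loc

variable {z : G} {φ : SL × SL →* G} {s i : G} (D : Loc z φ s i)

local notation "LL" => LC (φ (a₀, 1)) (φ (h₀, 1)) s i
local notation "xx" => φ (h₀, 1) * (s * φ (h₀, 1) * s)
local notation "uu" => φ (a₀, a₀)

include D

theorem two {u v : List Nat} (hu : ∀ l ∈ u, l < 7) (hv : ∀ l ∈ v, l < 7) : ∀ l ∈ u ++ v, l < 7 := fun l hl => by
  have := D.ss
  exact (List.mem_append.1 hl).elim (hu l) (hv l)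

theorem ivw {u : List Nat} (hu : ∀ l ∈ u, l < 7) : ∀ l ∈ invW u, l < 7 := fun l hl => by
  have := D.ss
  simp only [invW, List.mem_reverse, List.mem_map] at hl
  obtain ⟨k, hk, rfl⟩ := hl
  exact (by decide : ∀ k < 7, ivC k < 7) k (hu k hk)

/-- The relations between `w = i s` and the four group. -/
theorem wrel : (i * s) * (i * s) = 1 ∧ (i * s) * s * (i * s) = z * s ∧ (i * s) * xx * (i * s) = (xx)⁻¹ ∧
    (i * s) * uu * (i * s) = uu ∧ s * uu = uu * s ∧ s * xx = xx * s ∧ xx * xx * xx = 1 ∧ uu * uu = 1 ∧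
    xx ≠ 1 ∧ uu ≠ 1 := by
  have h := wFacts_ok
  simp only [wFacts, Bool.and_eq_true, Bool.not_eq_true'] at h
  obtain ⟨⟨⟨⟨⟨⟨⟨⟨⟨⟨⟨⟨⟨⟨⟨h1, h2⟩, h3⟩, h4⟩, h5⟩, h6⟩, h7⟩, h8⟩, h9⟩, h10⟩, h11⟩, h12⟩, n1⟩, n2⟩, n3⟩, n4⟩ := h
  have oX : ∀ l ∈ xW, l < 7 := by decide
  have oU : ∀ l ∈ uW, l < 7 := by decide
  refine ⟨?_, ?_, ?_, ?_, ?_, ?_, ?_, ?_, ?_, ?_⟩
  · have := D.K.eq' h1; rwa [ev_append, D.ev_w, ev_nil] at this
  · have := D.K.eq' h2; rwa [ev_append, ev_append, D.ev_w, D.ev_s, D.ev_zs] at this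
  · have := D.K.eq' h3; rwa [ev_append, ev_append, D.ev_w, D.K.ev_invW, D.ev_x] at this
  · have := D.K.eq' h4; rwa [ev_append, ev_append, D.ev_w, D.ev_u] at this
  · have := D.K.eq' h5; rwa [ev_append, ev_append, D.ev_s, D.ev_u] at this
  · have := D.K.eq' h6; rwa [ev_append, ev_append, D.ev_s, D.ev_x] at this
  · have := D.K.eq' h10; rwa [ev_append, ev_append, D.ev_x, ev_nil] at this
  · have := D.K.eq' h11; rwa [ev_append, D.ev_u, ev_nil] at this
  · intro e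
    rw [D.K.ne oX (by simp) (by rw [D.ev_x, e, ev_nil])] at n1
    exact Bool.noConfusion n1
  · intro e
    rw [D.K.ne oU (by simp) (by rw [D.ev_u, e, ev_nil])] at n2
    exact Bool.noConfusion n2

/-- The element of order three, normalised. -/
theorem exists_rdata [Finite G] : ∃ r, RData z φ s i r := by
  obtain ⟨w1, w2, w3, w4, su, sx, x3, u2, xne, une⟩ := D.wrel
  have hsz := D.sz
  have zz := D.P.zz
  obtain ⟨zsne, sne, zsn⟩ := D.zs_ne
  have zx : z * xx = xx * z := by rw [← D.ev_x]; exact (D.cz xW).symm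
  have zu : z * uu = uu * z := by rw [← D.ev_u]; exact (D.cz uW).symm
  have wz : (i * s) * z = z * (i * s) := by rw [← D.ev_w]; exact D.cz _
  have oX : ∀ l ∈ xW, l < 7 := by decide
  have oU : ∀ l ∈ uW, l < 7 := by decide
  have oS : ∀ l ∈ ([4] : List Nat), l < 7 := by decide
  have hok := words_ok
  simp only [Bool.and_eq_true] at hok
  obtain ⟨⟨⟨⟨⟨⟨-, okc⟩, -⟩, ok2⟩, ok3⟩, -⟩, -⟩ := hok
  obtain ⟨r₀, hz₀, hs₀⟩ := D.exists_cycle
  -- commuting with `z` and `s`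
  have centV : ∀ (r y : G), r * z * r⁻¹ = z * s → r * s * r⁻¹ = z → y * z = z * y → y * s = s * y →
      r * y * r⁻¹ * z = z * (r * y * r⁻¹) ∧ r * y * r⁻¹ * s = s * (r * y * r⁻¹) := by
    intro r y hrz hrs hyz hys
    have hpre : r * (z * s) * r⁻¹ = s := by
      calc r * (z * s) * r⁻¹ = (r * z * r⁻¹) * (r * s * r⁻¹) := by group
        _ = s := by rw [hrz, hrs, mul_assoc, hsz, ← mul_assoc, zz, one_mul]
    refine ⟨?_, ?_⟩
    · calc r * y * r⁻¹ * z = r * y * r⁻¹ * (r * s * r⁻¹) := by rw [hrs]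
        _ = r * (s * y) * r⁻¹ := by rw [← hys]; group
        _ = (r * s * r⁻¹) * (r * y * r⁻¹) := by group
        _ = _ := by rw [hrs]
    · calc r * y * r⁻¹ * s = r * y * r⁻¹ * (r * (z * s) * r⁻¹) := by rw [hpre]
        _ = r * (y * (z * s)) * r⁻¹ := by group
        _ = r * ((z * s) * y) * r⁻¹ := by rw [← mul_assoc y, hyz, mul_assoc z, hys, ← mul_assoc z]
        _ = (r * (z * s) * r⁻¹) * (r * y * r⁻¹) := by group
        _ = _ := by rw [hpre]
  -- normalising the subgroup generated by `x`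
  obtain ⟨r₁, hz₁, hs₁, hx₁⟩ : ∃ r : G, r * z * r⁻¹ = z * s ∧ r * s * r⁻¹ = z ∧
      (r * xx * r⁻¹ = xx ∨ r * xx * r⁻¹ = (xx)⁻¹) := by
    obtain ⟨c1, c2⟩ := centV r₀ xx hz₀ hs₀ zx.symm sx.symm
    obtain ⟨n, hn, hpn, hln⟩ := D.K.ex c1
    have ht := of_allBelow threeTest_all n hn
    simp only [threeTest] at ht
    have e3 : ev LL (wdN C11.Par n ++ wdN C11.Par n ++ wdN C11.Par n) = ev LL [] := by
      rw [ev_append, ev_append, ← hpn, ev_nil]
      calc _ = r₀ * (xx * xx * xx) * r₀⁻¹ := by group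
        _ = 1 := by rw [x3]; group
    rw [D.K.ne (D.two hln oS) (D.two oS hln) (by rw [ev_append, ev_append, ← hpn, D.ev_s]; exact c2), cond_true,
      D.K.ne (D.two (D.two hln hln) hln) (by simp) e3, cond_true, Bool.or_eq_true] at ht
    rcases ht with h | h
    · exfalso
      have := hpn.trans ((D.K.eq hln (by simp) h).trans (ev_nil (L := LL)))
      exact xne (conj_eq_one_iff.1 this)
    rw [List.any_eq_true] at h
    obtain ⟨c, hc, hc'⟩ := h
    have hcw : ∀ l ∈ c, l < 7 := okW_iff.1 (allList_iff.1 okc c hc)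
    have hcs : ev LL c * s = s * ev LL c := by
      have key : allList (fun c => sameT C11.Tb 7 (c ++ [4]) ([4] ++ c)) conjS = true := by decide +kernel
      have := D.K.eq' (allList_iff.1 key c hc)
      rwa [ev_append, ev_append, D.ev_s] at this
    refine ⟨ev LL c * r₀, ?_, ?_, ?_⟩
    · calc ev LL c * r₀ * z * (ev LL c * r₀)⁻¹ = ev LL c * (r₀ * z * r₀⁻¹) * (ev LL c)⁻¹ := by group
        _ = z * s := by
          rw [hz₀, ← mul_assoc, D.cz, mul_assoc z, hcs]; group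
    · calc ev LL c * r₀ * s * (ev LL c * r₀)⁻¹ = ev LL c * (r₀ * s * r₀⁻¹) * (ev LL c)⁻¹ := by group
        _ = z := by rw [hs₀, D.cz]; group
    · have e : ev LL c * r₀ * xx * (ev LL c * r₀)⁻¹ = ev LL c * (r₀ * xx * r₀⁻¹) * (ev LL c)⁻¹ := by group
      rw [e, hpn, ← D.K.ev_invW, ← ev_append, ← ev_append]
      rw [Bool.or_eq_true] at hc'
      rcases hc' with h | h
      · left; rw [D.K.eq (D.two (D.two hcw hln) (D.ivw hcw)) oX h, D.ev_x]
      · right; rw [D.K.eq (D.two (D.two hcw hln) (D.ivw hcw)) (D.ivw oX) h, D.K.ev_invW, D.ev_x]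
  -- centralising `x`
  obtain ⟨r₂, hz₂, hs₂, hx₂⟩ : ∃ r : G, r * z * r⁻¹ = z * s ∧ r * s * r⁻¹ = z ∧ r * xx * r⁻¹ = xx := by
    rcases hx₁ with h | h
    · exact ⟨r₁, hz₁, hs₁, h⟩
    have hzs : r₁ * (z * s) * r₁⁻¹ = s := by
      calc r₁ * (z * s) * r₁⁻¹ = (r₁ * z * r₁⁻¹) * (r₁ * s * r₁⁻¹) := by group
        _ = s := by rw [hz₁, hs₁, mul_assoc, hsz, ← mul_assoc, zz, one_mul]
    have hxi : r₁ * (xx)⁻¹ * r₁⁻¹ = xx := by
      calc r₁ * (xx)⁻¹ * r₁⁻¹ = (r₁ * xx * r₁⁻¹)⁻¹ := by group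
        _ = xx := by rw [h, inv_inv]
    refine ⟨r₁ * r₁ * r₁ * r₁, ?_, ?_, ?_⟩
    · calc _ = r₁ * (r₁ * (r₁ * (r₁ * z * r₁⁻¹) * r₁⁻¹) * r₁⁻¹) * r₁⁻¹ := by group
        _ = z * s := by rw [hz₁, hzs, hs₁, hz₁]
    · calc _ = r₁ * (r₁ * (r₁ * (r₁ * s * r₁⁻¹) * r₁⁻¹) * r₁⁻¹) * r₁⁻¹ := by group
        _ = z := by rw [hs₁, hz₁, hzs, hs₁]
    · calc _ = r₁ * (r₁ * (r₁ * (r₁ * xx * r₁⁻¹) * r₁⁻¹) * r₁⁻¹) * r₁⁻¹ := by group
        _ = xx := by rw [h, hxi, h, hxi]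
  -- fixing `u`
  obtain ⟨r₃, hz₃, hs₃, hx₃, hu₃⟩ : ∃ r : G, r * z * r⁻¹ = z * s ∧ r * s * r⁻¹ = z ∧ r * xx * r⁻¹ = xx ∧
      r * uu * r⁻¹ = uu := by
    have h := wFacts_ok
    simp only [wFacts, Bool.and_eq_true] at h
    obtain ⟨⟨⟨⟨⟨⟨⟨⟨⟨⟨⟨⟨⟨⟨⟨-, -⟩, -⟩, -⟩, -⟩, -⟩, h7⟩, h8⟩, h9⟩, -⟩, -⟩, -⟩, -⟩, -⟩, -⟩, -⟩ := h
    have est : ev LL tW * s = s * ev LL tW := by
      have := D.K.eq' h7; rw [ev_append, ev_append, D.ev_s] at this; exact this.symm
    have eu : xx * ev LL tW * (xx)⁻¹ * ev LL tW = uu := by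
      have := D.K.eq' h8; rwa [ev_append, ev_append, ev_append, D.K.ev_invW, D.ev_x, D.ev_u] at this
    have et2 : ev LL tW * ev LL tW = 1 := by
      have := D.K.eq' h9; rwa [ev_append, ev_nil] at this
    obtain ⟨c1, c2⟩ := centV r₂ _ hz₂ hs₂ (D.cz tW) est
    obtain ⟨n, hn, hpn, hln⟩ := D.K.ex c1
    have ht := of_allBelow commTest_all n hn
    simp only [commTest] at ht
    have e2 : ev LL (wdN C11.Par n ++ wdN C11.Par n) = ev LL [] := by
      rw [ev_append, ← hpn, ev_nil]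
      calc _ = r₂ * (ev LL tW * ev LL tW) * r₂⁻¹ := by group
        _ = 1 := by rw [et2]; group
    rw [D.K.ne (D.two hln oS) (D.two oS hln) (by rw [ev_append, ev_append, ← hpn, D.ev_s]; exact c2), cond_true,
      D.K.ne (D.two hln hln) (by simp) e2, cond_true] at ht
    simp only [Bool.or_eq_true] at ht
    have hword : ev LL (xW ++ wdN C11.Par n ++ invW xW ++ wdN C11.Par n) = r₂ * uu * r₂⁻¹ := by
      rw [ev_append, ev_append, ev_append, D.K.ev_invW, D.ev_x, ← hpn]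
      conv_rhs => rw [← eu]
      calc xx * (r₂ * ev LL tW * r₂⁻¹) * (xx)⁻¹ * (r₂ * ev LL tW * r₂⁻¹)
          = (r₂ * xx * r₂⁻¹) * (r₂ * ev LL tW * r₂⁻¹) * (r₂ * xx * r₂⁻¹)⁻¹ * (r₂ * ev LL tW * r₂⁻¹) := by rw [hx₂]
        _ = _ := by group
    have okw : ∀ l ∈ xW ++ wdN C11.Par n ++ invW xW ++ wdN C11.Par n, l < 7 :=
      D.two (D.two (D.two oX hln) (D.ivw oX)) hln
    have hxz : xx * z * (xx)⁻¹ = z := mul_inv_eq_iff_eq_mul.2 zx.symm
    have hxs : xx * s * (xx)⁻¹ = s := mul_inv_eq_iff_eq_mul.2 sx.symm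
    rcases ht with ((h | h) | h) | h
    · exfalso
      have := hword.symm.trans ((D.K.eq okw (by simp) h).trans (ev_nil (L := LL)))
      exact une (conj_eq_one_iff.1 this)
    · exact ⟨r₂, hz₂, hs₂, hx₂, hword.symm.trans ((D.K.eq okw oU h).trans D.ev_u)⟩
    · have e := hword.symm.trans ((D.K.eq okw (okW_iff.1 ok2) h).trans D.ev_u2)
      have hxi : (xx)⁻¹ * z * xx = z := by rw [mul_assoc, zx, ← mul_assoc, inv_mul_cancel, one_mul]
      have hxi' : (xx)⁻¹ * s * xx = s := by rw [mul_assoc, sx, ← mul_assoc, inv_mul_cancel, one_mul]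
      refine ⟨(xx)⁻¹ * r₂, ?_, ?_, ?_, ?_⟩
      · calc _ = (xx)⁻¹ * (r₂ * z * r₂⁻¹) * xx := by group
          _ = ((xx)⁻¹ * z * xx) * ((xx)⁻¹ * s * xx) := by rw [hz₂]; group
          _ = _ := by rw [hxi, hxi']
      · calc _ = (xx)⁻¹ * (r₂ * s * r₂⁻¹) * xx := by group
          _ = _ := by rw [hs₂, hxi]
      · calc _ = (xx)⁻¹ * (r₂ * xx * r₂⁻¹) * xx := by group
          _ = _ := by rw [hx₂]; group
      · calc _ = (xx)⁻¹ * (r₂ * uu * r₂⁻¹) * xx := by group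
          _ = _ := by rw [e]; group
    · have e := hword.symm.trans ((D.K.eq okw (okW_iff.1 ok3) h).trans D.ev_u3)
      refine ⟨xx * r₂, ?_, ?_, ?_, ?_⟩
      · calc _ = xx * (r₂ * z * r₂⁻¹) * (xx)⁻¹ := by group
          _ = (xx * z * (xx)⁻¹) * (xx * s * (xx)⁻¹) := by rw [hz₂]; group
          _ = _ := by rw [hxz, hxs]
      · calc _ = xx * (r₂ * s * r₂⁻¹) * (xx)⁻¹ := by group
          _ = _ := by rw [hs₂, hxz]
      · calc _ = xx * (r₂ * xx * r₂⁻¹) * (xx)⁻¹ := by group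
          _ = _ := by rw [hx₂]; group
      · calc _ = xx * (r₂ * uu * r₂⁻¹) * (xx)⁻¹ := by group
          _ = _ := by rw [e]; group
  -- an element fixing everything lies in the four group
  have fix : ∀ y : G, y * z = z * y → y * s = s * y → y * xx = xx * y → y * uu = uu * y →
      y = 1 ∨ y = z ∨ y = s ∨ y = z * s := by
    intro y a1 a2 a3 a4
    obtain ⟨n, hn, hpn, hln⟩ := D.K.ex a1
    have ht := of_allBelow fixTest_all n hn
    simp only [fixTest] at ht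
    rw [D.K.ne (D.two hln oS) (D.two oS hln) (by rw [ev_append, ev_append, ← hpn, D.ev_s]; exact a2), cond_true,
      D.K.ne (D.two hln oX) (D.two oX hln) (by rw [ev_append, ev_append, ← hpn, D.ev_x]; exact a3), cond_true,
      D.K.ne (D.two hln oU) (D.two oU hln) (by rw [ev_append, ev_append, ← hpn, D.ev_u]; exact a4), cond_true] at ht
    simp only [Bool.or_eq_true] at ht
    rcases ht with ((h | h) | h) | h
    · left; exact hpn.trans ((D.K.eq hln (by simp) h).trans (ev_nil (L := LL)))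
    · right; left; exact hpn.trans ((D.K.eq hln (by decide) h).trans D.ev_z)
    · right; right; left; exact hpn.trans ((D.K.eq hln oS h).trans D.ev_s)
    · right; right; right; exact hpn.trans ((D.K.eq hln (by decide) h).trans D.ev_zs)
  set r := r₃ with hr
  have hzs₃ : r * (z * s) * r⁻¹ = s := by
    calc r * (z * s) * r⁻¹ = (r * z * r⁻¹) * (r * s * r⁻¹) := by group
      _ = s := by rw [hz₃, hs₃, mul_assoc, hsz, ← mul_assoc, zz, one_mul]
  have r3 : r * r * r = 1 := by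
    have c : ∀ (a b c d : G), r * a * r⁻¹ = b → r * b * r⁻¹ = c → r * c * r⁻¹ = d →
        (r * r * r) * a * (r * r * r)⁻¹ = d := by
      intro a b c d e1 e2 e3
      rw [← e3, ← e2, ← e1]; group
    have hself : r * (r * r * r) * r⁻¹ = r * r * r := by group
    rcases fix (r * r * r) (mul_inv_eq_iff_eq_mul.1 (c z (z * s) s z hz₃ hzs₃ hs₃))
        (mul_inv_eq_iff_eq_mul.1 (c s z (z * s) s hs₃ hz₃ hzs₃))
        (mul_inv_eq_iff_eq_mul.1 (c xx xx xx xx hx₃ hx₃ hx₃))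
        (mul_inv_eq_iff_eq_mul.1 (c uu uu uu uu hu₃ hu₃ hu₃)) with h | h | h | h
    · exact h
    · rw [h, hz₃] at hself; exact absurd (mul_left_cancel (hself.trans (mul_one z).symm)) sne
    · rw [h, hs₃] at hself; exact absurd hself zsn
    · rw [h, hzs₃] at hself; exact absurd (mul_right_cancel ((one_mul s).trans hself)).symm D.P.z_ne
  -- inverted by `i s`
  set w := i * s with hw
  set v := w * r * w * r with hv
  have wwz : w * z * w = z := by rw [wz, mul_assoc, w1, mul_one]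
  have wwzs : w * (z * s) * w = s := by
    calc w * (z * s) * w = (w * z * w) * (w⁻¹ * s * w) := by group
      _ = z * (w * s * w) := by rw [wwz, inv_eq_of_mul_eq_one_right w1]
      _ = s := by rw [w2, ← mul_assoc, zz, one_mul]
  have wi : w⁻¹ = w := inv_eq_of_mul_eq_one_right w1
  have conjv : ∀ (a b c d e : G), r * a * r⁻¹ = b → w * b * w = c → r * c * r⁻¹ = d → w * d * w = e →
      v * a * v⁻¹ = e := by
    intro a b c d e e1 e2 e3 e4
    calc v * a * v⁻¹ = w * (r * (w * (r * a * r⁻¹) * w⁻¹) * r⁻¹) * w⁻¹ := by rw [hv]; group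
      _ = e := by rw [e1, wi, e2, e3, e4]
  have wix : w * (xx)⁻¹ * w = xx := by
    calc w * (xx)⁻¹ * w = (w⁻¹ * xx * w⁻¹)⁻¹ := by group
      _ = xx := by rw [wi, w3, inv_inv]
  have rix : r * (xx)⁻¹ * r⁻¹ = (xx)⁻¹ := by
    calc r * (xx)⁻¹ * r⁻¹ = (r * xx * r⁻¹)⁻¹ := by group
      _ = _ := by rw [hx₃]
  have hswap1 : (w * r) * z * (w * r)⁻¹ = s := by
    calc (w * r) * z * (w * r)⁻¹ = w * (r * z * r⁻¹) * w⁻¹ := by group
      _ = s := by rw [hz₃, wi, wwzs]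
  have hswap2 : (w * r) * s * (w * r)⁻¹ = z := by
    calc (w * r) * s * (w * r)⁻¹ = w * (r * s * r⁻¹) * w⁻¹ := by group
      _ = z := by rw [hs₃, wi, wwz]
  have hvcases : v = 1 ∨ v = z * s := by
    have hvw : (w * r) * v * (w * r)⁻¹ = v := by rw [hv]; group
    rcases fix v (mul_inv_eq_iff_eq_mul.1 (conjv z (z * s) s z z hz₃ wwzs hs₃ wwz))
        (mul_inv_eq_iff_eq_mul.1 (conjv s z z (z * s) s hs₃ wwz hz₃ wwzs))
        (mul_inv_eq_iff_eq_mul.1 (conjv xx xx (xx)⁻¹ (xx)⁻¹ xx hx₃ w3 rix wix))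
        (mul_inv_eq_iff_eq_mul.1 (conjv uu uu uu uu uu hu₃ w4 hu₃ w4)) with h | h | h | h
    · exact Or.inl h
    · rw [h, hswap1] at hvw; exact absurd hvw.symm zsn
    · rw [h, hswap2] at hvw; exact absurd hvw zsn
    · exact Or.inr h
  rcases hvcases with h | h
  · exact ⟨r, r3, hz₃, hs₃, mul_inv_eq_iff_eq_mul.1 hx₃, hu₃, h⟩
  · refine ⟨z * r, ?_, ?_, ?_, ?_, ?_, ?_⟩
    · calc z * r * (z * r) * (z * r) = z * (r * z * r⁻¹) * (r * (r * z * r⁻¹) * r⁻¹) * (r * r * r) := by group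
        _ = 1 := by
          rw [hz₃, hzs₃, r3, mul_one, ← mul_assoc, zz, one_mul, D.ss]
    · calc z * r * z * (z * r)⁻¹ = z * (r * z * r⁻¹) * z⁻¹ := by group
        _ = z * s := by rw [hz₃, ← mul_assoc, zz, one_mul, inv_eq_of_mul_eq_one_right zz, hsz]
    · calc z * r * s * (z * r)⁻¹ = z * (r * s * r⁻¹) * z⁻¹ := by group
        _ = z := by rw [hs₃]; group
    · calc z * r * xx = z * (r * xx) := by group
        _ = xx * (z * r) := by rw [mul_inv_eq_iff_eq_mul.1 hx₃, ← mul_assoc, zx, mul_assoc]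
    · calc z * r * uu * (z * r)⁻¹ = z * (r * uu * r⁻¹) * z⁻¹ := by group
        _ = uu := by rw [hu₃, zu]; group
    · calc i * s * (z * r) * (i * s) * (z * r) = (w * z) * r * w * z * r := by rw [hw]; group
        _ = z * (w * r * w * r) * (r⁻¹ * z * r) := by rw [wz]; group
        _ = z * (z * s) * (r⁻¹ * z * r) := by rw [← h, hv]
        _ = z * (z * s) * (r⁻¹ * (r * s * r⁻¹) * r) := by rw [hs₃]
        _ = z * z * (s * s) := by group
        _ = 1 := by rw [zz, D.ss, one_mul]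

/-- The relator of order five. -/
theorem five {r : G} (R : RData z φ s i r) :
    (r * ev LL mW) * (r * ev LL mW) * (r * ev LL mW) * (r * ev LL mW) * (r * ev LL mW) = 1 := by
  obtain ⟨w1, w2, w3, w4, su, sx, x3, u2, xne, une⟩ := D.wrel
  have hok := words_ok
  simp only [Bool.and_eq_true, allList_iff] at hok
  obtain ⟨⟨⟨⟨⟨-, hvec⟩, ok2⟩, -⟩, -⟩, okm⟩ := hok
  have okv : ∀ k < 16, (∀ l ∈ vecW k, l < 7) ∧ ∀ l ∈ rWord k, l < 7 := fun k hk =>
    ⟨okW_iff.1 (hvec k (List.mem_range.2 hk)).1, okW_iff.1 (hvec k (List.mem_range.2 hk)).2⟩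
  have hf := relFacts_ok
  simp only [relFacts, Bool.and_eq_true, allList_iff] at hf
  obtain ⟨hf1, -⟩ := hf
  let c : G →* G := (MulAut.conj r).toMonoidHom
  have hc : ∀ g, c g = r * g * r⁻¹ := fun g => rfl
  have cz' : c (ev LL [0, 0]) = ev LL [0, 0, 4] := by rw [hc, D.ev_z, R.rz, D.ev_zs]
  have cs' : c (ev LL [4]) = ev LL [0, 0] := by rw [hc, D.ev_z, D.ev_s, R.rs]
  have cu' : c (ev LL uW) = ev LL uW := by rw [hc, D.ev_u, R.ru]
  have cx : c (ev LL xW) = ev LL xW := by rw [hc, D.ev_x, mul_inv_eq_iff_eq_mul]; exact R.rx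
  have cu2 : c (ev LL u2W) = ev LL u2W := by
    rw [u2W, ev_append, ev_append, D.K.ev_invW, map_mul, map_mul, map_inv, cx, cu']
  have key : ∀ k < 16, (r * ev LL mW) * ev LL (vecW k) * (r * ev LL mW)⁻¹ = ev LL (vecW (fE k)) := by
    intro k hk
    have hm := D.K.eq' (hf1 k (List.mem_range.2 hk)).1.2
    rw [ev_append, ev_append, D.K.ev_invW] at hm
    have hr := D.K.eq' (hf1 (mE k) (List.mem_range.2 (fE_pow k hk).1)).1.1
    calc (r * ev LL mW) * ev LL (vecW k) * (r * ev LL mW)⁻¹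
        = c (ev LL mW * ev LL (vecW k) * (ev LL mW)⁻¹) := by rw [hc]; group
      _ = c (ev LL (vecW (mE k))) := by rw [hm]
      _ = ev LL (rWord (mE k)) := by
        unfold vecW rWord
        simp only [ev_append, map_mul]
        refine congrArg₂ (· * ·) (congrArg₂ (· * ·) (congrArg₂ (· * ·) ?_ ?_) ?_) ?_ <;> split
        all_goals first
          | exact cz' | exact cs' | exact cu' | exact cu2 | (rw [ev_nil]; exact map_one c)
      _ = _ := by rw [hr, fE]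
  set g := r * ev LL mW with hg
  have fE_lt : ∀ k < 16, fE k < 16 := fun k hk => (fE_pow (mE k) (fE_pow k hk).1).2.1
  have k5 : ∀ k < 16, (g * g * g * g * g) * ev LL (vecW k) * (g * g * g * g * g)⁻¹ = ev LL (vecW k) := by
    intro k hk
    calc _ = g * (g * (g * (g * (g * ev LL (vecW k) * g⁻¹) * g⁻¹) * g⁻¹) * g⁻¹) * g⁻¹ := by group
      _ = ev LL (vecW k) := by
        rw [key k hk, key _ (fE_lt _ hk), key _ (fE_lt _ (fE_lt _ hk)), key _ (fE_lt _ (fE_lt _ (fE_lt _ hk))),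
          key _ (fE_lt _ (fE_lt _ (fE_lt _ (fE_lt _ hk)))), (fE_pow k hk).2.2]
  have e1 : ev LL (vecW 1) = z := by rw [show vecW 1 = [0, 0] from rfl, D.ev_z]
  have e2 : ev LL (vecW 2) = s := by rw [show vecW 2 = [4] from rfl, D.ev_s]
  have e4 : ev LL (vecW 4) = ev LL uW := rfl
  have e8 : ev LL (vecW 8) = ev LL u2W := rfl
  set y := g * g * g * g * g with hy
  have cy : y * z = z * y := mul_inv_eq_iff_eq_mul.1 (by rw [← e1]; exact k5 1 (by norm_num))
  obtain ⟨n, hn, hpn, hln⟩ := D.K.ex cy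
  have ht := of_allBelow sixTest_all n hn
  simp only [sixTest] at ht
  have oS : ∀ l ∈ ([4] : List Nat), l < 7 := by decide
  have oU : ∀ l ∈ uW, l < 7 := by decide
  rw [D.K.ne (D.two hln oS) (D.two oS hln) (by
      rw [ev_append, ev_append, ← hpn, D.ev_s, ← e2]
      exact mul_inv_eq_iff_eq_mul.1 (k5 2 (by norm_num))), cond_true,
    D.K.ne (D.two hln (okW_iff.1 ok2)) (D.two (okW_iff.1 ok2) hln) (by
      rw [ev_append, ev_append, ← hpn, ← e8]
      exact mul_inv_eq_iff_eq_mul.1 (k5 8 (by norm_num))), cond_true,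
    D.K.ne (D.two hln oU) (D.two oU hln) (by
      rw [ev_append, ev_append, ← hpn, ← e4]
      exact mul_inv_eq_iff_eq_mul.1 (k5 4 (by norm_num))), cond_true, List.any_eq_true] at ht
  obtain ⟨k, hk, hk'⟩ := ht
  rw [List.mem_range] at hk
  have hyk : y = ev LL (vecW k) := hpn.trans (D.K.eq hln (okv k hk).1 hk')
  by_cases h0 : k = 0
  · rw [hyk, h0]; rfl
  exfalso
  have hfix : g * y * g⁻¹ = y := by rw [hy]; group
  rw [hyk, key k hk] at hfix
  have hne := (hf1 k (List.mem_range.2 hk)).2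
  rw [D.K.ne (okv _ (fE_lt k hk)).1 (okv k hk).1 hfix] at hne
  simp [h0] at hne

end Loc

end CfsgLib.U43Type
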