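import Cfsg.Agent.U43Type.Rel2

/-!
The commutation relator: the two elements of order three generate an abelian subgroup.
-/

set_option autoImplicit false
set_option linter.style.haveILetI false
set_option maxRecDepth 100000

namespace CfsgLib.U43Type

open CfsgLib.Coset CfsgLib.J2U

variable {G : Type*} [Group G]

/-- Two commuting elements of order three generate a subgroup of order nine. -/
theorem card_nine [Finite G] {a b : G} (hab : a * b = b * a) (ha : orderOf a = 3) (hb : orderOf b = 3)
    (hne : b ∉ Subgroup.zpowers a) : Nat.card (Subgroup.closure ({a, b} : Set G)) = 9 := by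
  haveI : Fact (Nat.Prime 3) := ⟨Nat.prime_three⟩
  let f : Subgroup.zpowers a × Subgroup.zpowers b →* G :=
    MonoidHom.noncommCoprod (Subgroup.zpowers a).subtype (Subgroup.zpowers b).subtype (by
      rintro ⟨x, hx⟩ ⟨y, hy⟩
      obtain ⟨m, rfl⟩ := Subgroup.mem_zpowers_iff.1 hx
      obtain ⟨n, rfl⟩ := Subgroup.mem_zpowers_iff.1 hy
      exact ((show Commute a b from hab).zpow_zpow m n))
  have hrange : f.range = Subgroup.closure ({a, b} : Set G) := by
    rw [MonoidHom.noncommCoprod_range, Subgroup.range_subtype, Subgroup.range_subtype,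
      Subgroup.zpowers_eq_closure, Subgroup.zpowers_eq_closure, ← Subgroup.closure_union]
    rfl
  have hdis : Disjoint (Subgroup.zpowers a) (Subgroup.zpowers b) := by
    rw [Subgroup.disjoint_def]
    intro t hta htb
    by_contra ht
    refine hne ?_
    have h3 : orderOf t ∣ 3 := hb ▸ Nat.card_zpowers b ▸ Subgroup.orderOf_dvd_natCard _ htb
    have ht3 : orderOf t = 3 := ((Nat.dvd_prime Nat.prime_three).1 h3).resolve_left (fun h => ht (orderOf_eq_one_iff.1 h))
    have heq : Subgroup.zpowers t = Subgroup.zpowers b :=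
      Subgroup.eq_of_le_of_card_ge ((Subgroup.zpowers_le).2 htb) (by rw [Nat.card_zpowers, Nat.card_zpowers, hb, ht3])
    exact (Subgroup.zpowers_le).2 hta (heq ▸ Subgroup.mem_zpowers b)
  have hinj : Function.Injective f := by
    rw [← MonoidHom.ker_eq_bot_iff, eq_bot_iff]
    rintro ⟨⟨x, hx⟩, ⟨y, hy⟩⟩ h
    change x * y = 1 at h
    have hy' : y = x⁻¹ := (inv_eq_of_mul_eq_one_right h).symm
    have hya : y ∈ Subgroup.zpowers a := hy' ▸ inv_mem hx
    have y1 : y = 1 := Subgroup.disjoint_def.1 hdis hya hy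
    have x1 : x = 1 := by rw [y1, mul_one] at h; exact h
    simp [x1, y1]
  rw [← hrange, ← Nat.card_congr (MonoidHom.ofInjective hinj).toEquiv, Nat.card_prod, Nat.card_zpowers,
    Nat.card_zpowers, ha, hb]

namespace Loc

variable {z : G} {φ : SL × SL →* G} {s i : G} (D : Loc z φ s i)

local notation "LL" => LC (φ (a₀, 1)) (φ (h₀, 1)) s i
local notation "hh" => φ (h₀, 1)
local notation "kk" => s * φ (h₀, 1) * s
local notation "xx" => φ (h₀, 1) * (s * φ (h₀, 1) * s)

include D

theorem ev_h : ev LL [2] = hh := by simp [LC, fl]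

theorem ev_k : ev LL [4, 2, 4] = kk := by simp [LC, fl, mul_assoc]

theorem k_eq : kk = φ (1, h₀) := by rw [← D.swap (h₀, 1), D.sinv]

theorem nine_facts : hh * kk = kk * hh ∧ orderOf hh = 3 ∧ orderOf kk = 3 ∧ kk ∉ Subgroup.zpowers hh := by
  have h3 : h₀ * h₀ * h₀ = 1 := gens_facts.2.1
  have hne : h₀ ≠ 1 := gens_facts.2.2.1
  haveI : Fact (Nat.Prime 3) := ⟨Nat.prime_three⟩
  rw [D.k_eq]
  refine ⟨?_, ?_, ?_, ?_⟩
  · rw [← map_mul, ← map_mul]; simp
  · refine orderOf_eq_prime ?_ (fun e => hne (D.P.inj₁ (e.trans (by rw [← map_one φ]; rfl))))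
    rw [pow_succ, pow_two, ← map_mul, ← map_mul, ← map_one φ]
    simp only [Prod.mk_mul_mk, h3, one_mul, Prod.mk_one_one]
  · refine orderOf_eq_prime ?_ (fun e => hne (D.P.inj₂ (e.trans (by rw [← map_one φ]; rfl))))
    rw [pow_succ, pow_two, ← map_mul, ← map_mul, ← map_one φ]
    simp only [Prod.mk_mul_mk, h3, one_mul, Prod.mk_one_one]
  · intro h
    obtain ⟨n, hn⟩ := Subgroup.mem_zpowers_iff.1 h
    rw [← map_zpow, D.P.eq_iff] at hn
    have hjj : h₀ ≠ j₀ := by decide +kernel
    rcases hn with e | e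
    · have := (Prod.ext_iff.1 e).2
      simp only [Prod.pow_snd, one_zpow] at this
      exact hne this.symm
    · have := (Prod.ext_iff.1 e).2
      simp only [Prod.pow_snd, one_zpow, Prod.snd_mul] at this
      exact (by decide +kernel : (1 : SL) ≠ h₀ * j₀) this

/-- Membership in the subgroup of order nine. -/
theorem pW_mem {p : List Nat} (hp : p ∈ pWs) : ev LL p ∈ Subgroup.closure ({hh, kk} : Set G) := by
  simp only [pWs, List.mem_map] at hp
  obtain ⟨k, -, rfl⟩ := hp
  rw [ev_append]
  have hmem : ∀ w ∈ List.replicate (k / 3) ([4, 2, 4] : List Nat), w = [4, 2, 4] := fun w hw =>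
    List.eq_of_mem_replicate hw
  refine mul_mem ?_ ?_
  · rw [ev, List.map_replicate, List.prod_replicate]
    refine pow_mem ?_ _
    exact Subgroup.subset_closure (Or.inl (by simp [LC, fl]))
  · generalize List.replicate (k / 3) ([4, 2, 4] : List Nat) = ws at hmem
    induction ws with
    | nil => simp
    | cons w ws ih =>
      rw [List.flatten_cons, ev_append]
      refine mul_mem ?_ (ih (fun v hv => hmem v (List.mem_cons_of_mem _ hv)))
      rw [hmem w List.mem_cons_self, D.ev_k]
      exact Subgroup.subset_closure (Or.inr rfl)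

/-- The elements of the centraliser commuting with the subgroup of order nine. -/
theorem cent_nine {y : G} (hz : y * z = z * y) (hh' : y * hh = hh * y) (hk : y * kk = kk * y) :
    y ∈ Subgroup.closure ({hh, kk} : Set G) ∨ z * y ∈ Subgroup.closure ({hh, kk} : Set G) := by
  obtain ⟨n, hn, hpn, hln⟩ := D.K.ex hz
  have ht := of_allBelow nineTest_all n hn
  simp only [nineTest] at ht
  have o2 : ∀ l ∈ ([2] : List Nat), l < 7 := by decide
  have o4 : ∀ l ∈ ([4, 2, 4] : List Nat), l < 7 := by decide
  rw [D.K.ne (D.two hln o2) (D.two o2 hln) (by rw [ev_append, ev_append, ← hpn, D.ev_h]; exact hh'), cond_true,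
    D.K.ne (D.two hln o4) (D.two o4 hln) (by rw [ev_append, ev_append, ← hpn, D.ev_k]; exact hk), cond_true,
    List.any_eq_true] at ht
  obtain ⟨p, hp, hp'⟩ := ht
  have okp : ∀ l ∈ p, l < 7 := by
    have h := words_ok
    simp only [Bool.and_eq_true] at h
    obtain ⟨⟨⟨⟨⟨⟨hq, -⟩, -⟩, -⟩, -⟩, -⟩, -⟩ := h
    exact okW_iff.1 (allList_iff.1 hq p hp)
  rw [Bool.or_eq_true] at hp'
  rcases hp' with h | h
  · left; rw [hpn, D.K.eq hln okp h]; exact D.pW_mem hp
  · right
    rw [hpn, D.K.eq hln (D.two (by decide) okp) h, ev_append, D.ev_z, ← mul_assoc, D.P.zz, one_mul]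
    exact D.pW_mem hp

/-- The relator of commutation. -/
theorem comm_rel [Finite G] {r : G} (R : RData z φ s i r) :
    hh * (r⁻¹ * hh * r) = r⁻¹ * hh * r * hh := by
  by_contra hcon
  obtain ⟨w1, w2, w3, w4, su, sx, x3, u2, xne, une⟩ := D.wrel
  obtain ⟨hkc, oh, ok, hknot⟩ := D.nine_facts
  obtain ⟨zsne, sne, zsn⟩ := D.zs_ne
  have zz := D.P.zz
  have si := D.sinv
  haveI : Fact (Nat.Prime 3) := ⟨Nat.prime_three⟩
  haveI : Fact (Nat.Prime 2) := ⟨Nat.prime_two⟩
  set P := Subgroup.closure ({hh, kk} : Set G) with hP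
  have cardP : Nat.card P = 9 := card_nine hkc oh ok hknot
  have hPc : ∀ y : G, y ∈ Subgroup.centralizer (P : Set G) ↔ y * hh = hh * y ∧ y * kk = kk * y := by
    intro y
    rw [hP, Subgroup.centralizer_closure, Subgroup.mem_centralizer_iff]
    simp only [Set.mem_insert_iff, Set.mem_singleton_iff, forall_eq_or_imp, forall_eq]
    constructor <;> rintro ⟨a, b⟩ <;> exact ⟨a.symm, b.symm⟩
  set R' := Subgroup.centralizer (P : Set G) with hR'
  have zh : z * hh = hh * z := by rw [← D.ev_h]; exact (D.cz _).symm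
  have zk : z * kk = kk * z := by rw [← D.ev_k]; exact (D.cz _).symm
  have hzR : z ∈ R' := (hPc z).2 ⟨zh, zk⟩
  have hPle : P ≤ R' := (Subgroup.closure_le _).2 (by
    rintro y (rfl | rfl)
    · exact (hPc _).2 ⟨rfl, hkc⟩
    · exact (hPc _).2 ⟨hkc.symm, rfl⟩)
  have hP3 : IsPGroup 3 P := IsPGroup.of_card (n := 2) (by rw [cardP]; norm_num)
  have podd : ∀ p ∈ P, Odd (orderOf p) := fun p hp =>
    (show Odd 9 by decide).of_dvd_nat (cardP ▸ Subgroup.orderOf_dvd_natCard P hp)
  have invR : ∀ y ∈ R', y * z = z * y → y * y = 1 → y = 1 ∨ y = z := by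
    intro y hy hyz hy2
    have hsq : ∀ q ∈ P, q * q = 1 → q = 1 := fun q hq e => by
      obtain ⟨k, hk⟩ := podd q hq
      have := pow_orderOf_eq_one q
      rw [hk, pow_succ, pow_mul, pow_two, e, one_pow, one_mul] at this
      exact this
    rcases D.cent_nine hyz ((hPc y).1 hy).1 ((hPc y).1 hy).2 with h | h
    · exact Or.inl (hsq y h hy2)
    · right
      have := hsq (z * y) h (by
        rw [mul_assoc, ← mul_assoc y, hyz, mul_assoc, hy2, mul_one, zz])
      calc y = z * z * y := by rw [zz, one_mul]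
        _ = z := by rw [mul_assoc, this, mul_one]
  -- the centraliser of `P` is not inside that of `z`
  have hnot : ¬ R' ≤ Subgroup.centralizer ({z} : Set G) := by
    intro hle
    have hN : Subgroup.normalizer (P : Set G) ≤ Subgroup.centralizer ({z} : Set G) := by
      intro n hn
      have h1 : n * z * n⁻¹ ∈ R' := by
        rw [hR', Subgroup.mem_centralizer_iff]
        intro q hq
        have hq' : n⁻¹ * q * n ∈ P := by
          have := (Subgroup.mem_normalizer_iff.1 (inv_mem hn) q).1 hq
          rwa [inv_inv] at this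
        have := Subgroup.mem_centralizer_iff.1 hzR _ hq'
        calc q * (n * z * n⁻¹) = n * ((n⁻¹ * q * n) * z) * n⁻¹ := by group
          _ = n * (z * (n⁻¹ * q * n)) * n⁻¹ := by rw [this]
          _ = n * z * n⁻¹ * q := by group
      have h1z : n * z * n⁻¹ * z = z * (n * z * n⁻¹) :=
        Subgroup.mem_centralizer_singleton_iff.1 (hle h1)
      rcases invR _ h1 h1z (by
        calc _ = n * (z * z) * n⁻¹ := by group
          _ = 1 := by rw [zz]; group) with e | e
      · exact absurd (conj_eq_one_iff.1 e) D.P.z_ne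
      · exact Subgroup.mem_centralizer_singleton_iff.2 (mul_inv_eq_iff_eq_mul.1 e)
    obtain ⟨S, hS⟩ := hP3.exists_le_sylow
    have hSP : (S : Subgroup G) = P := by
      by_contra hne
      have hlt : P.subgroupOf (S : Subgroup G) < ⊤ := by
        rw [lt_top_iff_ne_top, Ne, Subgroup.subgroupOf_eq_top]
        exact fun h => hne (le_antisymm h hS)
      haveI := S.2.isNilpotent
      have hlt' := normalizerCondition_of_isNilpotent (P.subgroupOf (S : Subgroup G)) hlt
      obtain ⟨y, hy, hyn⟩ := SetLike.exists_of_lt hlt'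
      set T := P ⊔ Subgroup.zpowers (y : G) with hT
      have hTS : T ≤ S := sup_le hS ((Subgroup.zpowers_le).2 y.2)
      have hyN : (y : G) ∈ Subgroup.normalizer (P : Set G) := by
        rw [Subgroup.mem_normalizer_iff]
        intro q
        constructor
        · intro hq
          exact (Subgroup.mem_normalizer_iff.1 hy ⟨q, hS hq⟩).1 hq
        · intro hq
          have hqS : q ∈ (S : Subgroup G) := by
            have := mul_mem (mul_mem (inv_mem y.2) (hS hq)) y.2
            simpa [mul_assoc] using this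
          exact (Subgroup.mem_normalizer_iff.1 hy ⟨q, hqS⟩).2 hq
      have hTC : T ≤ Subgroup.centralizer ({z} : Set G) :=
        (sup_le Subgroup.le_normalizer ((Subgroup.zpowers_le).2 hyN)).trans hN
      obtain ⟨m, hm⟩ := IsPGroup.iff_card.1 (S.2.to_le hTS)
      have hdvd := Subgroup.card_dvd_of_le hTC
      rw [hm, D.P.cardC] at hdvd
      have hm2 : m ≤ 2 := by
        by_contra h
        have : 3 ^ 3 ∣ 1152 := (pow_dvd_pow 3 (by omega : 3 ≤ m)).trans hdvd
        norm_num at this
      have hTP : Nat.card T ≤ Nat.card P := by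
        rw [hm, cardP]; exact le_trans (Nat.pow_le_pow_right (by norm_num) hm2) (by norm_num)
      have := Subgroup.eq_of_le_of_card_ge (le_sup_left : P ≤ T) hTP
      exact hyn (Subgroup.mem_subgroupOf.2 (this ▸ Subgroup.mem_sup_right (Subgroup.mem_zpowers (y : G))))
    -- the second subgroup of order nine is conjugate
    have orr : orderOf r = 3 := orderOf_eq_prime (by rw [pow_succ, pow_two]; exact R.r3) (fun e => by
      have := R.rs
      rw [e, one_mul, inv_one, mul_one] at this
      exact zsn this.symm)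
    have ox : orderOf xx = 3 := orderOf_eq_prime (by rw [pow_succ, pow_two]; exact x3) xne
    have rnot : r ∉ Subgroup.zpowers xx := fun h => by
      obtain ⟨k, hk⟩ := Subgroup.mem_zpowers_iff.1 h
      have hc : Commute r z := by
        rw [← hk]; exact (Commute.zpow_left (by rw [← D.ev_x]; exact D.cz _) k)
      have := R.rz
      rw [hc.eq, mul_inv_cancel_right] at this
      exact sne (mul_left_cancel ((mul_one z).trans this)).symm
    obtain ⟨S', hS'⟩ := (IsPGroup.of_card (n := 2) (by rw [card_nine R.rx.symm ox orr rnot]; norm_num) :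
      IsPGroup 3 (Subgroup.closure ({xx, r} : Set G))).exists_le_sylow
    have hS'e : (S' : Subgroup G) = Subgroup.closure ({xx, r} : Set G) :=
      (Subgroup.eq_of_le_of_card_ge hS' (by
        rw [S'.card_eq_multiplicity, ← S.card_eq_multiplicity, hSP, cardP, card_nine R.rx.symm ox orr rnot])).symm
    obtain ⟨g, hg⟩ := MulAction.exists_smul_eq G S' S
    set w := i * s with hw
    have wi : w⁻¹ = w := inv_eq_of_mul_eq_one_right w1
    have hinv : ∀ y ∈ Subgroup.closure ({xx, r} : Set G), w * y * w = y⁻¹ := by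
      have key : Subgroup.closure ({xx, r} : Set G) ≤ Subgroup.centralizer ({xx, r} : Set G) := by
        rw [Subgroup.closure_le]
        rintro y (rfl | rfl) <;> rw [SetLike.mem_coe, Subgroup.mem_centralizer_iff] <;> rintro q (rfl | rfl)
        · rfl
        · exact R.rx
        · exact R.rx.symm
        · rfl
      intro y hy
      induction hy using Subgroup.closure_induction with
      | mem y hy =>
        rcases hy with rfl | rfl
        · exact w3
        · have := R.wr
          rw [← hw] at this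
          exact (inv_eq_of_mul_eq_one_left this).symm
      | one => rw [mul_one, w1, inv_one]
      | mul a b ha hb iha ihb =>
        have hab : a * b = b * a := by
          have h1 := key ha
          have h2 : Subgroup.closure ({xx, r} : Set G) ≤ Subgroup.centralizer ({a} : Set G) := by
            rw [Subgroup.closure_le]
            intro q hq
            rw [SetLike.mem_coe, Subgroup.mem_centralizer_singleton_iff]
            exact Subgroup.mem_centralizer_iff.1 h1 q hq
          exact (Subgroup.mem_centralizer_singleton_iff.1 (h2 hb)).symm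
        calc w * (a * b) * w = (w * a * w) * (w⁻¹ * b * w) := by group
          _ = a⁻¹ * (w * b * w) := by rw [iha, wi]
          _ = (a * b)⁻¹ := by rw [ihb, hab, mul_inv_rev]
      | inv a ha iha =>
        calc w * a⁻¹ * w = (w⁻¹ * a * w⁻¹)⁻¹ := by group
          _ = a⁻¹⁻¹ := by rw [wi, iha]
    set w' := g * w * g⁻¹ with hw'
    have hw'2 : w' * w' = 1 := by
      calc w' * w' = g * (w * w) * g⁻¹ := by rw [hw']; group
        _ = 1 := by rw [w1]; group
    have hinvP : ∀ q ∈ P, w' * q * w' = q⁻¹ := by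
      intro q hq
      rw [← hSP, ← hg] at hq
      obtain ⟨q', hq', rfl⟩ := hq
      rw [hS'e] at hq'
      show w' * (g * q' * g⁻¹) * w' = (g * q' * g⁻¹)⁻¹
      calc w' * (g * q' * g⁻¹) * w' = g * (w * q' * w) * g⁻¹ := by rw [hw']; group
        _ = _ := by rw [hinv q' hq']; group
    have hw'i : w'⁻¹ = w' := inv_eq_of_mul_eq_one_right hw'2
    have hw'N : w' ∈ Subgroup.normalizer (P : Set G) := by
      rw [Subgroup.mem_normalizer_iff]
      intro q
      rw [hw'i]
      constructor
      · intro hq; rw [hinvP q hq]; exact inv_mem hq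
      · intro hq
        have := hinvP _ hq
        have e : w' * (w' * q * w') * w' = q := by
          calc _ = (w' * w') * q * (w' * w') := by group
            _ = q := by rw [hw'2]; group
        rw [e] at this
        rw [this]; exact inv_mem hq
    obtain ⟨n, hn, hpn, hln⟩ := D.K.ex (Subgroup.mem_centralizer_singleton_iff.1 (hN hw'N))
    have ht := of_allBelow invTest_all n hn
    simp only [invTest] at ht
    have e2 : ev LL [3] = (hh)⁻¹ := by simp [LC, fl]
    have e4 : ev LL [4, 3, 4] = (kk)⁻¹ := by simp [LC, fl, si, mul_assoc]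
    rw [D.K.ne (D.two hln hln) (by simp) (by rw [ev_append, ← hpn, hw'2, ev_nil]), cond_true,
      D.K.ne (D.two (D.two hln (by decide)) hln) (by decide) (by
        rw [ev_append, ev_append, ← hpn, D.ev_h, e2]; exact hinvP _ (Subgroup.subset_closure (Or.inl rfl))), cond_true,
      D.K.ne (D.two (D.two hln (by decide)) hln) (by decide) (by
        rw [ev_append, ev_append, ← hpn, D.ev_k, e4]; exact hinvP _ (Subgroup.subset_closure (Or.inr rfl)))] at ht
    exact Bool.noConfusion ht
  -- the normal complement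
  obtain ⟨S, hS⟩ := (IsPGroup.of_card (n := 1) (by
    rw [Nat.card_zpowers, orderOf_eq_prime (by rw [pow_two]; exact Subtype.ext zz)
      (fun e => D.P.z_ne (congrArg Subtype.val e)), pow_one]) :
      IsPGroup 2 (Subgroup.zpowers (⟨z, hzR⟩ : R'))).exists_le_sylow
  have hzS : (⟨z, hzR⟩ : R') ∈ (S : Subgroup R') := hS (Subgroup.mem_zpowers _)
  haveI : Nontrivial (S : Subgroup R') :=
    ⟨⟨1, ⟨_, hzS⟩, fun e => D.P.z_ne (congrArg (fun w : (S : Subgroup R') => ((w : R') : G)) e).symm⟩⟩
  haveI := S.2.center_nontrivial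
  have hScomm : ∀ y ∈ (S : Subgroup R'), (y : G) * z = z * (y : G) := by
    obtain ⟨c, hc⟩ := exists_ne (1 : Subgroup.center (S : Subgroup R'))
    obtain ⟨k, hk⟩ := S.2 (c : (S : Subgroup R'))
    obtain ⟨m, -, hm⟩ := (Nat.dvd_prime_pow Nat.prime_two).1 (orderOf_dvd_of_pow_eq_one hk)
    have hne1 : (c : (S : Subgroup R')) ≠ 1 := fun h => hc (Subtype.ext h)
    have hm0 : m ≠ 0 := fun h => hne1 (orderOf_eq_one_iff.1 (by rw [hm, h, pow_zero]))
    set d : (S : Subgroup R') := (c : (S : Subgroup R')) ^ 2 ^ (m - 1) with hd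
    have hdc : ∀ y : (S : Subgroup R'), y * d = d * y := fun y =>
      Subgroup.mem_center_iff.1 (pow_mem c.2 _) y
    have hd2 : d * d = 1 := by
      rw [hd, ← pow_add, ← two_mul, ← pow_succ', Nat.sub_add_cancel (Nat.pos_of_ne_zero hm0), ← hm,
        pow_orderOf_eq_one]
    have hd1 : d ≠ 1 := fun h => by
      have := orderOf_dvd_of_pow_eq_one h
      rw [hm, Nat.pow_dvd_pow_iff_le_right one_lt_two] at this
      omega
    have hdz : ((d : R') : G) = z := by
      refine (invR _ (d : R').2 ?_ ?_).resolve_left ?_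
      · exact (congrArg (fun w : (S : Subgroup R') => ((w : R') : G)) (hdc ⟨_, hzS⟩)).symm
      · exact congrArg (fun w : (S : Subgroup R') => ((w : R') : G)) hd2
      · exact fun h => hd1 (Subtype.ext (Subtype.ext h))
    intro y hy
    rw [← hdz]
    exact congrArg (fun w : (S : Subgroup R') => ((w : R') : G)) (hdc ⟨y, hy⟩)
  have hSel : ∀ y ∈ (S : Subgroup R'), y = 1 ∨ y = (⟨z, hzR⟩ : R') := by
    intro y hy
    obtain ⟨k, hk⟩ := S.2 ⟨y, hy⟩
    have hy2 : (y : G) ^ 2 ^ k = 1 := by
      have := congrArg (fun w : (S : Subgroup R') => ((w : R') : G)) hk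
      simpa using this
    have key : ∀ q ∈ P, q ^ 2 ^ k = 1 → q = 1 := fun q hq e => by
      have h1 : orderOf q ∣ Nat.gcd 9 (2 ^ k) :=
        Nat.dvd_gcd (cardP ▸ Subgroup.orderOf_dvd_natCard P hq) (orderOf_dvd_of_pow_eq_one e)
      rw [Nat.Coprime.gcd_eq_one (Nat.Coprime.pow_right k (by decide)), Nat.dvd_one] at h1
      exact orderOf_eq_one_iff.1 h1
    rcases D.cent_nine (hScomm y hy) ((hPc _).1 y.2).1 ((hPc _).1 y.2).2 with h | h
    · exact Or.inl (Subtype.ext (key _ h hy2))
    · right
      rcases Nat.eq_zero_or_pos k with hk0 | hk0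
      · subst hk0
        rw [pow_zero, pow_one] at hy2
        rw [hy2, mul_one] at h
        exact absurd (podd z h) (by rw [D.P.zord]; decide)
      · have hzy : (z * (y : G)) ^ 2 ^ k = 1 := by
          rw [(show Commute z (y : G) from (hScomm y hy).symm).mul_pow, hy2, mul_one]
          obtain ⟨j, rfl⟩ := Nat.exists_eq_succ_of_ne_zero hk0.ne'
          rw [pow_succ', pow_mul, pow_two, zz, one_pow]
        have := key _ h hzy
        refine Subtype.ext ?_
        calc (y : G) = z * z * y := by rw [zz, one_mul]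
          _ = z := by rw [mul_assoc, this, mul_one]
  have hnorm : Subgroup.normalizer ((S : Subgroup R') : Set R') ≤ Subgroup.centralizer ((S : Subgroup R') : Set R') := by
    intro n hn
    rw [Subgroup.mem_centralizer_iff]
    intro q hq
    rcases hSel q hq with rfl | rfl
    · simp
    · rcases hSel _ ((Subgroup.mem_normalizer_iff.1 hn _).1 hzS) with h | h
      · exact absurd (congrArg Subtype.val (conj_eq_one_iff.1 h)) D.P.z_ne
      · exact (mul_inv_eq_iff_eq_mul.1 h).symm
  have hc := MonoidHom.ker_transferSylow_isComplement' S hnorm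
  set T := (MonoidHom.transferSylow S hnorm).ker with hT
  have hTodd : Odd (Nat.card T) := by
    by_contra h
    rw [Nat.not_odd_iff_even, even_iff_two_dvd] at h
    obtain ⟨t, ht⟩ := exists_prime_orderOf_dvd_card' 2 h
    have htp : IsPGroup 2 (Subgroup.zpowers (t : R')) :=
      IsPGroup.of_card (n := 1) (by rw [Nat.card_zpowers, Subgroup.orderOf_coe, ht, pow_one])
    obtain ⟨S₂, hS₂⟩ := htp.exists_le_sylow
    obtain ⟨c, hc₂⟩ := MulAction.exists_smul_eq R' S₂ S
    have hmem : c * (t : R') * c⁻¹ ∈ (S : Subgroup R') := by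
      rw [← hc₂]; exact ⟨t, hS₂ (Subgroup.mem_zpowers _), rfl⟩
    have hmem' : c * (t : R') * c⁻¹ ∈ T := (inferInstance : T.Normal).conj_mem _ t.2 c
    have h1 := Subgroup.disjoint_def.1 hc.disjoint hmem' hmem
    have : (t : R') = 1 := conj_eq_one_iff.1 h1
    rw [← Subgroup.orderOf_coe, this, orderOf_one] at ht
    norm_num at ht
  set J : Subgroup G := T.map R'.subtype with hJ
  have hJcard : Nat.card J = Nat.card T := Subgroup.card_map_of_injective R'.subtype_injective
  have hJodd : Odd (Nat.card J) := hJcard ▸ hTodd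
  have hJR : J ≤ R' := Subgroup.map_subtype_le _
  have hmemJ : ∀ y ∈ R', Odd (orderOf y) → y ∈ J := by
    intro y hy hodd
    have ho : orderOf (MonoidHom.transferSylow S hnorm ⟨y, hy⟩) = 1 := by
      have h1 := orderOf_map_dvd (MonoidHom.transferSylow S hnorm) (⟨y, hy⟩ : R')
      rw [← Subgroup.orderOf_coe (⟨y, hy⟩ : R')] at h1
      obtain ⟨k, hk⟩ := S.2 (MonoidHom.transferSylow S hnorm ⟨y, hy⟩)
      have h2 := orderOf_dvd_of_pow_eq_one hk
      have := Nat.dvd_gcd h1 h2
      rwa [Nat.Coprime.gcd_eq_one ((Nat.coprime_two_right.2 hodd).pow_right k), Nat.dvd_one] at this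
    exact ⟨⟨y, hy⟩, orderOf_eq_one_iff.1 ho, rfl⟩
  -- the action of the four group
  have normR : ∀ v : G, v * v = 1 → v * hh * v ∈ P → v * kk * v ∈ P → ∀ y ∈ J, v * y * v ∈ J := by
    intro v hv2 hvh hvk y hy
    have vi : v⁻¹ = v := inv_eq_of_mul_eq_one_right hv2
    have hyR := (hPc y).1 (hJR hy)
    refine hmemJ _ ((hPc _).2 ⟨?_, ?_⟩) ?_
    · have := Subgroup.mem_centralizer_iff.1 (hJR hy) _ hvh
      calc v * y * v * hh = v * (y * (v * hh * v)) * v⁻¹ * (v * v) * (v * v)⁻¹ * v * v⁻¹ := by
            rw [vi, hv2]; simp only [inv_one, mul_one, mul_assoc, hv2]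
        _ = v * ((v * hh * v) * y) * v := by rw [← this, vi, hv2]; simp [mul_assoc, hv2]
        _ = (v * v) * hh * (v * y * v) := by group
        _ = _ := by rw [hv2, one_mul]
    · have := Subgroup.mem_centralizer_iff.1 (hJR hy) _ hvk
      calc v * y * v * kk = v * (y * (v * kk * v)) * v⁻¹ * (v * v) * (v * v)⁻¹ * v * v⁻¹ := by
            rw [vi, hv2]; simp only [inv_one, mul_one, mul_assoc, hv2]
        _ = v * ((v * kk * v) * y) * v := by rw [← this, vi, hv2]; simp [mul_assoc, hv2]
        _ = (v * v) * kk * (v * y * v) := by group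
        _ = _ := by rw [hv2, one_mul]
    · have : orderOf (v * y * v) = orderOf y := by
        conv_rhs => rw [← MulEquiv.orderOf_eq (MulAut.conj v) y]
        rw [MulAut.conj_apply, vi]
      rw [this]; exact hJodd.of_dvd_nat (Subgroup.orderOf_dvd_natCard J hy)
  have hhP : hh ∈ P := Subgroup.subset_closure (Or.inl rfl)
  have hkP : kk ∈ P := Subgroup.subset_closure (Or.inr rfl)
  have s1 : s * kk * s = hh := by
    calc s * kk * s = (s * s) * hh * (s * s) := by group
      _ = hh := by rw [D.ss]; group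
  have hsN : ∀ y ∈ J, s * y * s ∈ J := normR s D.ss hkP (by rw [s1]; exact hhP)
  have hzN : ∀ y ∈ J, z * y * z ∈ J := normR z zz
    (by rw [zh, mul_assoc, zz, mul_one]; exact hhP) (by rw [zk, mul_assoc, zz, mul_one]; exact hkP)
  have memN : ∀ v : G, v * v = 1 → (∀ y ∈ J, v * y * v ∈ J) → v ∈ Subgroup.normalizer (J : Set G) := by
    intro v hv2 hv
    rw [Subgroup.mem_normalizer_iff]
    intro y
    rw [inv_eq_of_mul_eq_one_right hv2]
    refine ⟨hv y, fun h => ?_⟩
    have := hv _ h
    rwa [show v * (v * y * v) * v = y by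
      calc _ = (v * v) * y * (v * v) := by group
        _ = y := by rw [hv2]; group] at this
  -- an element of odd order outside `P` fixed by one of the two other involutions
  obtain ⟨c, hcR, hcodd, hcP, hcs⟩ : ∃ c, c ∈ R' ∧ Odd (orderOf c) ∧ c ∉ P ∧ c * s = s * c := by
    by_contra hno
    simp only [not_exists, not_and] at hno
    have ii := D.ii
    have iz : i * z = z * i := Subgroup.mem_centralizer_singleton_iff.1 D.imem
    have e1 : i * s * i⁻¹ = z * s := by
      calc i * s * i⁻¹ = i * s * i⁻¹ * (s * s) := by rw [D.ss, mul_one]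
        _ = _ := by rw [← mul_assoc, D.isi]
    have hi1 : i * hh * i⁻¹ = (hh)⁻¹ := by rw [D.itau, τ_h₀, τ_one, ← map_inv]; simp
    have hi2 : i * kk * i⁻¹ = (kk)⁻¹ := by rw [D.k_eq, D.itau, τ_h₀, τ_one, ← map_inv]; simp
    haveI hON : (J.subgroupOf (Subgroup.normalizer (J : Set G))).Normal := Subgroup.normal_in_normalizer
    have hOodd : Odd (Nat.card (J.subgroupOf (Subgroup.normalizer (J : Set G)))) := by
      rw [Nat.card_congr (Subgroup.subgroupOfEquivOfLe Subgroup.le_normalizer).toEquiv]; exact hJodd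
    have hall := CfsgLib.StdClosure.four_fixed (O := J.subgroupOf (Subgroup.normalizer (J : Set G))) hOodd
      (a := ⟨z, memN z zz hzN⟩) (t := ⟨s, memN s D.ss hsN⟩) (Subtype.ext zz) (Subtype.ext D.ss)
      (Subtype.ext D.sz.symm)
      (fun y hy hys => by
        have hyJ : (y : G) ∈ J := hy
        have hys' : s * (y : G) = y * s := congrArg Subtype.val hys
        have hyP : (y : G) ∈ P := not_not.1 fun h =>
          hno y (hJR hyJ) (hJodd.of_dvd_nat (Subgroup.orderOf_dvd_natCard J hyJ)) h hys'.symm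
        exact Subtype.ext (Subgroup.mem_centralizer_iff.1 hzR _ hyP).symm)
      (fun y hy hys => by
        have hyJ : (y : G) ∈ J := hy
        have hys' : (z * s) * (y : G) = y * (z * s) := congrArg Subtype.val hys
        have hR := (hPc y).1 (hJR hyJ)
        have hy2 : i⁻¹ * (y : G) * i ∈ R' := (hPc _).2 ⟨by
          calc i⁻¹ * (y : G) * i * hh = i⁻¹ * ((y : G) * (i * hh * i⁻¹)) * i := by group
            _ = i⁻¹ * ((i * hh * i⁻¹) * y) * i := by rw [hi1, (Commute.inv_right hR.1).eq]
            _ = _ := by group, by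
          calc i⁻¹ * (y : G) * i * kk = i⁻¹ * ((y : G) * (i * kk * i⁻¹)) * i := by group
            _ = i⁻¹ * ((i * kk * i⁻¹) * y) * i := by rw [hi2, (Commute.inv_right hR.2).eq]
            _ = _ := by group⟩
        have hys2 : i⁻¹ * (y : G) * i * s = s * (i⁻¹ * (y : G) * i) := by
          calc i⁻¹ * (y : G) * i * s = i⁻¹ * ((y : G) * (i * s * i⁻¹)) * i := by group
            _ = i⁻¹ * ((i * s * i⁻¹) * y) * i := by rw [e1, hys']
            _ = _ := by group
        have hodd2 : Odd (orderOf (i⁻¹ * (y : G) * i)) := by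
          have : orderOf (i⁻¹ * (y : G) * i) = orderOf (y : G) := by
            conv_rhs => rw [← MulEquiv.orderOf_eq (MulAut.conj i⁻¹) (y : G)]
            rw [MulAut.conj_apply, inv_inv]
          rw [this]; exact hJodd.of_dvd_nat (Subgroup.orderOf_dvd_natCard J hyJ)
        have hyP : i⁻¹ * (y : G) * i ∈ P := not_not.1 fun h => hno _ hy2 hodd2 h hys2
        have h1 := Subgroup.mem_centralizer_iff.1 hzR _ hyP
        refine Subtype.ext ?_
        show z * (y : G) = y * z
        calc z * (y : G) = i * ((i⁻¹ * z * i) * (i⁻¹ * y * i)) * i⁻¹ := by group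
          _ = i * (z * (i⁻¹ * y * i)) * i⁻¹ := by rw [mul_assoc i⁻¹ z i, ← iz, inv_mul_cancel_left]
          _ = i * ((i⁻¹ * y * i) * z) * i⁻¹ := by rw [h1]
          _ = (y : G) * (i * z * i⁻¹) := by group
          _ = y * z := by rw [iz, mul_inv_cancel_right])
    refine hnot fun y hy => ?_
    rw [Subgroup.mem_centralizer_singleton_iff]
    obtain ⟨⟨p, q⟩, hpq : (p : R') * (q : R') = ⟨y, hy⟩⟩ := hc.2 ⟨y, hy⟩
    have hpJ : ((p : R') : G) ∈ J := ⟨p, p.2, rfl⟩
    have hpz : z * ((p : R') : G) = ((p : R') : G) * z :=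
      congrArg Subtype.val (hall ⟨_, Subgroup.le_normalizer hpJ⟩ hpJ)
    have hqz := hScomm _ q.2
    have e : y = ((p : R') : G) * ((q : R') : G) := by
      have := congrArg Subtype.val hpq
      rw [Subgroup.coe_mul] at this
      exact this.symm
    rw [e, mul_assoc, hqz, ← mul_assoc, ← hpz, mul_assoc]
  -- its image is in the subgroup of order nine
  set c' := r * c * r⁻¹ with hc'
  have c'z : c' * z = z * c' := by
    rw [hc', ← R.rs]
    calc _ = r * (c * s) * r⁻¹ := by group
      _ = _ := by rw [hcs]; group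
  have cx : c * xx = xx * c := by
    rw [← mul_assoc, ((hPc c).1 hcR).1, mul_assoc, ((hPc c).1 hcR).2, ← mul_assoc]
  have c'x : c' * xx = xx * c' := by
    have h1 : r * xx * r⁻¹ = xx := mul_inv_eq_iff_eq_mul.2 R.rx
    calc c' * xx = r * c * r⁻¹ * (r * xx * r⁻¹) := by rw [h1]
      _ = r * (c * xx) * r⁻¹ := by group
      _ = (r * xx * r⁻¹) * c' := by rw [cx, hc']; group
      _ = _ := by rw [h1]
  have c'9 : c' ^ 9 = 1 := by
    have ho : orderOf c' = orderOf c := by
      rw [hc', ← MulAut.conj_apply, MulEquiv.orderOf_eq]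
    have hd : orderOf c' ∣ 1152 := D.P.cardC ▸ Subgroup.orderOf_dvd_natCard _
      (Subgroup.mem_centralizer_singleton_iff.2 c'z)
    refine orderOf_dvd_iff_pow_eq_one.1 ?_
    have hco : (orderOf c').Coprime 128 := by
      rw [show (128 : ℕ) = 2 ^ 7 from rfl]
      exact (Nat.coprime_two_right.2 (ho ▸ hcodd)).pow_right 7
    exact hco.dvd_of_dvd_mul_left hd
  obtain ⟨n, hn, hpn, hln⟩ := D.K.ex c'z
  have ht := of_allBelow oddTest_all n hn
  simp only [oddTest] at ht
  have oX : ∀ l ∈ xW, l < 7 := by decide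
  rw [D.K.ne (D.two hln oX) (D.two oX hln) (by rw [ev_append, ev_append, ← hpn, D.ev_x]; exact c'x), cond_true,
    D.K.ne (D.two (D.two (D.two (D.two hln hln) hln) (D.two (D.two hln hln) hln)) (D.two (D.two hln hln) hln))
      (by simp) (by
        simp only [ev_append, ev_nil, ← hpn]
        rw [← c'9]
        simp only [pow_succ, pow_zero, one_mul, mul_assoc]), cond_true, List.any_eq_true] at ht
  obtain ⟨p, hp, hp'⟩ := ht
  have okp : ∀ l ∈ p, l < 7 := by
    have h := words_ok
    simp only [Bool.and_eq_true] at h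
    obtain ⟨⟨⟨⟨⟨⟨hq, -⟩, -⟩, -⟩, -⟩, -⟩, -⟩ := h
    exact okW_iff.1 (allList_iff.1 hq p hp)
  have hcP' : c' ∈ P := by rw [hpn, D.K.eq hln okp hp']; exact D.pW_mem hp
  -- the elements of `P` whose conjugate commutes with `h`
  let M : Subgroup G := (Subgroup.centralizer ({hh} : Set G)).comap (MulAut.conj r⁻¹).toMonoidHom ⊓ P
  have hM : ∀ q, q ∈ M ↔ r⁻¹ * q * r * hh = hh * (r⁻¹ * q * r) ∧ q ∈ P := by
    intro q
    simp [M, Subgroup.mem_inf, Subgroup.mem_comap, Subgroup.mem_centralizer_singleton_iff]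
  have rxi : r⁻¹ * xx * r = xx := by rw [mul_assoc, ← R.rx, inv_mul_cancel_left]
  have hxP : xx ∈ P := mul_mem hhP hkP
  have hxM : xx ∈ M := (hM _).2 ⟨by rw [rxi, mul_assoc hh, ← hkc], hxP⟩
  have hcM : c' ∈ M := (hM _).2 ⟨by
    rw [show r⁻¹ * c' * r = c by rw [hc']; group]; exact ((hPc c).1 hcR).1, hcP'⟩
  have hMP : M = P := by
    obtain ⟨k, hk9, hk⟩ := (Nat.dvd_prime_pow Nat.prime_three).1
      (show Nat.card M ∣ 3 ^ 2 from (Subgroup.card_dvd_of_le (inf_le_right : M ≤ P)).trans (by rw [cardP]; norm_num))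
    have ox : orderOf xx = 3 := orderOf_eq_prime (by rw [pow_succ, pow_two]; exact x3) xne
    have hk2 : k = 2 := by
      by_contra h
      have hle : Nat.card M ≤ 3 := by
        rw [hk]; exact le_trans (Nat.pow_le_pow_right (by norm_num) (by omega : k ≤ 1)) (by norm_num)
      have heq : Subgroup.zpowers xx = M :=
        Subgroup.eq_of_le_of_card_ge ((Subgroup.zpowers_le).2 hxM) (by rw [Nat.card_zpowers, ox]; exact hle)
      rw [← heq] at hcM
      obtain ⟨j, hj⟩ := Subgroup.mem_zpowers_iff.1 hcM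
      refine hcP ?_
      have : c = c' := by
        calc c = r⁻¹ * c' * r := by rw [hc']; group
          _ = c' := by
            rw [← hj, mul_assoc, ← ((show Commute r xx from R.rx).zpow_right j).eq, inv_mul_cancel_left]
      rw [this]; exact hcP'
    exact Subgroup.eq_of_le_of_card_ge inf_le_right (by rw [hk, hk2, cardP]; norm_num)
  have := ((hM hh).1 (hMP.symm ▸ hhP)).1
  exact hcon this.symm

end Loc

end CfsgLib.U43Type
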