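import Cfsg.Agent.U43Type.Class

/-!
Finite facts in the centraliser for finding the element of order three outside it.
-/

set_option autoImplicit false
set_option maxRecDepth 100000

namespace CfsgLib.U43Type

open CfsgLib.Coset CfsgLib.J2U

/-- The diagonal element of order three. -/
def xW : List Nat := [2, 4, 2, 4]

/-- The conjugate of `u` by it. -/
def u2W : List Nat := xW ++ uW ++ invW xW

/-- The conjugate of `u` by its inverse. -/
def u3W : List Nat := invW xW ++ uW ++ xW

/-- The elements of the elementary abelian subgroup of order sixteen. -/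
def vecW (k : Nat) : List Nat :=
  (if k % 2 = 1 then [0, 0] else []) ++ (if k / 2 % 2 = 1 then [4] else []) ++
    (if k / 4 % 2 = 1 then uW else []) ++ (if k / 8 % 2 = 1 then u2W else [])

/-- The images of these elements under the element of order three. -/
def rWord (k : Nat) : List Nat :=
  (if k % 2 = 1 then [0, 0, 4] else []) ++ (if k / 2 % 2 = 1 then [0, 0] else []) ++
    (if k / 4 % 2 = 1 then uW else []) ++ (if k / 8 % 2 = 1 then u2W else [])

/-- The same, as indices. -/
def rE (k : Nat) : Nat := k / 4 * 4 + ([0, 3, 1, 2] : List Nat).getD (k % 4) 0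

/-- The word `h⁻¹ a h i`. -/
def mW : List Nat := [3, 0, 2, 5]

/-- The action of this word. -/
def mE (k : Nat) : Nat :=
  ([0, 1, 14, 15, 5, 4, 11, 10, 12, 13, 2, 3, 9, 8, 7, 6] : List Nat).getD k 0

/-- The product of the two actions. -/
def fE (k : Nat) : Nat := rE (mE k)

/-- The elements of order dividing three of the subgroup generated by `h` and `s h s`. -/
def pWs : List (List Nat) :=
  (List.range 9).map fun k => List.replicate (k % 3) 2 ++ (List.replicate (k / 3) [4, 2, 4]).flatten

/-- Conjugators in the centraliser of `s`. -/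
def conjS : List (List Nat) := [[], [0, 4, 0], [0, 2, 4, 0, 2], [0, 3, 4, 0, 3]]

/-- An element of order three commuting with `s` is conjugate to the diagonal one or its inverse. -/
noncomputable def threeTest (i : Nat) : Bool :=
  let w := wdN C11.Par i
  cond (eqN C11.Tb (w ++ [4]) ([4] ++ w)) (cond (eqN C11.Tb (w ++ w ++ w) [])
    (eqN C11.Tb w [] || conjS.any fun c =>
      eqN C11.Tb (c ++ w ++ invW c) xW || eqN C11.Tb (c ++ w ++ invW c) (invW xW)) true) true

/-- The commutators of the diagonal element with involutions. -/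
noncomputable def commTest (i : Nat) : Bool :=
  let w := wdN C11.Par i
  cond (eqN C11.Tb (w ++ [4]) ([4] ++ w)) (cond (eqN C11.Tb (w ++ w) [])
    (eqN C11.Tb (xW ++ w ++ invW xW ++ w) [] || eqN C11.Tb (xW ++ w ++ invW xW ++ w) uW ||
      eqN C11.Tb (xW ++ w ++ invW xW ++ w) u2W || eqN C11.Tb (xW ++ w ++ invW xW ++ w) u3W) true) true

/-- The centraliser of `z`, `s`, `x` and `u`. -/
noncomputable def fixTest (i : Nat) : Bool :=
  let w := wdN C11.Par i
  cond (eqN C11.Tb (w ++ [4]) ([4] ++ w)) (cond (eqN C11.Tb (w ++ xW) (xW ++ w))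
    (cond (eqN C11.Tb (w ++ uW) (uW ++ w))
      (eqN C11.Tb w [] || eqN C11.Tb w [0, 0] || eqN C11.Tb w [4] || eqN C11.Tb w [0, 0, 4]) true) true) true

/-- The centraliser of the subgroup of order sixteen. -/
noncomputable def sixTest (i : Nat) : Bool :=
  let w := wdN C11.Par i
  cond (eqN C11.Tb (w ++ [4]) ([4] ++ w)) (cond (eqN C11.Tb (w ++ u2W) (u2W ++ w))
    (cond (eqN C11.Tb (w ++ uW) (uW ++ w)) ((List.range 16).any fun k => eqN C11.Tb w (vecW k)) true) true) true

/-- The centraliser of the subgroup of order nine. -/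
noncomputable def nineTest (i : Nat) : Bool :=
  let w := wdN C11.Par i
  cond (eqN C11.Tb (w ++ [2]) ([2] ++ w)) (cond (eqN C11.Tb (w ++ [4, 2, 4]) ([4, 2, 4] ++ w))
    (pWs.any fun p => eqN C11.Tb w p || eqN C11.Tb w ([0, 0] ++ p)) true) true

/-- No involution inverts the subgroup of order nine. -/
noncomputable def invTest (i : Nat) : Bool :=
  let w := wdN C11.Par i
  cond (eqN C11.Tb (w ++ w) []) (cond (eqN C11.Tb (w ++ [2] ++ w) [3])
    (!eqN C11.Tb (w ++ [4, 2, 4] ++ w) [4, 3, 4]) true) true

/-- The elements of odd order commuting with the diagonal element. -/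
noncomputable def oddTest (i : Nat) : Bool :=
  let w := wdN C11.Par i
  cond (eqN C11.Tb (w ++ xW) (xW ++ w))
    (cond (eqN C11.Tb (w ++ w ++ w ++ (w ++ w ++ w) ++ (w ++ w ++ w)) []) (pWs.any fun p => eqN C11.Tb w p) true)
    true

/-- Equations in the centraliser. -/
noncomputable def relFacts : Bool :=
  allList (fun k => sameT C11.Tb 7 (rWord k) (vecW (rE k)) &&
    sameT C11.Tb 7 (mW ++ vecW k ++ invW mW) (vecW (mE k)) &&
    (k == 0 || !eqN C11.Tb (vecW (fE k)) (vecW k))) (List.range 16) &&
  allList (fun k => !eqN C11.Tb (vecW k) [] || k == 0) (List.range 16)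

/-- Equations for the involution `i s`. -/
noncomputable def wFacts : Bool :=
  sameT C11.Tb 7 ([5, 4] ++ [5, 4]) [] && sameT C11.Tb 7 ([5, 4] ++ [4] ++ [5, 4]) [0, 0, 4] &&
  sameT C11.Tb 7 ([5, 4] ++ xW ++ [5, 4]) (invW xW) && sameT C11.Tb 7 ([5, 4] ++ uW ++ [5, 4]) uW &&
  sameT C11.Tb 7 ([4] ++ uW) (uW ++ [4]) && sameT C11.Tb 7 ([4] ++ xW) (xW ++ [4]) &&
  sameT C11.Tb 7 ([4] ++ tW) (tW ++ [4]) && sameT C11.Tb 7 (xW ++ tW ++ invW xW ++ tW) uW &&
  sameT C11.Tb 7 (tW ++ tW) [] && sameT C11.Tb 7 (xW ++ xW ++ xW) [] && sameT C11.Tb 7 (uW ++ uW) [] &&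
  sameT C11.Tb 7 ([4] ++ u2W) (u2W ++ [4]) &&
  !eqN C11.Tb xW [] && !eqN C11.Tb uW [] && !eqN C11.Tb [4] [] && !eqN C11.Tb [0, 0] [4]

theorem threeTest_all : allBelow 11 1152 threeTest = true := by decide +kernel
theorem commTest_all : allBelow 11 1152 commTest = true := by decide +kernel
theorem fixTest_all : allBelow 11 1152 fixTest = true := by decide +kernel
theorem sixTest_all : allBelow 11 1152 sixTest = true := by decide +kernel
theorem nineTest_all : allBelow 11 1152 nineTest = true := by decide +kernel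
theorem invTest_all : allBelow 11 1152 invTest = true := by decide +kernel
theorem oddTest_all : allBelow 11 1152 oddTest = true := by decide +kernel
theorem relFacts_ok : relFacts = true := by decide +kernel
theorem wFacts_ok : wFacts = true := by decide +kernel

theorem fE_pow : ∀ k < 16, mE k < 16 ∧ rE k < 16 ∧ fE (fE (fE (fE (fE k)))) = k := by decide +kernel

theorem words_ok : (allList okW pWs && allList okW conjS && allList (fun k => okW (vecW k) && okW (rWord k))
    (List.range 16) && okW u2W && okW u3W && okW xW && okW mW) = true := by decide +kernel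

end CfsgLib.U43Type
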