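import Cfsg.Agent.U43Type.Pair
import Cfsg.Agent.Comp.Basic
import Cfsg.Agent.Solvable.Basics
import Mathlib.GroupTheory.Sylow

/-!
From the hypotheses on the centraliser to the pair of homomorphisms.
-/

set_option autoImplicit false
set_option linter.style.haveILetI false
set_option maxRecDepth 100000

namespace CfsgLib.U43Type

variable {G : Type*} [Group G]

theorem threes_generate : ∀ A : SL, ∃ i : Fin 3, ∃ j : Fin 3, ∃ k : Fin 3, ∃ l : Fin 3,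
    A = h₀ ^ i.val * (a₀ * h₀ * a₀⁻¹) ^ j.val * h₀ ^ k.val * (a₀ * h₀ * a₀⁻¹) ^ l.val := by
  decide +kernel

theorem three_gens : h₀ ^ 3 = 1 ∧ (a₀ * h₀ * a₀⁻¹) ^ 3 = 1 := by
  decide +kernel

/-- A homomorphism of `SL(2,3)` into a group of order at most two is trivial. -/
theorem eq_one_of_sq {M : Type*} [Group M] (f : SL →* M) (h : ∀ A, f A * f A = 1) (A : SL) : f A = 1 := by
  have h3 : ∀ B : SL, B ^ 3 = 1 → f B = 1 := fun B hB => by
    have e : f B ^ 3 = 1 := by rw [← map_pow, hB, map_one]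
    rwa [pow_succ, pow_two, h, one_mul] at e
  obtain ⟨i, j, k, l, rfl⟩ := threes_generate A
  obtain ⟨e1, e2⟩ := three_gens
  rw [map_mul, map_mul, map_mul, map_pow, map_pow, map_pow, map_pow, h3 _ e1, h3 _ e2]; simp

theorem j₀_unique : ∀ A : SL, A * A = 1 → A ≠ 1 → A = j₀ := by decide +kernel

theorem four_or_three : ∀ A : SL, A * A * (A * A) = 1 ∨ A * A * A = 1 ∨ (A * A * A) * (A * A * A) = 1 := by
  decide +kernel

theorem four_of_two_power (A : SL) (n : ℕ) (h : A ^ (2 ^ n) = 1) : A * A * (A * A) = 1 := by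
  rcases four_or_three A with e | e | e
  · exact e
  · have e3 : A ^ 3 = 1 := by rw [pow_succ, pow_two]; exact e
    have h1 : orderOf A ∣ Nat.gcd (2 ^ n) 3 := Nat.dvd_gcd (orderOf_dvd_of_pow_eq_one h) (orderOf_dvd_of_pow_eq_one e3)
    rw [Nat.Coprime.gcd_eq_one ((Nat.coprime_two_left.2 (by decide)).pow_left n), Nat.dvd_one, orderOf_eq_one_iff] at h1
    simp [h1]
  · have e6 : A ^ 6 = 1 := by rw [show (6 : ℕ) = 3 + 3 from rfl, pow_add, pow_succ, pow_two]; exact e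
    have h1 : orderOf A ∣ Nat.gcd (2 ^ n) (2 * 3) := Nat.dvd_gcd (orderOf_dvd_of_pow_eq_one h) (orderOf_dvd_of_pow_eq_one e6)
    rw [Nat.Coprime.gcd_mul_right_cancel_right 2 ((Nat.coprime_two_right.2 (by decide)).symm.pow_left n).symm] at h1
    have h2 : A ^ 2 = 1 := orderOf_dvd_iff_pow_eq_one.1 (h1.trans (Nat.gcd_dvd_right _ _))
    rw [show A * A = 1 by rw [← pow_two]; exact h2, one_mul]

theorem q8_conj : ∀ A B : SL, A ∈ q8 → B * A * B⁻¹ ∈ q8 := by decide +kernel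

theorem j₀_mem : j₀ ∈ q8 ∧ j₀ * j₀ = 1 ∧ j₀ ≠ 1 := by decide +kernel

set_option maxHeartbeats 1000000 in
/-- The pair of homomorphisms. -/
theorem exists_pair [Finite G] (z : G) (hz : orderOf z = 2) (H₁ H₂ : Subgroup (Subgroup.centralizer ({z} : Set G)))
    (hK : H₁ ⊔ H₂ = Subgroup.closure {x : Subgroup.centralizer ({z} : Set G) | Odd (orderOf x)})
    (hn₁ : (H₁.subgroupOf (H₁ ⊔ H₂)).Normal) (hn₂ : (H₂.subgroupOf (H₁ ⊔ H₂)).Normal)
    (e₁ : H₁ ≃* SL) (e₂ : H₂ ≃* SL)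
    (hmeet : (H₁ ⊓ H₂).map (Subgroup.subtype (Subgroup.centralizer ({z} : Set G))) = Subgroup.zpowers z)
    (Q : Subgroup (Subgroup.centralizer ({z} : Set G))) [Q.Normal]
    (hQ : Q = (Cfsg.pCore 2 ↥(H₁ ⊔ H₂)).map (Subgroup.subtype (H₁ ⊔ H₂)))
    (hF : Cfsg.generalizedFittingSubgroup (Subgroup.centralizer ({z} : Set G)) = Q)
    (hnwc : ∃ g : G, (∃ hq : g * z * g⁻¹ ∈ Subgroup.centralizer ({z} : Set G),
      (⟨g * z * g⁻¹, hq⟩ : Subgroup.centralizer ({z} : Set G)) ∈ Q) ∧ g * z * g⁻¹ ≠ z)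
    (hH : Nat.card ↥(Subgroup.centralizer ({z} : Set G)) = 2 ^ 7 * 3 ^ 2)
    (hQQg : ∀ g : G, g * z * g⁻¹ ∈ Q.map (Subgroup.subtype (Subgroup.centralizer ({z} : Set G))) →
      g * z * g⁻¹ ≠ z → Nat.card ↥((Q.map (Subgroup.subtype (Subgroup.centralizer ({z} : Set G)))) ⊓
        (Q.map (Subgroup.subtype (Subgroup.centralizer ({z} : Set G)))).map (MulAut.conj g).toMonoidHom) = 4) :
    ∃ φ : SL × SL →* G, Pair z φ := by
  classical
  haveI : Fact (Nat.Prime 2) := ⟨Nat.prime_two⟩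
  have hzC : z ∈ (Subgroup.centralizer ({z} : Set G)) := Subgroup.mem_centralizer_singleton_iff.2 rfl
  set zC : (Subgroup.centralizer ({z} : Set G)) := ⟨z, hzC⟩ with hzCdef
  have hzcen : ∀ c : (Subgroup.centralizer ({z} : Set G)), c * zC = zC * c := fun c =>
    Subtype.ext (Subgroup.mem_centralizer_singleton_iff.1 c.2)
  have hz1 : z ≠ 1 := fun h => by rw [h, orderOf_one] at hz; norm_num at hz
  have hzz : z * z = 1 := by rw [← pow_two, ← hz]; exact pow_orderOf_eq_one z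
  have hmem12 : ∀ c : (Subgroup.centralizer ({z} : Set G)), c ∈ H₁ → c ∈ H₂ → c = 1 ∨ c = zC := by
    intro c h1 h2
    have h : (c : G) ∈ Subgroup.zpowers z := hmeet ▸ ⟨c, ⟨h1, h2⟩, rfl⟩
    obtain ⟨n, hn⟩ := Subgroup.mem_zpowers_iff.1 h
    have hn' : z ^ (n % 2) = (c : G) := by rw [← hn, ← zpow_mod_orderOf z n, hz]; norm_num
    rcases Int.emod_two_eq n with e | e <;> rw [e] at hn'
    · left; apply Subtype.ext; simpa using hn'.symm
    · right; apply Subtype.ext; show (c : G) = z; simpa using hn'.symm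
  have hz12 : zC ∈ H₁ ∧ zC ∈ H₂ := by
    have h : z ∈ (H₁ ⊓ H₂).map (Subgroup.subtype (Subgroup.centralizer ({z} : Set G))) := hmeet.symm ▸ Subgroup.mem_zpowers z
    obtain ⟨c, hc, e⟩ := h
    obtain rfl : c = zC := Subtype.ext e
    exact hc
  have hn₁' : ∀ k ∈ (H₁ ⊔ H₂), ∀ a ∈ H₁, k * a * k⁻¹ ∈ H₁ := fun k hk a ha =>
    hn₁.conj_mem ⟨a, le_sup_left (b := H₂) ha⟩ ha ⟨k, hk⟩
  have hn₂' : ∀ k ∈ (H₁ ⊔ H₂), ∀ a ∈ H₂, k * a * k⁻¹ ∈ H₂ := fun k hk a ha =>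
    hn₂.conj_mem ⟨a, le_sup_right (a := H₁) ha⟩ ha ⟨k, hk⟩
  -- the two factors commute
  let ι₁ : SL →* (Subgroup.centralizer ({z} : Set G)) := H₁.subtype.comp e₁.symm.toMonoidHom
  let ι₂ : SL →* (Subgroup.centralizer ({z} : Set G)) := H₂.subtype.comp e₂.symm.toMonoidHom
  have hι₁ : ∀ A, ι₁ A ∈ H₁ := fun A => (e₁.symm A).2
  have hι₂ : ∀ A, ι₂ A ∈ H₂ := fun A => (e₂.symm A).2
  have hcomm : ∀ A B, Commute (ι₁ A) (ι₂ B) := by
    intro A B
    have hin : ∀ B, ι₁ A * ι₂ B * (ι₁ A)⁻¹ * (ι₂ B)⁻¹ = 1 ∨ ι₁ A * ι₂ B * (ι₁ A)⁻¹ * (ι₂ B)⁻¹ = zC := fun B =>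
      hmem12 _ (by
        rw [mul_assoc, mul_assoc]
        refine mul_mem (hι₁ A) ?_
        rw [← mul_assoc]
        exact hn₁' _ (le_sup_right (a := H₁) (hι₂ B)) _ (inv_mem (hι₁ A)))
        (mul_mem (hn₂' _ (le_sup_left (b := H₂) (hι₁ A)) _ (hι₂ B)) (inv_mem (hι₂ B)))
    have hzc2 : ∀ (c : (Subgroup.centralizer ({z} : Set G))) B, (ι₁ A * ι₂ B * (ι₁ A)⁻¹ * (ι₂ B)⁻¹) * c = c * (ι₁ A * ι₂ B * (ι₁ A)⁻¹ * (ι₂ B)⁻¹) := by
      intro c B
      rcases hin B with e | e <;> rw [e]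
      · simp
      · exact (hzcen c).symm
    let f : SL →* (Subgroup.centralizer ({z} : Set G)) := MonoidHom.mk' (fun B => ι₁ A * ι₂ B * (ι₁ A)⁻¹ * (ι₂ B)⁻¹) (fun B B' => by
      symm
      calc ι₁ A * ι₂ B * (ι₁ A)⁻¹ * (ι₂ B)⁻¹ * (ι₁ A * ι₂ B' * (ι₁ A)⁻¹ * (ι₂ B')⁻¹)
          = ι₁ A * ι₂ B * (ι₁ A)⁻¹ * ((ι₂ B)⁻¹ * (ι₁ A * ι₂ B' * (ι₁ A)⁻¹ * (ι₂ B')⁻¹)) := by group
        _ = ι₁ A * ι₂ B * (ι₁ A)⁻¹ * ((ι₁ A * ι₂ B' * (ι₁ A)⁻¹ * (ι₂ B')⁻¹) * (ι₂ B)⁻¹) := by rw [hzc2]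
        _ = ι₁ A * ι₂ (B * B') * (ι₁ A)⁻¹ * (ι₂ (B * B'))⁻¹ := by rw [map_mul]; group)
    have h1 := eq_one_of_sq f (fun B => by
      rcases hin B with e | e <;> show _ * _ = _ <;> simp only [f, MonoidHom.mk'_apply, e]
      · simp
      · exact Subtype.ext hzz) B
    simp only [f, MonoidHom.mk'_apply] at h1
    show ι₁ A * ι₂ B = ι₂ B * ι₁ A
    calc ι₁ A * ι₂ B = (ι₁ A * ι₂ B * (ι₁ A)⁻¹ * (ι₂ B)⁻¹) * (ι₂ B * ι₁ A) := by group
      _ = _ := by rw [h1, one_mul]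
  let φC : SL × SL →* (Subgroup.centralizer ({z} : Set G)) := MonoidHom.noncommCoprod ι₁ ι₂ hcomm
  have hφC : ∀ A B, φC (A, B) = ι₁ A * ι₂ B := fun A B => rfl
  have hι₁j : ι₁ j₀ = zC := by
    have e : e₁ ⟨zC, hz12.1⟩ = j₀ := j₀_unique _ (by
      rw [← map_mul]
      exact (congrArg e₁ (Subtype.ext (Subtype.ext hzz) : (⟨zC, hz12.1⟩ : H₁) * ⟨zC, hz12.1⟩ = 1)).trans (map_one _))
      (fun h => hz1 (by simpa [zC] using congrArg (fun w : H₁ => (((w : (Subgroup.centralizer ({z} : Set G)))) : G)) (e₁.injective (h.trans e₁.map_one.symm))))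
    show ((e₁.symm j₀ : H₁) : (Subgroup.centralizer ({z} : Set G))) = zC
    rw [← e, MulEquiv.symm_apply_apply]
  have hι₂j : ι₂ j₀ = zC := by
    have e : e₂ ⟨zC, hz12.2⟩ = j₀ := j₀_unique _ (by
      rw [← map_mul]
      exact (congrArg e₂ (Subtype.ext (Subtype.ext hzz) : (⟨zC, hz12.2⟩ : H₂) * ⟨zC, hz12.2⟩ = 1)).trans (map_one _))
      (fun h => hz1 (by simpa [zC] using congrArg (fun w : H₂ => (((w : (Subgroup.centralizer ({z} : Set G)))) : G)) (e₂.injective (h.trans e₂.map_one.symm))))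
    show ((e₂.symm j₀ : H₂) : (Subgroup.centralizer ({z} : Set G))) = zC
    rw [← e, MulEquiv.symm_apply_apply]
  have hi₁ : Function.Injective ι₁ := Subtype.val_injective.comp e₁.symm.injective
  have hi₂ : Function.Injective ι₂ := Subtype.val_injective.comp e₂.symm.injective
  have hker : ∀ p, φC p = 1 ↔ p = 1 ∨ p = (j₀, j₀) := by
    rintro ⟨A, B⟩
    rw [hφC]
    constructor
    · intro h
      have hA : ι₁ A ∈ H₂ := by rw [eq_inv_of_mul_eq_one_left h]; exact inv_mem (hι₂ B)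
      rcases hmem12 _ (hι₁ A) hA with e | e
      · left
        rw [e, one_mul] at h
        exact Prod.ext (hi₁ (e.trans (map_one ι₁).symm)) (hi₂ (h.trans (map_one ι₂).symm))
      · right
        rw [e] at h
        have hB : ι₂ B = zC := by
          rw [← inv_eq_of_mul_eq_one_right h]; exact Subtype.ext (inv_eq_of_mul_eq_one_right hzz)
        exact Prod.ext (hi₁ (by rw [e, hι₁j])) (hi₂ (by rw [hB, hι₂j]))
    · rintro (e | e) <;> obtain ⟨rfl, rfl⟩ := Prod.ext_iff.1 e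
      · simp
      · show ι₁ j₀ * ι₂ j₀ = 1
        rw [hι₁j, hι₂j]; exact Subtype.ext hzz
  have hrange : φC.range = (H₁ ⊔ H₂) := by
    rw [MonoidHom.noncommCoprod_range]
    congr 1
    · show (H₁.subtype.comp e₁.symm.toMonoidHom).range = H₁
      rw [MonoidHom.range_comp, MonoidHom.range_eq_top.2 e₁.symm.surjective, ← MonoidHom.range_eq_map,
        Subgroup.range_subtype]
    · show (H₂.subtype.comp e₂.symm.toMonoidHom).range = H₂
      rw [MonoidHom.range_comp, MonoidHom.range_eq_top.2 e₂.symm.surjective, ← MonoidHom.range_eq_map,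
        Subgroup.range_subtype]
  have hKconj : ∀ c : (Subgroup.centralizer ({z} : Set G)), ∀ k ∈ (H₁ ⊔ H₂), c * k * c⁻¹ ∈ (H₁ ⊔ H₂) := by
    intro c k hk
    have hle : (H₁ ⊔ H₂) ≤ (H₁ ⊔ H₂).comap (MulAut.conj c).toMonoidHom := by
      rw [hK, Subgroup.closure_le]
      intro x hx
      rw [SetLike.mem_coe, Subgroup.mem_comap, MulEquiv.coe_toMonoidHom, MulAut.conj_apply]
      refine Subgroup.subset_closure ?_
      show Odd (orderOf (c * x * c⁻¹))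
      rw [← MulAut.conj_apply, MulEquiv.orderOf_eq]; exact hx
    exact hle hk
  -- the extraspecial subgroup
  let φK : SL × SL →* ↥(H₁ ⊔ H₂) := φC.codRestrict (H₁ ⊔ H₂) (fun p => hrange ▸ ⟨p, rfl⟩)
  have hφKs : Function.Surjective φK := fun k => by
    obtain ⟨p, hp⟩ := (hrange.symm ▸ k.2 : (k : ↥(Subgroup.centralizer ({z} : Set G))) ∈ φC.range)
    exact ⟨p, Subtype.ext hp⟩
  have hkK : ∀ p, p ∈ φK.ker ↔ p = 1 ∨ p = (j₀, j₀) := fun p => by
    rw [MonoidHom.mem_ker, ← hker p]; exact Subtype.ext_iff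
  have hqc : Nat.card qq = 64 := by
    rw [qq, Nat.card_congr (Subgroup.prodEquiv q8 q8).toEquiv, Nat.card_prod, card_q8]
  haveI : (qq.map φK).Normal := Subgroup.Normal.map ⟨fun p hp g =>
    Subgroup.mem_prod.2 ⟨q8_conj p.1 g.1 (Subgroup.mem_prod.1 hp).1, q8_conj p.2 g.2 (Subgroup.mem_prod.1 hp).2⟩⟩
    _ hφKs
  have hqp : IsPGroup 2 (qq.map φK) := (IsPGroup.of_card (n := 6) (by rw [hqc]; norm_num)).map φK
  have hcore : Cfsg.pCore 2 ↥(H₁ ⊔ H₂) = qq.map φK := by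
    refine le_antisymm (fun k hk => ?_) (CfsgLib.Solvable.le_pCore 2 inferInstance hqp)
    obtain ⟨p, rfl⟩ := hφKs k
    obtain ⟨m, hm⟩ := (CfsgLib.Solvable.isPGroup_pCore (G := ↥(H₁ ⊔ H₂)) 2) ⟨φK p, hk⟩
    have hm' : φK (p ^ 2 ^ m) = 1 := by rw [map_pow]; exact congrArg Subtype.val hm
    have hp2 : p ^ (2 ^ (m + 1)) = 1 := by
      rw [pow_succ, pow_mul]
      rcases (hkK _).1 hm' with e | e <;> rw [e]
      · simp
      · exact Prod.ext (by simpa [pow_two] using j₀_mem.2.1) (by simpa [pow_two] using j₀_mem.2.1)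
    refine ⟨p, Subgroup.mem_prod.2 ⟨mem_q8.2 ?_, mem_q8.2 ?_⟩, rfl⟩
    · exact four_of_two_power p.1 _ (congrArg Prod.fst hp2)
    · exact four_of_two_power p.2 _ (congrArg Prod.snd hp2)
  have hQmap : Q.map (Subgroup.subtype (Subgroup.centralizer ({z} : Set G))) = qq.map ((Subgroup.subtype (Subgroup.centralizer ({z} : Set G))).comp φC) := by
    rw [hQ, hcore, Subgroup.map_map, Subgroup.map_map]; rfl
  let φ : SL × SL →* G := (Subgroup.subtype (Subgroup.centralizer ({z} : Set G))).comp φC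
  have hQC : ∀ c : (Subgroup.centralizer ({z} : Set G)), c ∈ Q ↔ (c : G) ∈ qq.map φ := fun c => by
    rw [← hQmap]; exact (Subgroup.mem_map_iff_mem (Subgroup.subtype_injective _)).symm
  have hQin : ∀ p ∈ qq, φC p ∈ Q := fun p hp => (hQC _).2 ⟨p, hp, rfl⟩
  refine ⟨φ, hz, by rw [hH]; norm_num, fun p => (φC p).2, fun p => ?_, ?_, ?_, ?_, ?_, ?_, ?_⟩
  · exact (OneMemClass.coe_eq_one).trans (hker p)
  · show ((φC (j₀, 1) : (Subgroup.centralizer ({z} : Set G))) : G) = z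
    rw [hφC, hι₁j, map_one, mul_one]
  · intro g hg p
    have h := hKconj ⟨g, hg⟩ (φC p) (hrange ▸ ⟨p, rfl⟩)
    rw [← hrange] at h
    obtain ⟨p', hp'⟩ := h
    exact ⟨p', congrArg Subtype.val hp'⟩
  · intro g hg p hp
    exact (hQC _).1 (Subgroup.Normal.conj_mem inferInstance _ (hQin p hp) ⟨g, hg⟩)
  · intro c hc h
    refine (hQC ⟨c, hc⟩).1 (hF ▸ CfsgLib.Comp.centralizer_Fstar_le (Subgroup.mem_centralizer_iff.2 fun q hq => ?_))
    obtain ⟨p, hp, hpq⟩ := (hQC q).1 (hF ▸ hq)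
    refine Subtype.ext ?_
    show (q : G) * c = c * q
    rw [← hpq]; exact (h p hp).symm
  · obtain ⟨g, ⟨hq, hgQ⟩, hne⟩ := hnwc
    exact ⟨g, (hQC _).1 hgQ, hne⟩
  · intro g hg hne
    have := hQQg g (hQmap ▸ hg) hne
    rwa [hQmap] at this

end CfsgLib.U43Type
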