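import Cfsg.Agent.U43Type.Pair
import Mathlib.GroupTheory.Subgroup.Centralizer

/-!
The action of the centraliser on the two factors.
-/

set_option autoImplicit false
set_option maxRecDepth 100000

namespace CfsgLib.U43Type

/-- Exchange of the factors and the outer part on each factor. -/
abbrev Ty : Type := Bool × Bool × Bool

/-- The outer automorphism, or nothing. -/
def tw (b : Bool) (A : SL) : SL := if b then τ A else A

/-- The automorphism given by a type. -/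
def act (t : Ty) (p : SL × SL) : SL × SL :=
  if t.1 then (tw t.2.1 p.2, tw t.2.2 p.1) else (tw t.2.1 p.1, tw t.2.2 p.2)

/-- Product of types. -/
def tmul (t t' : Ty) : Ty :=
  (xor t.1 t'.1, xor t.2.1 (if t.1 then t'.2.2 else t'.2.1), xor t.2.2 (if t.1 then t'.2.1 else t'.2.2))

/-- The trivial type. -/
def t₁ : Ty := (false, false, false)

theorem act_one (p : SL × SL) : act t₁ p = p := rfl

theorem act_act (t t' : Ty) (p : SL × SL) : act t (act t' p) = act (tmul t t') p := by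
  obtain ⟨a, b, c⟩ := t
  obtain ⟨a', b', c'⟩ := t'
  cases a <;> cases b <;> cases c <;> cases a' <;> cases b' <;> cases c' <;>
    simp [act, tmul, tw, τ_τ]

theorem act_mul (t : Ty) (p q : SL × SL) : act t (p * q) = act t p * act t q := by
  obtain ⟨a, b, c⟩ := t
  cases a <;> cases b <;> cases c <;> simp [act, tw, τ_mul, Prod.ext_iff]

theorem τ_one : τ 1 = 1 := by decide +kernel

theorem act_inv (t : Ty) (p : SL × SL) : act t p⁻¹ = (act t p)⁻¹ := by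
  refine eq_inv_of_mul_eq_one_left ?_
  rw [← act_mul, inv_mul_cancel]
  obtain ⟨a, b, c⟩ := t
  cases a <;> cases b <;> cases c <;> simp [act, tw, τ_one]

theorem act_fac₁ (t : Ty) (A : SL) : act t (A, 1) = if t.1 then (1, tw t.2.2 A) else (tw t.2.1 A, 1) := by
  obtain ⟨a, b, c⟩ := t
  cases a <;> cases b <;> cases c <;> simp [act, tw, τ_one]

theorem act_fac₂ (t : Ty) (A : SL) : act t (1, A) = if t.1 then (tw t.2.1 A, 1) else (1, tw t.2.2 A) := by
  obtain ⟨a, b, c⟩ := t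
  cases a <;> cases b <;> cases c <;> simp [act, tw, τ_one]

/-! ### Finite facts -/

theorem three_conj : ∀ y x : SL, y * y * y = 1 → x * y ≠ y * x * j₀ := by decide +kernel

theorem three_cen : ∀ y : SL, y * y * y = 1 → y ≠ 1 → ∀ x x' : SL,
    x * y = y * x → x' * y = y * x' → x * x' = x' * x := by decide +kernel

theorem three_pair : ∀ y y' : SL, y * y * y = 1 → y ≠ 1 → y' * y' * y' = 1 → y * y' = y' * y →
    y' = 1 ∨ y' = y ∨ y' = y * y := by decide +kernel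

theorem aut_ex : ∀ x y : SL, x * x = j₀ → y * y * y = 1 → y ≠ 1 → x * y * (x * y) * (x * y) = j₀ →
    ∃ N : SL, ∃ e : Bool, x = N * tw e a₀ * N⁻¹ ∧ y = N * tw e h₀ * N⁻¹ := by decide +kernel

theorem gens_facts : a₀ * a₀ = j₀ ∧ h₀ * h₀ * h₀ = 1 ∧ h₀ ≠ 1 ∧
    a₀ * h₀ * (a₀ * h₀) * (a₀ * h₀) = j₀ ∧ a₀ * h₀ * a₀⁻¹ ≠ h₀ := by decide +kernel

theorem outer_ne : ∀ N : SL, N * h₀ * N⁻¹ ≠ τ h₀ ∧ N * h₀ * N⁻¹ ≠ τ h₀ * j₀ ∧
    N * h₀ * N⁻¹ ≠ j₀ ∧ N * h₀ * N⁻¹ ≠ 1 ∧ N * τ h₀ * N⁻¹ ≠ j₀ ∧ N * τ h₀ * N⁻¹ ≠ 1 := by decide +kernel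

theorem j₀_facts : j₀ * j₀ = 1 ∧ j₀ ≠ 1 ∧ j₀ * j₀ * j₀ ≠ 1 := by decide +kernel

theorem j₀_comm : ∀ A : SL, A * j₀ = j₀ * A := by decide +kernel

theorem q8_four : ∀ A : SL, A ∈ q8 → A * A = 1 ∨ A * A = j₀ := by decide +kernel

variable {G : Type*} [Group G] {z : G} {φ : SL × SL →* G}

theorem Pair.eq_iff (P : Pair z φ) (p q : SL × SL) :
    φ p = φ q ↔ p = q ∨ p = q * (j₀, j₀) := by
  have h : φ p = φ q ↔ φ (q⁻¹ * p) = 1 := by rw [map_mul, map_inv, inv_mul_eq_one, eq_comm]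
  rw [h, P.ker, inv_mul_eq_one, inv_mul_eq_iff_eq_mul, eq_comm]

theorem Pair.inj₁ (P : Pair z φ) {A B : SL} (h : φ (A, 1) = φ (B, 1)) : A = B := by
  rcases (P.eq_iff _ _).1 h with e | e
  · exact (Prod.ext_iff.1 e).1
  · exact absurd (Prod.ext_iff.1 e).2.symm (by simpa using j₀_facts.2.1)

theorem Pair.inj₂ (P : Pair z φ) {A B : SL} (h : φ (1, A) = φ (1, B)) : A = B := by
  rcases (P.eq_iff _ _).1 h with e | e
  · exact (Prod.ext_iff.1 e).2
  · exact absurd (Prod.ext_iff.1 e).1.symm (by simpa using j₀_facts.2.1)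

theorem Pair.jj (P : Pair z φ) : φ (j₀, j₀) = 1 := (P.ker _).2 (Or.inr rfl)

theorem Pair.z_mem (P : Pair z φ) : z ∈ φ.range := ⟨(j₀, 1), P.zeq⟩

theorem Pair.zeq₂ (P : Pair z φ) : φ (1, j₀) = z := by
  rw [← P.zeq, P.eq_iff]; right
  exact Prod.ext j₀_facts.1.symm (one_mul _).symm

/-- An element of order three of the image lies in one factor, if it commutes with two elements
that do not commute. -/
theorem Pair.one_factor (P : Pair z φ) (y : SL × SL) (hy : φ y * φ y * φ y = 1) (p q : SL × SL)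
    (hp : φ p * φ y = φ y * φ p) (hq : φ q * φ y = φ y * φ q) (hpq : φ p * φ q ≠ φ q * φ p) :
    ∃ w : SL, w * w * w = 1 ∧ (φ y = φ (w, 1) ∨ φ y = φ (1, w)) := by
  wlog h3 : y * y * y = 1 generalizing y with H
  · rw [← map_mul, ← map_mul, P.ker] at hy
    rcases hy with e | e
    · exact absurd e h3
    have hy' : φ (y * (j₀, j₀)) = φ y := by rw [map_mul, P.jj, mul_one]
    obtain ⟨w, hw, hw'⟩ := H (y * (j₀, j₀)) (by rw [hy', ← map_mul, ← map_mul, e, P.jj])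
      (by rw [hy']; exact hp) (by rw [hy']; exact hq) (by
        obtain ⟨y₁, y₂⟩ := y
        simp only [Prod.mk_mul_mk, Prod.mk.injEq, Prod.mk_eq_one] at e ⊢
        have key : ∀ A : SL, A * A * A = j₀ → A * j₀ * (A * j₀) * (A * j₀) = 1 := by decide +kernel
        exact ⟨key _ e.1, key _ e.2⟩)
    exact ⟨w, hw, hy' ▸ hw'⟩
  obtain ⟨y₁, y₂⟩ := y
  simp only [Prod.mk_mul_mk, Prod.mk_eq_one] at h3
  have hex : ∀ r : SL × SL, φ r * φ (y₁, y₂) = φ (y₁, y₂) * φ r → r.1 * y₁ = y₁ * r.1 ∧ r.2 * y₂ = y₂ * r.2 := by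
    intro r hr
    rw [← map_mul, ← map_mul, P.eq_iff] at hr
    rcases hr with e | e
    · exact ⟨(Prod.ext_iff.1 e).1, (Prod.ext_iff.1 e).2⟩
    · exact absurd (Prod.ext_iff.1 e).1 (three_conj _ _ h3.1)
  by_cases e1 : y₁ = 1
  · exact ⟨y₂, h3.2, Or.inr (by rw [e1])⟩
  by_cases e2 : y₂ = 1
  · exact ⟨y₁, h3.1, Or.inl (by rw [e2])⟩
  refine absurd ?_ hpq
  rw [← map_mul, ← map_mul]
  exact congrArg φ (Prod.ext (three_cen _ h3.1 e1 _ _ (hex p hp).1 (hex q hq).1)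
    (three_cen _ h3.2 e2 _ _ (hex p hp).2 (hex q hq).2))

/-- The type of an element of the centraliser. -/
def HasType (φ : SL × SL →* G) (t : Ty) (g : G) : Prop :=
  ∃ n : SL × SL, ∀ p, g * φ p * g⁻¹ = φ n * φ (act t p) * (φ n)⁻¹

theorem HasType.mul {t t' : Ty} {g g' : G} (h : HasType φ t g) (h' : HasType φ t' g') :
    HasType φ (tmul t t') (g * g') := by
  obtain ⟨n, hn⟩ := h
  obtain ⟨n', hn'⟩ := h'
  refine ⟨n * act t n', fun p => ?_⟩
  calc g * g' * φ p * (g * g')⁻¹ = g * (φ n' * φ (act t' p) * (φ n')⁻¹) * g⁻¹ := by rw [← hn']; group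
    _ = φ n * φ (act t (n' * act t' p * n'⁻¹)) * (φ n)⁻¹ := by
      rw [← hn, map_mul, map_mul, map_inv]
    _ = _ := by
      rw [act_mul, act_mul, act_inv, act_act]
      simp only [map_mul, map_inv, mul_inv_rev, mul_assoc]

theorem hasType_one_of_range (n : SL × SL) : HasType φ t₁ (φ n) := ⟨n, fun _ => rfl⟩

theorem hasType_one : HasType φ t₁ (1 : G) := ⟨1, fun p => by simp [act_one]⟩

theorem tw_ne {N : SL} {e e' : Bool} (h : N * tw e h₀ * N⁻¹ = tw e' h₀ ∨ N * tw e h₀ * N⁻¹ = tw e' h₀ * j₀) :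
    e = e' := by
  have key : ∀ N : SL, ∀ e e' : Bool,
      (N * tw e h₀ * N⁻¹ = tw e' h₀ ∨ N * tw e h₀ * N⁻¹ = tw e' h₀ * j₀) → e = e' := by decide +kernel
  exact key N e e' h

theorem tw_ne_one (N : SL) (e : Bool) : N * tw e h₀ * N⁻¹ ≠ 1 ∧ N * tw e h₀ * N⁻¹ ≠ j₀ := by
  obtain ⟨-, -, a, b, c, d⟩ := outer_ne N
  cases e
  · exact ⟨b, a⟩
  · exact ⟨d, c⟩

theorem Pair.type_unique (P : Pair z φ) {t t' : Ty} {g : G} (h : HasType φ t g) (h' : HasType φ t' g) :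
    t = t' := by
  obtain ⟨n, hn⟩ := h
  obtain ⟨n', hn'⟩ := h'
  have key : ∀ p, φ (n'⁻¹ * n * act t p * (n'⁻¹ * n)⁻¹) = φ (act t' p) := fun p => by
    have e := (hn p).symm.trans (hn' p)
    calc φ (n'⁻¹ * n * act t p * (n'⁻¹ * n)⁻¹) = (φ n')⁻¹ * (φ n * φ (act t p) * (φ n)⁻¹) * φ n' := by
          simp only [map_mul, map_inv, mul_inv_rev, inv_inv, mul_assoc]
      _ = φ (act t' p) := by rw [e]; group
  have k1 := key (h₀, 1)
  have k2 := key (1, h₀)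
  rw [P.eq_iff, act_fac₁, act_fac₁] at k1
  rw [P.eq_iff, act_fac₂, act_fac₂] at k2
  obtain ⟨a, b, c⟩ := t
  obtain ⟨a', b', c'⟩ := t'
  generalize n'⁻¹ * n = N at k1 k2
  obtain ⟨N₁, N₂⟩ := N
  have n1 := tw_ne_one N₁
  have n2 := tw_ne_one N₂
  cases a <;> cases a' <;>
    simp only [Bool.false_eq_true, if_true, if_false, Prod.mk_mul_mk, Prod.inv_mk, mul_one, one_mul,
      mul_inv_cancel, Prod.mk.injEq] at k1 k2
  · obtain rfl : b = b' := tw_ne (N := N₁) (k1.imp And.left And.left)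
    obtain rfl : c = c' := tw_ne (N := N₂) (k2.imp And.right And.right)
    rfl
  · rcases k1 with ⟨e, -⟩ | ⟨e, -⟩
    · exact absurd e (n1 b).1
    · exact absurd e (n1 b).2
  · rcases k1 with ⟨-, e⟩ | ⟨-, e⟩
    · exact absurd e (n2 c).1
    · exact absurd e (n2 c).2
  · obtain rfl : c = c' := tw_ne (N := N₂) (k1.imp And.right And.right)
    obtain rfl : b = b' := tw_ne (N := N₁) (k2.imp And.left And.left)
    rfl

theorem gens_ext (f f' : SL →* G) (ha : f a₀ = f' a₀) (hh : f h₀ = f' h₀) (A : SL) : f A = f' A := by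
  have := MonoidHom.eq_of_eqOn_dense closure_gens (f := f) (g := f') (fun x hx => by
    rcases hx with rfl | rfl
    · exact ha
    · exact hh)
  rw [this]

/-- A conjugated factor is one of the factors, twisted. -/
theorem Pair.factor_map (P : Pair z φ) (κ : SL →* SL × SL) (f : SL →* G)
    (hf : ∀ A, f A = φ (κ A)) (g : G) (f' : SL →* G) (hf' : Function.Injective f')
    (hg : ∀ A, g * f' A * g⁻¹ ∈ f.range) (hinj : ∀ A B, φ (κ A) = φ (κ B) → A = B) :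
    ∃ N : SL, ∃ e : Bool, ∀ A, g * f' A * g⁻¹ = f (N * tw e A * N⁻¹) := by
  choose k hk using hg
  have finj : Function.Injective f := fun A B h => hinj A B (by rw [← hf, ← hf]; exact h)
  have kmul : ∀ A B, k (A * B) = k A * k B := fun A B => finj (by
    rw [map_mul, hk, hk, hk, map_mul]; group)
  have kinj : Function.Injective k := fun A B h => hf' (by
    have := congrArg f h
    rw [hk, hk] at this
    exact mul_left_cancel (mul_right_cancel this))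
  let k' : SL →* SL := MonoidHom.mk' k kmul
  have k1 : k 1 = 1 := map_one k'
  have hj : ∀ A, A * A = 1 → A ≠ 1 → k A = j₀ := fun A h h' => by
    have key : ∀ B : SL, B * B = 1 → B ≠ 1 → B = j₀ := by decide +kernel
    refine key _ (by rw [← kmul, h, k1]) (fun e => h' (kinj (e.trans k1.symm)))
  obtain ⟨g1, g2, g3, g4, -⟩ := gens_facts
  have kj : k j₀ = j₀ := hj _ j₀_facts.1 j₀_facts.2.1
  obtain ⟨N, e, hN1, hN2⟩ := aut_ex (k a₀) (k h₀) (by rw [← kmul, g1, kj]) (by rw [← kmul, ← kmul, g2, k1])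
    (fun e => g3 (kinj (e.trans k1.symm))) (by rw [← kmul, ← kmul, ← kmul, g4, kj])
  refine ⟨N, e, fun A => ?_⟩
  let d : SL →* SL := MonoidHom.mk' (fun A => N * tw e A * N⁻¹) (fun A B => by
    cases e <;> simp [tw, τ_mul])
  have := gens_ext (f.comp k') (f.comp d) (congrArg f hN1) (congrArg f hN2) A
  rw [← hk]; exact this

/-- Every element of the centraliser has a type. -/
theorem Pair.exists_type (P : Pair z φ) {g : G} (hg : g ∈ Subgroup.centralizer ({z} : Set G)) :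
    ∃ t, HasType φ t g := by
  let ι₁ : SL →* G := φ.comp (MonoidHom.inl SL SL)
  let ι₂ : SL →* G := φ.comp (MonoidHom.inr SL SL)
  have hi₁ : Function.Injective ι₁ := fun A B h => P.inj₁ h
  have hi₂ : Function.Injective ι₂ := fun A B h => P.inj₂ h
  have hcomm : ∀ A B, Commute (ι₁ A) (ι₂ B) := fun A B => by
    show φ (A, 1) * φ (1, B) = φ (1, B) * φ (A, 1)
    rw [← map_mul, ← map_mul, Prod.mk_mul_mk, Prod.mk_mul_mk]; simp
  obtain ⟨g1, g2, g3, g4, g5⟩ := gens_facts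
  have hnc : ∀ A B : SL, A * B ≠ B * A → ι₁ A * ι₁ B ≠ ι₁ B * ι₁ A ∧ ι₂ A * ι₂ B ≠ ι₂ B * ι₂ A :=
    fun A B h => ⟨fun e => h (hi₁ (by rw [map_mul, map_mul, e])), fun e => h (hi₂ (by rw [map_mul, map_mul, e]))⟩
  have hne : a₀ * h₀ ≠ h₀ * a₀ := fun e => g5 (mul_inv_eq_iff_eq_mul.2 e)
  -- images of the elements of order three lie in one factor
  have hfac : ∀ (f f' : SL →* G), (∀ A B, Commute (f A) (f' B)) → (f' a₀ * f' h₀ ≠ f' h₀ * f' a₀) →
      (∀ A, f A ∈ φ.range) → (∀ A, f' A ∈ φ.range) →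
      ∀ A, A * A * A = 1 → ∃ w : SL, g * f A * g⁻¹ = ι₁ w ∨ g * f A * g⁻¹ = ι₂ w := by
    intro f f' hc hn hr hr' A hA
    obtain ⟨p, hp⟩ := hr' a₀
    obtain ⟨q, hq⟩ := hr' h₀
    obtain ⟨y, hy⟩ := hr A
    obtain ⟨p', hp'⟩ := P.normal g hg p
    obtain ⟨q', hq'⟩ := P.normal g hg q
    obtain ⟨y', hy'⟩ := P.normal g hg y
    rw [hp] at hp'; rw [hq] at hq'; rw [hy] at hy'
    obtain ⟨w, -, hw⟩ := P.one_factor y' (by
      rw [hy']
      calc g * f A * g⁻¹ * (g * f A * g⁻¹) * (g * f A * g⁻¹) = g * (f A * f A * f A) * g⁻¹ := by group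
        _ = 1 := by rw [← map_mul, ← map_mul, hA]; simp) p' q'
      (by rw [hp', hy']; calc _ = g * (f' a₀ * f A) * g⁻¹ := by group
                              _ = _ := by rw [← (hc A a₀).eq]; group)
      (by rw [hq', hy']; calc _ = g * (f' h₀ * f A) * g⁻¹ := by group
                              _ = _ := by rw [← (hc A h₀).eq]; group)
      (by
        rw [hp', hq']
        intro e
        apply hn
        have : g * (f' a₀ * f' h₀) * g⁻¹ = g * (f' h₀ * f' a₀) * g⁻¹ := by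
          calc _ = g * f' a₀ * g⁻¹ * (g * f' h₀ * g⁻¹) := by group
            _ = _ := by rw [e]; group
        exact mul_left_cancel (mul_right_cancel this))
    refine ⟨w, ?_⟩
    rcases hw with e | e
    · exact Or.inl (hy'.symm.trans e)
    · exact Or.inr (hy'.symm.trans e)
  have hr₁ : ∀ A, ι₁ A ∈ φ.range := fun A => ⟨_, rfl⟩
  have hr₂ : ∀ A, ι₂ A ∈ φ.range := fun A => ⟨_, rfl⟩
  have h₁ := hfac ι₁ ι₂ hcomm (hnc _ _ hne).2 hr₁ hr₂
  have h₂ := hfac ι₂ ι₁ (fun A B => (hcomm B A).symm) (hnc _ _ hne).1 hr₂ hr₁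
  -- the factors are normal in the image
  have hnorm₁ : ∀ r ∈ φ.range, ∀ w, r * ι₁ w * r⁻¹ ∈ ι₁.range := by
    rintro _ ⟨⟨r₁, r₂⟩, rfl⟩ w
    refine ⟨r₁ * w * r₁⁻¹, ?_⟩
    show φ _ = φ (r₁, r₂) * φ (w, 1) * (φ (r₁, r₂))⁻¹
    rw [← map_inv, ← map_mul, ← map_mul]; simp
  have hnorm₂ : ∀ r ∈ φ.range, ∀ w, r * ι₂ w * r⁻¹ ∈ ι₂.range := by
    rintro _ ⟨⟨r₁, r₂⟩, rfl⟩ w
    refine ⟨r₂ * w * r₂⁻¹, ?_⟩
    show φ _ = φ (r₁, r₂) * φ (1, w) * (φ (r₁, r₂))⁻¹
    rw [← map_inv, ← map_mul, ← map_mul]; simp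
  -- a whole factor goes into the factor that contains the image of one element
  have hwhole : ∀ (f ι : SL →* G), (∀ A, f A ∈ φ.range) → (∀ r ∈ φ.range, ∀ w, r * ι w * r⁻¹ ∈ ι.range) →
      g * f h₀ * g⁻¹ ∈ ι.range → ∀ A, g * f A * g⁻¹ ∈ ι.range := by
    intro f ι hr hn hh A
    have hx : g * f (a₀ * h₀ * a₀⁻¹) * g⁻¹ ∈ ι.range := by
      obtain ⟨r, hr⟩ := hr a₀
      obtain ⟨r', hr'⟩ := P.normal g hg r
      obtain ⟨w, hw⟩ := hh
      have := hn (g * f a₀ * g⁻¹) (by rw [← hr]; exact ⟨r', hr'⟩) w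
      rw [hw] at this
      convert this using 1
      rw [map_mul, map_mul, map_inv]; group
    have key : ∀ A : SL, ∃ i j k l : Fin 3,
        A = h₀ ^ i.val * (a₀ * h₀ * a₀⁻¹) ^ j.val * h₀ ^ k.val * (a₀ * h₀ * a₀⁻¹) ^ l.val := by
      decide +kernel
    obtain ⟨i, j, k, l, rfl⟩ := key A
    have hhom : ∀ B, g * f B * g⁻¹ = ((MulAut.conj g).toMonoidHom.comp f) B := fun B => rfl
    rw [hhom] at hh hx ⊢
    rw [map_mul, map_mul, map_mul, map_pow, map_pow, map_pow, map_pow]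
    exact mul_mem (mul_mem (mul_mem (pow_mem hh _) (pow_mem hx _)) (pow_mem hh _)) (pow_mem hx _)
  -- the two images are in different factors
  have hdiff : ∀ w w' : SL, ∀ ι : SL →* G, Function.Injective ι → g * ι₁ h₀ * g⁻¹ = ι w →
      g * ι₂ h₀ * g⁻¹ = ι w' → False := by
    intro w w' ι hi e e'
    have hcube : ∀ f : SL →* G, ∀ v, g * f h₀ * g⁻¹ = ι v → v * v * v = 1 := fun f v e => hi (by
      rw [map_mul, map_mul, ← e, map_one]
      calc _ = g * (f h₀ * f h₀ * f h₀) * g⁻¹ := by group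
        _ = 1 := by rw [← map_mul, ← map_mul, g2]; simp)
    have hw1 : w ≠ 1 := fun h => by
      rw [h, map_one] at e
      exact g3 (hi₁ (by rw [map_one]; exact conj_eq_one_iff.1 e))
    have hww : w * w' = w' * w := hi (by
      rw [map_mul, map_mul, ← e, ← e']
      calc _ = g * (ι₁ h₀ * ι₂ h₀) * g⁻¹ := by group
        _ = _ := by rw [(hcomm h₀ h₀).eq]; group)
    obtain ⟨m, hm⟩ : ∃ m, ι₂ h₀ = ι₁ m := by
      rcases three_pair w w' (hcube _ _ e) hw1 (hcube _ _ e') hww with h | h | h <;> rw [h] at e'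
      · rw [map_one] at e'; exact ⟨1, by rw [map_one]; exact conj_eq_one_iff.1 e'⟩
      · exact ⟨h₀, mul_left_cancel (mul_right_cancel (e'.trans e.symm))⟩
      · refine ⟨h₀ * h₀, mul_left_cancel (a := g) (mul_right_cancel (b := g⁻¹) (e'.trans ?_))⟩
        rw [map_mul, ← e, map_mul]; group
    rcases (P.eq_iff (1, h₀) (m, 1)).1 hm with e'' | e''
    · exact g3 (Prod.ext_iff.1 e'').2
    · have := (Prod.ext_iff.1 e'').2
      simp only [Prod.snd_mul, one_mul] at this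
      exact (by decide +kernel : h₀ ≠ j₀) this
  obtain ⟨w, hw⟩ := h₁ h₀ g2
  obtain ⟨w', hw'⟩ := h₂ h₀ g2
  rcases hw with e | e <;> rcases hw' with e' | e'
  · exact (hdiff w w' ι₁ hi₁ e e').elim
  · obtain ⟨N₁, e₁, H₁⟩ := P.factor_map (MonoidHom.inl SL SL) ι₁ (fun _ => rfl) g ι₁ hi₁
      (hwhole ι₁ ι₁ hr₁ hnorm₁ ⟨w, e.symm⟩) (fun A B h => P.inj₁ h)
    obtain ⟨N₂, e₂, H₂⟩ := P.factor_map (MonoidHom.inr SL SL) ι₂ (fun _ => rfl) g ι₂ hi₂
      (hwhole ι₂ ι₂ hr₂ hnorm₂ ⟨w', e'.symm⟩) (fun A B h => P.inj₂ h)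
    refine ⟨(false, e₁, e₂), (N₁, N₂), fun ⟨A, B⟩ => ?_⟩
    calc g * φ (A, B) * g⁻¹ = (g * ι₁ A * g⁻¹) * (g * ι₂ B * g⁻¹) := by
          show g * φ (A, B) * g⁻¹ = g * φ (A, 1) * g⁻¹ * (g * φ (1, B) * g⁻¹)
          rw [show ((A, B) : SL × SL) = (A, 1) * (1, B) by simp, map_mul]; group
      _ = _ := by
        rw [H₁, H₂]
        show φ _ * φ _ = φ _ * φ _ * (φ _)⁻¹
        rw [← map_inv, ← map_mul, ← map_mul, ← map_mul]
        simp [act]
  · obtain ⟨N₂, e₂, H₁⟩ := P.factor_map (MonoidHom.inr SL SL) ι₂ (fun _ => rfl) g ι₁ hi₁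
      (hwhole ι₁ ι₂ hr₁ hnorm₂ ⟨w, e.symm⟩) (fun A B h => P.inj₂ h)
    obtain ⟨N₁, e₁, H₂⟩ := P.factor_map (MonoidHom.inl SL SL) ι₁ (fun _ => rfl) g ι₂ hi₂
      (hwhole ι₂ ι₁ hr₂ hnorm₁ ⟨w', e'.symm⟩) (fun A B h => P.inj₁ h)
    refine ⟨(true, e₁, e₂), (N₁, N₂), fun ⟨A, B⟩ => ?_⟩
    calc g * φ (A, B) * g⁻¹ = (g * ι₁ A * g⁻¹) * (g * ι₂ B * g⁻¹) := by
          show g * φ (A, B) * g⁻¹ = g * φ (A, 1) * g⁻¹ * (g * φ (1, B) * g⁻¹)
          rw [show ((A, B) : SL × SL) = (A, 1) * (1, B) by simp, map_mul]; group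
      _ = _ := by
        rw [H₁, H₂]
        show φ _ * φ _ = φ _ * φ _ * (φ _)⁻¹
        rw [← map_inv, ← map_mul, ← map_mul, ← map_mul]
        simp [act]
  · exact (hdiff w w' ι₂ hi₂ e e').elim

/-- An element of trivial type lies in the image. -/
theorem Pair.range_of_type_one (P : Pair z φ) {g : G} (hg : g ∈ Subgroup.centralizer ({z} : Set G))
    (h : HasType φ t₁ g) : g ∈ φ.range := by
  obtain ⟨n, hn⟩ := h
  obtain ⟨q, -, hq⟩ := P.self ((φ n)⁻¹ * g) (mul_mem (inv_mem (P.mem n)) hg) (fun p _ => by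
    have := hn p
    rw [act_one] at this
    calc (φ n)⁻¹ * g * φ p = (φ n)⁻¹ * (g * φ p * g⁻¹) * g := by group
      _ = φ p * ((φ n)⁻¹ * g) := by rw [this]; group)
  exact ⟨n * q, by rw [map_mul, hq]; group⟩

/-- An element of the image has trivial type. -/
theorem Pair.type_one_of_range (P : Pair z φ) {g : G} {t : Ty} (hg : g ∈ φ.range) (h : HasType φ t g) :
    t = t₁ := by
  obtain ⟨n, rfl⟩ := hg
  exact P.type_unique h (hasType_one_of_range n)

end CfsgLib.U43Type
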